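import Cfsg.Agent.Lib.ParabolicPair.Pair
import Mathlib.Algebra.CharP.Lemmas

/-!
# The normaliser of `J` is semilinear (S3091)

* `Conf` : a pair with `C(V₁) = V₁`, `C(V₂) = V₂`
* `Conf.σZ`, `Conf.kZ` : the action on `Z`
* `Conf.actB`, `Conf.actS` : the action on `J/Z` of side-fixing and of swapping elements
* `Conf.mem_J_of` : a 2-element of trivial type lies in `J`
-/

set_option autoImplicit false

namespace Cfsg.Agent.ParabolicPair

/-- A pair with self-centralising modules. -/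
structure Conf (G : Type*) [Group G] (F : Type*) [Field F] [Fintype F] extends Pair G F where
  /-- The degree of the field. -/
  e : ℕ
  he : 2 ≤ e
  hF : Fintype.card F = 2 ^ e
  cent₁ : Subgroup.centralizer (V₁ : Set G) ≤ V₁
  cent₂ : Subgroup.centralizer (V₂ : Set G) ≤ V₂

namespace Conf

variable {G : Type*} [Group G] {F : Type*} [Field F] [Fintype F] (C : Conf G F)

/-- The halves exchanged. -/
def swap : Conf G F where
  toPair := C.toPair.swap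
  e := C.e
  he := C.he
  hF := C.hF
  cent₁ := C.cent₂
  cent₂ := C.cent₁

include C in
theorem four_le : 4 ≤ Fintype.card F := by
  rw [C.hF]
  calc (4 : ℕ) = 2 ^ 2 := rfl
    _ ≤ 2 ^ C.e := Nat.pow_le_pow_right (by norm_num) C.he

variable [CharP F 2] [Finite G]

theorem semiZ_B {g : G} (hg : g ∈ Subgroup.normalizer (C.J : Set G))
    (h1 : g ∈ Subgroup.normalizer (C.V₁ : Set G)) (c : F) :
    g * C.H₁.ax c * g⁻¹ = C.H₁.ax (C.H₁.co (g * C.H₁.ax 1 * g⁻¹) 0 * C.H₁.σ g c) := by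
  have hz := nconj (C.N_le_NZ hg) (C.ax_mem_Z 1)
  have h : C.H₁.tr g ![1, 0] = ![C.H₁.co (g * C.H₁.ax 1 * g⁻¹) 0, 0] := NatSL2.vec_eq rfl ((C.mem_Z1 hz.1).1 hz)
  conv_lhs => rw [Half.ax, ← C.H₁.tr_el h1, show (![c, 0] : Fin 2 → F) = c • ![1, 0] by simp, C.H₁.semi h1, h]
  rw [Half.ax]
  congr 1
  simp [mul_comm]

theorem exists_semiZ {g : G} (hg : g ∈ Subgroup.normalizer (C.J : Set G)) :
    ∃ (σ : F ≃+* F) (k : F), k ≠ 0 ∧ ∀ c, g * C.H₁.ax c * g⁻¹ = C.H₁.ax (k * σ c) := by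
  classical
  have inj : ∀ (a : G) (x : F), a * C.H₁.ax x * a⁻¹ = 1 → x = 0 := fun a x h =>
    C.H₁.ax_inj ((conj_eq_one_iff.1 h).trans C.H₁.ax_zero.symm)
  have kne : ∀ (a : G) (σ : F ≃+* F) (k : F), (∀ c, a * C.H₁.ax c * a⁻¹ = C.H₁.ax (k * σ c)) → k ≠ 0 := by
    intro a σ k h e0
    have h' := h 1
    rw [e0, zero_mul, C.H₁.ax_zero] at h'
    exact one_ne_zero (inj a 1 h')
  by_cases h1 : g ∈ Subgroup.normalizer (C.V₁ : Set G)
  · exact ⟨_, _, kne g _ _ (C.semiZ_B hg h1), C.semiZ_B hg h1⟩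
  have hNi := (Subgroup.normalizer (C.J : Set G)).inv_mem hg
  obtain ⟨u, hu⟩ := IsCyclic.exists_generator (α := Fˣ)
  obtain ⟨m, hm, hmJ, hmt⟩ := C.H₁.exists_torus u.ne_zero
  have hm' : g * m * g⁻¹ ∈ Subgroup.normalizer (C.J : Set G) :=
    mul_mem (mul_mem hg hmJ) hNi
  have hswap := (C.side hg).resolve_left fun h => h1 h.1
  have hm'1 : g * m * g⁻¹ ∈ Subgroup.normalizer (C.V₁ : Set G) := by
    rw [Subgroup.mem_normalizer_iff_map_conj_eq]
    have hm2 := C.N2_of_N1 hmJ (C.H₁.nor hm)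
    conv_rhs => rw [← hswap.2, ← Subgroup.mem_normalizer_iff_map_conj_eq.1 hm2]
    conv_lhs => rw [← hswap.2]
    simp only [Subgroup.map_map]
    congr 1
    ext x
    simp [mul_assoc]
  have hmax : ∀ c, m * C.H₁.ax c * m⁻¹ = C.H₁.ax ((u : F) * c) := fun c => by
    rw [Half.ax, ← C.H₁.tr_el (C.H₁.nor hm), hmt]
    simp [Half.ax]
  let f : F → F := fun c => C.H₁.co (g * C.H₁.ax c * g⁻¹) 0
  have hf : ∀ c, g * C.H₁.ax c * g⁻¹ = C.H₁.ax (f c) := fun c => C.eq_axis (nconj (C.N_le_NZ hg) (C.ax_mem_Z c))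
  have finj : Function.Injective f := fun a b e => C.H₁.ax_inj (by
    have h : g * C.H₁.ax a * g⁻¹ = g * C.H₁.ax b * g⁻¹ := by rw [hf, hf, e]
    exact mul_left_cancel (mul_right_cancel h))
  have fsurj : Function.Surjective f := Finite.injective_iff_surjective.1 finj
  have fadd : ∀ a b, f (a + b) = f a + f b := fun a b => C.H₁.ax_inj (by
    rw [← hf, C.H₁.ax_add, C.H₁.ax_add, ← hf, ← hf]; group)
  have f0 : f 0 = 0 := by
    have h := fadd 0 0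
    rw [add_zero] at h
    simpa using h
  set k' := C.H₁.co ((g * m * g⁻¹) * C.H₁.ax 1 * (g * m * g⁻¹)⁻¹) 0 with hk'
  have hb := C.semiZ_B hm' hm'1
  rw [← hk'] at hb
  have conjf : ∀ c, k' * C.H₁.σ (g * m * g⁻¹) (f c) = f ((u : F) * c) := fun c => C.H₁.ax_inj (by
    rw [← hb, ← hf, ← hf, ← hmax]
    group)
  have hit : ∀ n c, (fun x => k' * C.H₁.σ (g * m * g⁻¹) x)^[n] (f c) = f ((u : F) ^ n * c) := by
    intro n c
    induction n with
    | zero => simp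
    | succ n ih =>
      rw [Function.iterate_succ_apply', ih]
      show k' * C.H₁.σ (g * m * g⁻¹) (f _) = _
      rw [conjf, ← mul_assoc, ← pow_succ']
  obtain ⟨c₁, hc₁⟩ := fsurj 1
  have hc₁0 : c₁ ≠ 0 := fun e => by rw [e, f0] at hc₁; exact zero_ne_one hc₁
  have hσ1 : C.H₁.σ (g * m * g⁻¹) = 1 := by
    refine eq_one_of_gen (kne _ _ _ hb) fun n hn hfix => ?_
    rw [← hc₁, hit] at hfix
    have h := finj hfix
    have hu' : u ^ n = 1 := Units.ext (by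
      rw [Units.val_pow_eq_pow_val, Units.val_one]
      exact mul_right_cancel₀ hc₁0 (h.trans (one_mul _).symm))
    have ho : orderOf u = Fintype.card F - 1 := by
      rw [orderOf_eq_card_of_forall_mem_zpowers hu, Nat.card_eq_fintype_card, Fintype.card_units]
    exact ho ▸ Nat.le_of_dvd hn (orderOf_dvd_of_pow_eq_one hu')
  rw [hσ1] at hit conjf
  have hpow : ∀ (n : ℕ) c, f ((u : F) ^ n * c) = k' ^ n * f c := by
    intro n
    induction n with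
    | zero => simp
    | succ n ih =>
      intro c
      rw [pow_succ', pow_succ', mul_assoc, ← conjf]
      show k' * f _ = _
      rw [ih, mul_assoc]
  have fne : f 1 ≠ 0 := fun e => one_ne_zero (finj (e.trans f0.symm))
  have hmul : ∀ x y, f (x * y) * f 1 = f x * f y := by
    intro x y
    by_cases hx : x = 0
    · rw [hx, zero_mul, f0, zero_mul, zero_mul]
    obtain ⟨n, hn⟩ := (mem_powers_iff_mem_zpowers (x := u) (y := Units.mk0 x hx)).2 (hu _)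
    have hx' : x = (u : F) ^ n := by
      have := congrArg (fun z : Fˣ => (z : F)) hn
      simpa using this.symm
    subst hx'
    have h1' := hpow n 1
    rw [mul_one] at h1'
    rw [hpow n y, h1']
    ring
  let r : F →+* F := RingHom.mk' ⟨⟨fun c => f c / f 1, div_self fne⟩, fun x y => by
      show f (x * y) / f 1 = f x / f 1 * (f y / f 1)
      rw [div_mul_div_comm, ← hmul]
      field_simp⟩
    fun x y => by
      show f (x + y) / f 1 = f x / f 1 + f y / f 1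
      rw [fadd, add_div]
  refine ⟨RingEquiv.ofBijective r (Finite.injective_iff_bijective.1 r.injective), f 1, fne, fun c => ?_⟩
  rw [hf]
  congr 1
  show f c = f 1 * (f c / f 1)
  field_simp

open Classical in
/-- The field automorphism on `Z`. -/
noncomputable def σZ (g : G) : F ≃+* F :=
  if h : g ∈ Subgroup.normalizer (C.J : Set G) then (C.exists_semiZ h).choose else 1

open Classical in
/-- The multiplier on `Z`. -/
noncomputable def kZ (g : G) : F :=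
  if h : g ∈ Subgroup.normalizer (C.J : Set G) then (C.exists_semiZ h).choose_spec.choose else 1

theorem specZ {g : G} (hg : g ∈ Subgroup.normalizer (C.J : Set G)) :
    C.kZ g ≠ 0 ∧ ∀ c, g * C.H₁.ax c * g⁻¹ = C.H₁.ax (C.kZ g * C.σZ g c) := by
  rw [kZ, σZ, dif_pos hg, dif_pos hg]
  exact (C.exists_semiZ hg).choose_spec.choose_spec

theorem uniqueZ {g : G} (hg : g ∈ Subgroup.normalizer (C.J : Set G)) {σ : F ≃+* F} {k : F}
    (h : ∀ c, g * C.H₁.ax c * g⁻¹ = C.H₁.ax (k * σ c)) : C.σZ g = σ ∧ C.kZ g = k := by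
  obtain ⟨hk, hs⟩ := C.specZ hg
  have e : ∀ c, C.kZ g * C.σZ g c = k * σ c := fun c => C.H₁.ax_inj ((hs c).symm.trans (h c))
  have e1 : C.kZ g = k := by simpa using e 1
  exact ⟨RingEquiv.ext fun c => mul_left_cancel₀ hk ((e c).trans (by rw [e1])), e1⟩

theorem mulZ {g h : G} (hg : g ∈ Subgroup.normalizer (C.J : Set G))
    (hh : h ∈ Subgroup.normalizer (C.J : Set G)) :
    C.σZ (g * h) = C.σZ g * C.σZ h ∧ C.kZ (g * h) = C.kZ g * C.σZ g (C.kZ h) :=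
  C.uniqueZ (mul_mem hg hh) fun c => by
    rw [show g * h * C.H₁.ax c * (g * h)⁻¹ = g * (h * C.H₁.ax c * h⁻¹) * g⁻¹ by group,
      (C.specZ hh).2, (C.specZ hg).2, map_mul, mul_assoc]
    rfl

theorem σZ_one : C.σZ 1 = 1 :=
  (C.uniqueZ (one_mem _) (k := 1) fun c => by simp).1

theorem σZ_inv {g : G} (hg : g ∈ Subgroup.normalizer (C.J : Set G)) : C.σZ g⁻¹ = (C.σZ g)⁻¹ :=
  eq_inv_of_mul_eq_one_left (by rw [← (C.mulZ (inv_mem hg) hg).1, inv_mul_cancel, C.σZ_one])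

theorem σZ_J {x : G} (hx : x ∈ C.J) : C.σZ x = 1 :=
  (C.uniqueZ (Subgroup.le_normalizer hx) (k := 1) fun c => by
    rw [← C.Z_central (C.ax_mem_Z c) hx, mul_inv_cancel_right]
    simp).1

theorem σZ_eq {g : G} (hg : g ∈ Subgroup.normalizer (C.J : Set G))
    (h1 : g ∈ Subgroup.normalizer (C.V₁ : Set G)) : C.σZ g = C.H₁.σ g :=
  (C.uniqueZ hg (C.semiZ_B hg h1)).1

theorem centralizes_Z {g : G} (hg : g ∈ Subgroup.normalizer (C.J : Set G)) (hσ : C.σZ g = 1) {c₀ : F}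
    (hc : c₀ ≠ 0) (h : g * C.H₁.ax c₀ * g⁻¹ = C.H₁.ax c₀) {z : G} (hz : z ∈ C.Z) : g * z * g⁻¹ = z := by
  have hk : C.kZ g = 1 := by
    have h' := (C.specZ hg).2 c₀
    rw [h, hσ] at h'
    exact mul_right_cancel₀ hc ((C.H₁.ax_inj h').symm.trans (one_mul _).symm)
  rw [C.eq_axis hz, (C.specZ hg).2, hk, hσ, one_mul]
  rfl

/-- A side-fixing element in coordinates. -/
theorem actB {g : G} (hg : g ∈ Subgroup.normalizer (C.J : Set G))
    (h1 : g ∈ Subgroup.normalizer (C.V₁ : Set G)) :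
    ∃ k₂ : F, k₂ ≠ 0 ∧ ∀ x ∈ C.J, C.H₁.al (g * x * g⁻¹) = C.kZ g / k₂ * C.σZ g (C.H₁.al x) ∧
      C.be (g * x * g⁻¹) = k₂ * C.σZ g (C.be x) := by
  have h2 := C.N2_of_N1 hg h1
  obtain ⟨hk, hs⟩ := C.specZ hg
  have hb : ∀ v ∈ C.V₁, C.be (g * v * g⁻¹) = C.H₁.tr g ![0, 1] 1 * C.σZ g (C.be v) := fun v hv => by
    rw [C.be_V1 (nconj h1 hv), C.be_V1 hv, ← C.H₁.tr_co hv, C.σZ_eq hg h1]
    conv_lhs => rw [show C.H₁.co v = C.H₁.co v 0 • ![1, 0] + C.H₁.co v 1 • ![0, 1] by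
      funext i; fin_cases i <;> simp]
    rw [C.H₁.tr_add h1, C.H₁.semi h1, C.H₁.semi h1]
    have hz := nconj (C.N_le_NZ hg) (C.ax_mem_Z 1)
    have h0 : C.H₁.tr g ![1, 0] 1 = 0 := (C.mem_Z1 hz.1).1 hz
    simp [h0, mul_comm]
  set k₂ := C.H₁.tr g ![0, 1] 1
  obtain ⟨v₀, hv₀, hv₀b⟩ := C.exists_be 1
  have hal : ∀ x ∈ C.J, C.H₁.al (g * x * g⁻¹) * k₂ = C.kZ g * C.σZ g (C.H₁.al x) := fun x hx => by
    have hv₀' := nconj h1 hv₀
    apply C.H₁.ax_inj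
    rw [← hs]
    have e1 : C.H₁.ax (C.H₁.al x) = v₀ * x * v₀⁻¹ * x⁻¹ := by
      rw [C.comm1 hv₀ hx, ← C.be_V1 hv₀, hv₀b, mul_one]
    have e2 := C.comm1 hv₀' (nconj hg hx)
    rw [← C.be_V1 hv₀', hb v₀ hv₀, hv₀b, map_one, mul_one] at e2
    rw [e1, ← e2]
    group
  have hk₂ : k₂ ≠ 0 := fun e => by
    obtain ⟨x, hx, hxa⟩ := C.H₁.exists_al 1
    have h := hal x hx
    rw [e, mul_zero, hxa, map_one, mul_one] at h
    exact hk h.symm
  refine ⟨k₂, hk₂, fun x hx => ⟨?_, ?_⟩⟩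
  · rw [div_mul_eq_mul_div, eq_div_iff hk₂, hal x hx]
  · obtain ⟨v, hv, u, hu, rfl⟩ := C.split hx
    rw [show g * (v * u) * g⁻¹ = g * v * g⁻¹ * (g * u * g⁻¹) by group,
      C.be_mul (C.V1_le (nconj h1 hv)) (C.V2_le (nconj h2 hu)), C.be_V2 (nconj h2 hu), hb v hv,
      C.be_eq hv hu, C.be_V1 hv, add_zero]

/-- A swapping element in coordinates. -/
theorem actS {g : G} (hg : g ∈ Subgroup.normalizer (C.J : Set G))
    (h1 : g ∉ Subgroup.normalizer (C.V₁ : Set G)) :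
    ∃ a b : F, a ≠ 0 ∧ b ≠ 0 ∧ a * b = C.kZ g ∧ ∀ x ∈ C.J, C.H₁.al (g * x * g⁻¹) = a * C.σZ g (C.be x) ∧
      C.be (g * x * g⁻¹) = b * C.σZ g (C.H₁.al x) := by
  obtain ⟨h12, h21⟩ := (C.side hg).resolve_left fun h => h1 h.1
  obtain ⟨hk, hs⟩ := C.specZ hg
  have m1 : ∀ v ∈ C.V₁, g * v * g⁻¹ ∈ C.V₂ := fun v hv => h12 ▸ ⟨v, hv, rfl⟩
  have m2 : ∀ u ∈ C.V₂, g * u * g⁻¹ ∈ C.V₁ := fun u hu => h21 ▸ ⟨u, hu, rfl⟩
  have key : ∀ v ∈ C.V₁, ∀ u ∈ C.V₂, C.H₁.al (g * v * g⁻¹) * C.be (g * u * g⁻¹) =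
      C.kZ g * C.σZ g (C.H₁.al u * C.be v) := fun v hv u hu => by
    apply C.H₁.ax_inj
    rw [← hs]
    have e1 := C.comm1 hv (C.V2_le hu)
    rw [← C.be_V1 hv] at e1
    have e2 := C.comm_eq (C.V2_le (m1 v hv)) (C.V1_le (m2 u hu))
    rw [C.be_V2 (m1 v hv), mul_zero, add_zero] at e2
    rw [← e1, ← e2]
    group
  obtain ⟨v₀, hv₀, hv₀b⟩ := C.exists_be 1
  obtain ⟨u₀, hu₀, hu₀a⟩ := C.exists_al_V2 1
  set a := C.H₁.al (g * v₀ * g⁻¹)
  set b := C.be (g * u₀ * g⁻¹)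
  have hab : a * b = C.kZ g := by
    have := key v₀ hv₀ u₀ hu₀
    rwa [hu₀a, hv₀b, mul_one, map_one, mul_one] at this
  have ha : a ≠ 0 := fun e => hk (by rw [← hab, e, zero_mul])
  have hb : b ≠ 0 := fun e => hk (by rw [← hab, e, mul_zero])
  refine ⟨a, b, ha, hb, hab, fun x hx => ?_⟩
  obtain ⟨v, hv, u, hu, rfl⟩ := C.split hx
  have e1 := key v hv u₀ hu₀
  have e2 := key v₀ hv₀ u hu
  rw [hu₀a, one_mul, ← hab, show C.be (g * u₀ * g⁻¹) = b from rfl] at e1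
  rw [hv₀b, mul_one, ← hab, show C.H₁.al (g * v₀ * g⁻¹) = a from rfl] at e2
  rw [show g * (v * u) * g⁻¹ = g * v * g⁻¹ * (g * u * g⁻¹) by group,
    C.H₁.al_mul (C.V2_le (m1 v hv)) (C.V1_le (m2 u hu)), (C.H₁.al_eq_zero (C.V1_le (m2 u hu))).2 (m2 u hu),
    C.be_mul (C.V2_le (m1 v hv)) (C.V1_le (m2 u hu)), C.be_V2 (m1 v hv), C.be_eq hv hu, C.al_split hv hu,
    ← C.be_V1 hv, add_zero, zero_add]
  exact ⟨mul_right_cancel₀ hb (by linear_combination e1), mul_left_cancel₀ ha (by linear_combination e2)⟩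

theorem mul_N1 {g h : G} (hg : g ∈ Subgroup.normalizer (C.J : Set G)) (hh : h ∈ Subgroup.normalizer (C.J : Set G))
    (h1 : g ∉ Subgroup.normalizer (C.V₁ : Set G)) (h2 : h ∉ Subgroup.normalizer (C.V₁ : Set G)) :
    g * h ∈ Subgroup.normalizer (C.V₁ : Set G) := by
  have a := (C.side hg).resolve_left fun x => h1 x.1
  have b := (C.side hh).resolve_left fun x => h2 x.1
  rw [Subgroup.mem_normalizer_iff_map_conj_eq]
  refine Eq.trans ?_ a.2
  rw [← b.1, Subgroup.map_map]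
  congr 1
  ext x
  simp [mul_assoc]

theorem mem_N1_iff_mul {g h : G} (hg : g ∈ Subgroup.normalizer (C.J : Set G))
    (hh : h ∈ Subgroup.normalizer (C.J : Set G)) :
    g * h ∈ Subgroup.normalizer (C.V₁ : Set G) ↔
      (g ∈ Subgroup.normalizer (C.V₁ : Set G) ↔ h ∈ Subgroup.normalizer (C.V₁ : Set G)) := by
  by_cases a : g ∈ Subgroup.normalizer (C.V₁ : Set G) <;> by_cases b : h ∈ Subgroup.normalizer (C.V₁ : Set G)
  · simp [a, b, mul_mem a b]
  · simp only [a, b, iff_false, not_true_eq_false, true_iff]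
    exact fun h' => b (by simpa using mul_mem (inv_mem a) h')
  · refine iff_of_false (fun h' => a ?_) (fun e => a (e.2 b))
    simpa using mul_mem h' (inv_mem b)
  · simp [a, b, C.mul_N1 hg hh a b]

omit [Finite G] in
theorem eq_one_of_two_pow {x : F} {n : ℕ} (h : x ^ 2 ^ n = 1) : x = 1 := by
  haveI : Fact (Nat.Prime 2) := ⟨Nat.prime_two⟩
  have : (x - 1) ^ 2 ^ n = 0 := by rw [sub_pow_char_pow, one_pow, h, sub_self]
  exact sub_eq_zero.1 ((pow_eq_zero_iff (pow_ne_zero n two_ne_zero)).1 this)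

/-- A 2-element fixing both sides and linear lies in `J`. -/
theorem mem_J_of {g : G} (hg : g ∈ Subgroup.normalizer (C.J : Set G))
    (h1 : g ∈ Subgroup.normalizer (C.V₁ : Set G)) (h2 : ∃ n, g ^ 2 ^ n = 1) (hσ : C.σZ g = 1) : g ∈ C.J := by
  obtain ⟨n, hn⟩ := h2
  obtain ⟨k₂, hk₂, hact⟩ := C.actB hg h1
  obtain ⟨hk, hs⟩ := C.specZ hg
  have hz : ∀ m c, g ^ m * C.H₁.ax c * (g ^ m)⁻¹ = C.H₁.ax (C.kZ g ^ m * c) := by
    intro m c
    induction m with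
    | zero => simp
    | succ m ih =>
      rw [pow_succ' g, show g * g ^ m * C.H₁.ax c * (g * g ^ m)⁻¹ = g * (g ^ m * C.H₁.ax c * (g ^ m)⁻¹) * g⁻¹ by group,
        ih, hs, hσ, pow_succ', mul_assoc]
      rfl
  have k1 : C.kZ g = 1 := eq_one_of_two_pow (n := n) (by
    have h := hz (2 ^ n) 1
    rw [hn] at h
    have := C.H₁.ax_inj (show C.H₁.ax 1 = _ by simpa using h)
    exact this.symm)
  obtain ⟨v₀, hv₀, hv₀b⟩ := C.exists_be 1
  have hb : ∀ m, C.be (g ^ m * v₀ * (g ^ m)⁻¹) = k₂ ^ m := by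
    intro m
    induction m with
    | zero => simpa using hv₀b
    | succ m ih =>
      rw [pow_succ' g, show g * g ^ m * v₀ * (g * g ^ m)⁻¹ = g * (g ^ m * v₀ * (g ^ m)⁻¹) * g⁻¹ by group,
        (hact _ (nconj (pow_mem hg m) (C.V1_le hv₀))).2, ih, hσ, pow_succ']
      rfl
  have k21 : k₂ = 1 := eq_one_of_two_pow (n := n) (by
    have h := hb (2 ^ n)
    rw [hn] at h
    simpa [hv₀b] using h.symm)
  have hax : ∀ c, C.H₁.tr g ![c, 0] = ![c, 0] := fun c => by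
    refine (C.H₁.comm_iff h1).2 ?_
    show g * C.H₁.ax c * g⁻¹ = C.H₁.ax c
    rw [hs, hσ, k1, one_mul]; rfl
  set r := C.H₁.tr g ![0, 1] 0
  have h01 : C.H₁.tr g ![0, 1] = ![r, 1] := NatSL2.vec_eq rfl (by
    have hm : C.H₁.el ![0, 1] ∈ C.V₁ := C.H₁.el_mem _
    have h := (hact _ (C.V1_le hm)).2
    rw [C.be_V1 (nconj h1 hm), C.be_V1 hm, C.H₁.co_el, k21, hσ] at h
    exact h.trans (by simp))
  have hσ' : C.H₁.σ g = 1 := by rw [← C.σZ_eq hg h1, hσ]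
  obtain ⟨x, hx, hxa⟩ := C.H₁.exists_al r
  have hfix : x⁻¹ * g ∈ C.V₁ := by
    refine C.cent₁ (Subgroup.mem_centralizer_iff.2 fun v hv => ?_)
    have key : g * v * g⁻¹ = x * v * x⁻¹ := C.H₁.co_inj (nconj h1 hv) (nconj (C.J_le_N1 hx) hv) (by
      rw [← C.H₁.tr_co hv, C.H₁.act_J hx hv]
      conv_lhs => rw [show C.H₁.co v = ![C.H₁.co v 0, 0] + C.H₁.co v 1 • ![0, 1] by
        funext i; fin_cases i <;> simp]
      rw [C.H₁.tr_add h1, hax, C.H₁.semi h1, hσ', h01, hxa]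
      funext i
      fin_cases i <;> simp [mul_comm])
    calc v * (x⁻¹ * g) = x⁻¹ * (x * v * x⁻¹) * g := by group
      _ = x⁻¹ * (g * v * g⁻¹) * g := by rw [key]
      _ = _ := by group
  have := C.J.mul_mem hx (C.V1_le hfix)
  rwa [mul_inv_cancel_left] at this

/-- Two elements of a 2-group of `N(J)` of the same type differ by an element of `J`. -/
theorem div_mem_J {P : Subgroup G} (hP : IsPGroup 2 P) (hPN : P ≤ Subgroup.normalizer (C.J : Set G)) {a b : G}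
    (ha : a ∈ P) (hb : b ∈ P) (hs : C.σZ a = C.σZ b)
    (hv : a ∈ Subgroup.normalizer (C.V₁ : Set G) ↔ b ∈ Subgroup.normalizer (C.V₁ : Set G)) : a * b⁻¹ ∈ C.J := by
  refine C.mem_J_of (mul_mem (hPN ha) (inv_mem (hPN hb))) ?_ ?_ ?_
  · rw [C.mem_N1_iff_mul (hPN ha) (inv_mem (hPN hb)), inv_mem_iff]; exact hv
  · obtain ⟨n, hn⟩ := hP ⟨a * b⁻¹, mul_mem ha (inv_mem hb)⟩
    exact ⟨n, congrArg Subtype.val hn⟩
  · rw [(C.mulZ (hPN ha) (inv_mem (hPN hb))).1, C.σZ_inv (hPN hb), hs, mul_inv_cancel]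

theorem comm_mem_J {P : Subgroup G} (hP : IsPGroup 2 P) (hPN : P ≤ Subgroup.normalizer (C.J : Set G)) {a b : G}
    (ha : a ∈ P) (hb : b ∈ P) : a * b * (b * a)⁻¹ ∈ C.J :=
  C.div_mem_J hP hPN (mul_mem ha hb) (mul_mem hb ha)
    (by rw [(C.mulZ (hPN ha) (hPN hb)).1, (C.mulZ (hPN hb) (hPN ha)).1]
        exact aut_comm (le_trans one_le_two C.he) C.hF _ _)
    (by rw [C.mem_N1_iff_mul (hPN ha) (hPN hb), C.mem_N1_iff_mul (hPN hb) (hPN ha)]; exact Iff.comm)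

end Conf

end Cfsg.Agent.ParabolicPair
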