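import Cfsg.Agent.Lib.ParabolicPair.Cent
import Cfsg.Agent.Lib.ParabolicPair.Semi

/-!
# The configuration of the statement (S3091)

* `exists_half` : a parabolic from the hypotheses
* `exists_conf` : the configuration
-/

set_option autoImplicit false

open Cfsg

namespace Cfsg.Agent.ParabolicPair

open Matrix

theorem mul_mulVec_sl {F : Type*} [Field F] (A B : SpecialLinearGroup (Fin 2) F) (w : Fin 2 → F) :
    (A * B).1 *ᵥ w = A.1 *ᵥ (B.1 *ᵥ w) :=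
  (Matrix.mulVec_mulVec w A.1 B.1).symm

variable {G : Type*} [Group G] [Finite G] {F : Type*} [Field F] [Fintype F]

theorem exists_half {e : ℕ} (hF : Fintype.card F = 2 ^ e) (L : Subgroup G)
    (φ : ↥L ⧸ pCore 2 ↥L ≃* SpecialLinearGroup (Fin 2) F)
    (ψ : Additive ↥(pCore 2 ↥L) ≃+ (Fin 2 → F))
    (h : ∀ (g : ↥L) (v : ↥(pCore 2 ↥L)),
      ψ (Additive.ofMul ⟨g * v * g⁻¹, Subgroup.Normal.conj_mem inferInstance (v : ↥L) v.2 g⟩)
        = ((φ (QuotientGroup.mk g) : SpecialLinearGroup (Fin 2) F) : Matrix (Fin 2) (Fin 2) F) *ᵥ ψ (Additive.ofMul v))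
    {J : Subgroup G} (S : Sylow 2 ↥L) (hS : (S : Subgroup ↥L).map L.subtype = J)
    (hM : IsMaximalTwoLocal (Subgroup.normalizer (L : Set G))) :
    Nonempty (Half F ((pCore 2 ↥L).map L.subtype) L J) ∧ Odd (J.subgroupOf L).index ∧
      Subgroup.normalizer (L : Set G) = Subgroup.normalizer ((((pCore 2 ↥L).map L.subtype : Subgroup G)) : Set G) := by
  classical
  haveI : Fact (Nat.Prime 2) := ⟨Nat.prime_two⟩
  haveI := NatSL2.charP_of_card (p := 2) hF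
  set V := (pCore 2 ↥L).map L.subtype with hV
  have hVL : V ≤ L := Subgroup.map_subtype_le _
  have hV2 : IsPGroup 2 V := (Cores.isPGroup_pCore 2 ↥L).map _
  have hVne : V ≠ ⊥ := by
    intro hb
    have hb' : pCore 2 ↥L = ⊥ := (Subgroup.map_eq_bot_iff_of_injective _ L.subtype_injective).1 hb
    have h1 : Nat.card (Fin 2 → F) = 1 := by
      rw [← Nat.card_congr ψ.toEquiv, Nat.card_congr Additive.toMul, hb', Subgroup.card_bot]
    rw [Nat.card_eq_fintype_card, Fintype.card_fun, Fintype.card_fin] at h1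
    have := Fintype.one_lt_card (α := F)
    nlinarith
  have hle : Subgroup.normalizer (L : Set G) ≤ Subgroup.normalizer (V : Set G) := by
    intro g hg
    refine Subgroup.mem_normalizer_iff_map_conj_eq.2 (Subgroup.eq_of_le_of_card_ge ?_
      (Subgroup.card_map_of_injective (MulAut.conj g).injective).ge)
    rintro _ ⟨_, ⟨v, hv, rfl⟩, rfl⟩
    let α : L ≃* L := (MulEquiv.subgroupMap (MulAut.conj g) L).trans
      (MulEquiv.subgroupCongr (Subgroup.mem_normalizer_iff_map_conj_eq.1 hg))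
    refine ⟨α v, ?_, rfl⟩
    rw [← Cores.pCore_map_mulEquiv α 2]
    exact ⟨v, hv, rfl⟩
  have hN : Subgroup.normalizer (V : Set G) = Subgroup.normalizer (L : Set G) :=
    hM.2 _ ⟨V, hV2, hVne, rfl⟩ hle
  set f : L →* SpecialLinearGroup (Fin 2) F := φ.toMonoidHom.comp (QuotientGroup.mk' (pCore 2 ↥L)) with hf
  obtain ⟨v₀, hv₀, hfix⟩ := QdOver.exists_fixed_vector (S.isPGroup'.map f)
  obtain ⟨g, hg⟩ := NatSL2.exists_sl2_column hv₀
  set f' : L →* SpecialLinearGroup (Fin 2) F := (MulAut.conj g⁻¹).toMonoidHom.comp f with hf'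
  have hker : f'.ker = pCore 2 ↥L := by
    ext x
    rw [MonoidHom.mem_ker, hf', MonoidHom.comp_apply, MulEquiv.coe_toMonoidHom, MulEquiv.map_eq_one_iff, hf,
      MonoidHom.comp_apply, MulEquiv.coe_toMonoidHom, MulEquiv.map_eq_one_iff]
    exact QuotientGroup.eq_one_iff x
  have hcancel : ∀ w : Fin 2 → F, (g⁻¹).1 *ᵥ (g.1 *ᵥ w) = w := fun w => by
    refine (mul_mulVec_sl _ _ _).symm.trans ?_
    rw [inv_mul_cancel]
    exact one_mulVec w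
  have hcancel' : ∀ w : Fin 2 → F, g.1 *ᵥ ((g⁻¹).1 *ᵥ w) = w := fun w => by
    refine (mul_mulVec_sl _ _ _).symm.trans ?_
    rw [mul_inv_cancel]
    exact one_mulVec w
  have hU : (NatSL2.upperU (F := F)).comap f' = (S : Subgroup ↥L) := by
    refine S.is_maximal' ((NatSL2.isPGroup_upperU (p := 2)).comap_of_ker_isPGroup f' (hker ▸ Cores.isPGroup_pCore 2 ↥L)) ?_
    intro s hs
    show NatSL2.IsU (g⁻¹ * f s * g⁻¹⁻¹)
    rw [NatSL2.isU_iff, inv_inv, mul_mulVec_sl, mul_mulVec_sl, hg, hfix (f s) ⟨s, hs, rfl⟩, ← hg, hcancel]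
  have hJL : J ≤ L := hS ▸ Subgroup.map_subtype_le _
  have hmem : ∀ (x : G) (hx : x ∈ L), x ∈ V ↔ (⟨x, hx⟩ : L) ∈ pCore 2 ↥L := fun x hx =>
    ⟨fun ⟨y, hy, e⟩ => (show y = ⟨x, hx⟩ from Subtype.ext e) ▸ hy, fun h => ⟨⟨x, hx⟩, h, rfl⟩⟩
  have hJmem : ∀ (x : G) (hx : x ∈ L), x ∈ J ↔ (⟨x, hx⟩ : L) ∈ (S : Subgroup ↥L) := fun x hx => by
    rw [← hS]
    exact ⟨fun ⟨y, hy, e⟩ => (show y = ⟨x, hx⟩ from Subtype.ext e) ▸ hy, fun h => ⟨⟨x, hx⟩, h, rfl⟩⟩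
  let toV : ∀ x : G, x ∈ V → pCore 2 ↥L := fun x hx => ⟨⟨x, hVL hx⟩, (hmem x (hVL hx)).1 hx⟩
  refine ⟨⟨
    { co := fun x => if hx : x ∈ V then (g⁻¹).1 *ᵥ ψ (Additive.ofMul (toV x hx)) else 0
      el := fun w => ((Additive.toMul (ψ.symm (g.1 *ᵥ w)) : pCore 2 ↥L) : L)
      mat := fun x => if hx : x ∈ L then f' ⟨x, hx⟩ else 1
      el_mem := fun w => ⟨_, (Additive.toMul (ψ.symm (g.1 *ᵥ w))).2, rfl⟩
      co_el := fun w => by
        have hm : ((((Additive.toMul (ψ.symm (g.1 *ᵥ w))) : pCore 2 ↥L) : L) : G) ∈ V :=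
          ⟨_, (Additive.toMul (ψ.symm (g.1 *ᵥ w))).2, rfl⟩
        refine (dif_pos hm).trans ?_
        show (g⁻¹).1 *ᵥ ψ (ψ.symm (g.1 *ᵥ w)) = w
        rw [AddEquiv.apply_symm_apply, hcancel]
      el_co := fun v hv => by
        rw [dif_pos hv, hcancel', AddEquiv.symm_apply_apply, toMul_ofMul]
      co_mul := fun v hv w hw => by
        rw [dif_pos hv, dif_pos hw, dif_pos (V.mul_mem hv hw), ← Matrix.mulVec_add, ← map_add]
        rfl
      mat_mul := fun a ha b hb => by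
        rw [dif_pos ha, dif_pos hb, dif_pos (L.mul_mem ha hb), ← map_mul]
        rfl
      mat_surj := fun M => by
        obtain ⟨q, hq⟩ := QuotientGroup.mk'_surjective (pCore 2 ↥L) (φ.symm (g * M * g⁻¹))
        refine ⟨q, q.2, ?_⟩
        rw [dif_pos q.2]
        show g⁻¹ * φ (QuotientGroup.mk' (pCore 2 ↥L) q) * g⁻¹⁻¹ = M
        rw [hq, MulEquiv.apply_symm_apply]
        group
      mat_eq_one := fun l hl => by
        rw [dif_pos hl, ← MonoidHom.mem_ker, hker, hmem l hl]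
      conj_mem := fun l hl v hv => nconj (hle (Subgroup.le_normalizer hl)) hv
      act := fun l hl v hv => by
        rw [dif_pos hv, dif_pos hl, dif_pos (nconj (hle (Subgroup.le_normalizer hl)) hv)]
        show (g⁻¹).1 *ᵥ ψ (Additive.ofMul (⟨(⟨l, hl⟩ : L) * (toV v hv : L) * (⟨l, hl⟩ : L)⁻¹,
          Subgroup.Normal.conj_mem inferInstance _ (toV v hv).2 _⟩ : pCore 2 ↥L)) =
          (g⁻¹ * φ (QuotientGroup.mk (⟨l, hl⟩ : L)) * g⁻¹⁻¹).1 *ᵥ ((g⁻¹).1 *ᵥ ψ (Additive.ofMul (toV v hv)))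
        rw [h, inv_inv, mul_mulVec_sl, mul_mulVec_sl, hcancel']
      V_le := hVL
      J_le := hJL
      mem_J := fun l hl => by
        rw [hJmem l hl, ← hU, dif_pos hl]
        rfl
      norL := hN.le }⟩, ?_, hN.symm⟩
  have e : J.subgroupOf L = (S : Subgroup ↥L) := by
    ext x
    exact hJmem x x.2
  rw [e, ← Nat.not_even_iff_odd, even_iff_two_dvd]
  exact S.not_dvd_index

theorem exists_conf [CharP F 2] (hG : IsCharacteristicTwoType G) {e : ℕ} (he : 2 ≤ e) (hF : Fintype.card F = 2 ^ e)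
    (L₁ L₂ : Subgroup G)
    (φ₁ : ↥L₁ ⧸ pCore 2 ↥L₁ ≃* SpecialLinearGroup (Fin 2) F)
    (ψ₁ : Additive ↥(pCore 2 ↥L₁) ≃+ (Fin 2 → F))
    (h₁ : ∀ (g : ↥L₁) (v : ↥(pCore 2 ↥L₁)),
      ψ₁ (Additive.ofMul ⟨g * v * g⁻¹, Subgroup.Normal.conj_mem inferInstance (v : ↥L₁) v.2 g⟩)
        = ((φ₁ (QuotientGroup.mk g) : SpecialLinearGroup (Fin 2) F) : Matrix (Fin 2) (Fin 2) F) *ᵥ ψ₁ (Additive.ofMul v))
    (φ₂ : ↥L₂ ⧸ pCore 2 ↥L₂ ≃* SpecialLinearGroup (Fin 2) F)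
    (ψ₂ : Additive ↥(pCore 2 ↥L₂) ≃+ (Fin 2 → F))
    (h₂ : ∀ (g : ↥L₂) (v : ↥(pCore 2 ↥L₂)),
      ψ₂ (Additive.ofMul ⟨g * v * g⁻¹, Subgroup.Normal.conj_mem inferInstance (v : ↥L₂) v.2 g⟩)
        = ((φ₂ (QuotientGroup.mk g) : SpecialLinearGroup (Fin 2) F) : Matrix (Fin 2) (Fin 2) F) *ᵥ ψ₂ (Additive.ofMul v))
    (hJ₁ : ∃ S : Sylow 2 ↥L₁, (S : Subgroup ↥L₁).map L₁.subtype = (pCore 2 ↥L₁).map L₁.subtype ⊔ (pCore 2 ↥L₂).map L₂.subtype)
    (hJ₂ : ∃ S : Sylow 2 ↥L₂, (S : Subgroup ↥L₂).map L₂.subtype = (pCore 2 ↥L₁).map L₁.subtype ⊔ (pCore 2 ↥L₂).map L₂.subtype)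
    (hM₁ : IsMaximalTwoLocal (Subgroup.normalizer (L₁ : Set G))) (hM₂ : IsMaximalTwoLocal (Subgroup.normalizer (L₂ : Set G)))
    (T : Sylow 2 ↥(Subgroup.normalizer (L₁ : Set G)))
    (hO : pCore 2 ↥(((T : Subgroup ↥(Subgroup.normalizer (L₁ : Set G))).map (Subgroup.normalizer (L₁ : Set G)).subtype) ⊔ L₁ ⊔ L₂) = ⊥) :
    Nonempty (Conf G F) := by
  obtain ⟨S₁, hS₁⟩ := hJ₁
  obtain ⟨S₂, hS₂⟩ := hJ₂
  obtain ⟨⟨D₁⟩, o₁, n₁⟩ := exists_half hF L₁ φ₁ ψ₁ h₁ S₁ hS₁ hM₁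
  obtain ⟨⟨D₂⟩, o₂, -⟩ := exists_half hF L₂ φ₂ ψ₂ h₂ S₂ hS₂ hM₂
  let P : Pair G F := ⟨_, _, L₁, L₂, _, D₁, D₂, rfl⟩
  have hq : 2 < Fintype.card F := by
    have : 2 ^ 2 ≤ 2 ^ e := Nat.pow_le_pow_right (by norm_num) he
    omega
  have hD := P.centralizer_L_eq_bot hG hq o₂ n₁ T hO
  have hE : Subgroup.centralizer (P.swap.L₁ : Set G) = ⊥ :=
    le_bot_iff.1 (hD ▸ P.swap.centralizer_L_le hq o₁)
  exact ⟨{ toPair := P, e := e, he := he, hF := hF, cent₁ := P.centralizer_le o₁ hD,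
           cent₂ := P.swap.centralizer_le o₂ hE }⟩

end Cfsg.Agent.ParabolicPair
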