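import Cfsg.Agent.Lib.ParabolicPair.Pair
import Cfsg.Agent.Lib.Cores.Basic
import Cfsg.Prelude.Def_CaseTheorems

/-!
# The centralisers of `V₁`, `V₂` and `J` (S3091)

* `Pair.exists_V1_mul` : `C(V₁) = V₁ C(J)`
* `Pair.exists_Z_mul` : `C(J) = Z C(L₁)`
* `Pair.centralizer_L_eq_bot`, `Pair.centralizer_le` : `C(V₁) = V₁`
-/

set_option autoImplicit false

open Cfsg

namespace Cfsg.Agent.ParabolicPair.Pair

open Matrix

variable {G : Type*} [Group G] {F : Type*} [Field F] [CharP F 2] [Finite G] [Fintype F] (P : Pair G F)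

theorem exists_V1_mul {c : G} (hc : c ∈ Subgroup.centralizer (P.V₁ : Set G)) :
    ∃ v ∈ P.V₁, v⁻¹ * c ∈ Subgroup.centralizer (P.J : Set G) := by
  have hc' : ∀ v ∈ P.V₁, v * c = c * v := Subgroup.mem_centralizer_iff.1 hc
  have hfix : ∀ v ∈ P.V₁, c * v * c⁻¹ = v := fun v hv => by rw [← hc' v hv, mul_inv_cancel_right]
  have hN1 : c ∈ Subgroup.normalizer (P.V₁ : Set G) := Subgroup.centralizer_le_normalizer _ hc
  have hNJ : c ∈ Subgroup.normalizer (P.J : Set G) :=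
    P.H₁.norm_J_of_comm hN1 one_ne_zero (hc' _ (P.H₁.ax_mem 1)).symm
  have hN2 := P.N2_of_N1 hNJ hN1
  have hax : ∀ t : F, P.H₂.tr c ![t, 0] = ![t, 0] := fun t => by
    have h : P.H₂.el ![t, 0] ∈ P.V₁ := (P.swap.ax_mem_Z t).2
    exact (P.H₂.comm_iff hN2).2 (hfix _ h)
  have hσ : P.H₂.σ c = 1 := P.H₂.σ_unique hN2 (w := ![1, 0]) (fun e => by simpa using congrFun e 0) fun t => by
    rw [show t • (![1, 0] : Fin 2 → F) = ![t, 0] by simp, hax, hax]
    simp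
  set r := P.H₂.tr c ![0, 1] 0
  set s := P.H₂.tr c ![0, 1] 1
  have htr : ∀ w, P.H₂.tr c w = ![w 0 + w 1 * r, w 1 * s] := fun w => by
    have e : P.H₂.tr c ![0, w 1] = w 1 • P.H₂.tr c ![0, 1] := by
      rw [show (![0, w 1] : Fin 2 → F) = w 1 • ![0, 1] by simp, P.H₂.semi hN2, hσ]; rfl
    rw [show w = ![w 0, 0] + ![0, w 1] by funext i; fin_cases i <;> simp, P.H₂.tr_add hN2, hax, e]
    funext i
    fin_cases i
    · simp [r]
    · simp [s]
  obtain ⟨v₁, hv₁, hv₁a⟩ := P.swap.exists_al_V2 1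
  have hs : s = 1 := by
    have h1 : P.H₂.tr (c * v₁) ![0, 1] = P.H₂.tr (v₁ * c) ![0, 1] := by rw [hc' v₁ hv₁]
    rw [P.H₂.tr_mul (P.J_le_N2 (P.V1_le hv₁)), P.H₂.tr_mul hN2, P.H₂.tr_L (P.H₂.J_le (P.V1_le hv₁)),
      P.H₂.tr_L (P.H₂.J_le (P.V1_le hv₁))] at h1
    have hU := (P.H₂.mem_J v₁ (P.H₂.J_le (P.V1_le hv₁))).1 (P.V1_le hv₁)
    have ha : (P.H₂.mat v₁).1 0 1 = 1 := hv₁a
    rw [hU.mulVec, hU.mulVec, ha, htr ![0, 1], htr] at h1
    have h0 := congrFun h1 0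
    simp at h0
    exact mul_left_cancel₀ (one_ne_zero) (by linear_combination -h0)
  obtain ⟨v, hv, hva⟩ := P.swap.exists_al_V2 r
  have hUv := (P.H₂.mem_J v (P.H₂.J_le (P.V1_le hv))).1 (P.V1_le hv)
  refine ⟨v, hv, ?_⟩
  have h1 : ∀ x ∈ P.V₁, v⁻¹ * c * x * (v⁻¹ * c)⁻¹ = x := fun x hx => by
    rw [show v⁻¹ * c * x * (v⁻¹ * c)⁻¹ = v⁻¹ * (c * x * c⁻¹) * v by group, hfix x hx, mul_assoc,
      P.H₁.comm hx hv, inv_mul_cancel_left]
  have h2 : ∀ x ∈ P.V₂, v⁻¹ * c * x * (v⁻¹ * c)⁻¹ = x := fun x hx => by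
    have e : c * x * c⁻¹ = v * x * v⁻¹ := P.H₂.co_inj (nconj hN2 hx) (nconj (P.J_le_N2 (P.V1_le hv)) hx) (by
      rw [← P.H₂.tr_co hx, ← P.H₂.tr_co hx, P.H₂.tr_L (P.H₂.J_le (P.V1_le hv)), hUv.mulVec, htr,
        show (P.H₂.mat v).1 0 1 = r from hva, hs, mul_one, mul_comm])
    rw [show v⁻¹ * c * x * (v⁻¹ * c)⁻¹ = v⁻¹ * (c * x * c⁻¹) * v by group, e]
    group
  rw [← P.sup, Subgroup.mem_centralizer_iff]
  intro x hx
  have hle : P.V₁ ⊔ P.V₂ ≤ Subgroup.centralizer ({v⁻¹ * c} : Set G) := sup_le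
    (fun x hx => Subgroup.mem_centralizer_singleton_iff.2 (mul_inv_eq_iff_eq_mul.1 (h1 x hx)).symm)
    (fun x hx => Subgroup.mem_centralizer_singleton_iff.2 (mul_inv_eq_iff_eq_mul.1 (h2 x hx)).symm)
  exact Subgroup.mem_centralizer_singleton_iff.1 (hle hx)

theorem exists_Z_mul (hodd : Odd (P.J.subgroupOf P.L₁).index) {c : G}
    (hc : c ∈ Subgroup.centralizer (P.J : Set G)) :
    ∃ z ∈ P.Z, z * c ∈ Subgroup.centralizer (P.L₁ : Set G) := by
  classical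
  have hc' : ∀ x ∈ P.J, x * c = c * x := Subgroup.mem_centralizer_iff.1 hc
  have hN1 : c ∈ Subgroup.normalizer (P.V₁ : Set G) :=
    Subgroup.centralizer_le_normalizer _ (Subgroup.centralizer_le P.V1_le hc)
  have hd : ∀ l ∈ P.L₁, c * l * c⁻¹ * l⁻¹ ∈ P.V₁ := by
    intro l hl
    have hl' := nconj (P.H₁.norL hN1) hl
    refine (P.H₁.mat_eq_one _ (P.L₁.mul_mem hl' (P.L₁.inv_mem hl))).1 ?_
    have key : ∀ w, P.H₁.tr (c * l * c⁻¹ * l⁻¹) w = w := by
      intro w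
      have hli := P.L₁.inv_mem hl
      have hci := (Subgroup.normalizer (P.V₁ : Set G)).inv_mem hN1
      have fix : ∀ u, P.H₁.tr c u = u := fun u => (P.H₁.comm_iff hN1).2 (by
        rw [← hc' _ (P.V1_le (P.H₁.el_mem u)), mul_inv_cancel_right])
      have fix' : ∀ u, P.H₁.tr c⁻¹ u = u := fun u => by
        conv_lhs => rw [← fix u]
        rw [← P.H₁.tr_mul hN1, inv_mul_cancel, P.H₁.tr_one]
      rw [P.H₁.tr_mul (P.H₁.nor hli), P.H₁.tr_mul hci, fix', P.H₁.tr_mul (P.H₁.nor hl), fix,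
        ← P.H₁.tr_mul (P.H₁.nor hli), mul_inv_cancel, P.H₁.tr_one]
    refine Subtype.ext (Matrix.ext fun i j => ?_)
    have := congrFun (key (Pi.single j 1)) i
    rw [P.H₁.tr_L (P.L₁.mul_mem hl' (P.L₁.inv_mem hl)), Matrix.mulVec_single_one] at this
    rw [show ((1 : Matrix.SpecialLinearGroup (Fin 2) F) : Matrix (Fin 2) (Fin 2) F) = 1 from rfl,
      Matrix.one_apply]
    rw [Pi.single_apply] at this
    exact this
  let d : G → Fin 2 → F := fun l => P.H₁.co (c * l * c⁻¹ * l⁻¹)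
  have dmul : ∀ a ∈ P.L₁, ∀ b ∈ P.L₁, d (a * b) = d a + (P.H₁.mat a).1 *ᵥ d b := fun a ha b hb => by
    show P.H₁.co _ = P.H₁.co _ + _
    rw [← P.H₁.act a ha _ (hd b hb), ← P.H₁.co_mul _ (hd a ha) _ (P.H₁.conj_mem a ha _ (hd b hb))]
    congr 1
    group
  have dJ : ∀ x ∈ P.J, d x = 0 := fun x hx => by
    show P.H₁.co _ = 0
    rw [← hc' x hx, mul_inv_cancel_right, mul_inv_cancel, P.H₁.co_one]
  set K := P.J.subgroupOf P.L₁
  haveI := Fintype.ofFinite (P.L₁ ⧸ K)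
  let s : Fin 2 → F := ∑ x : P.L₁ ⧸ K, d (x.out : G)
  have hs : ∀ l ∈ P.L₁, d l = s + (P.H₁.mat l).1 *ᵥ s := by
    intro l hl
    have h1 : ∀ x : P.L₁ ⧸ K, d (((⟨l, hl⟩ : P.L₁) • x).out : G) = d l + (P.H₁.mat l).1 *ᵥ d (x.out : G) := by
      intro x
      have e : (⟨l, hl⟩ : P.L₁) • x = QuotientGroup.mk (⟨l, hl⟩ * x.out) := by
        conv_lhs => rw [← QuotientGroup.out_eq' x]
        rfl
      obtain ⟨⟨k, hk⟩, ek⟩ := QuotientGroup.mk_out_eq_mul K (⟨l, hl⟩ * x.out)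
      rw [e, ek, show ((⟨l, hl⟩ * x.out * k : P.L₁) : G) = l * (x.out : G) * (k : G) from rfl,
        dmul _ (P.L₁.mul_mem hl x.out.2) _ k.2, dJ _ (Subgroup.mem_subgroupOf.1 hk), Matrix.mulVec_zero, add_zero,
        dmul l hl _ x.out.2]
    have h2 : s = (Fintype.card (P.L₁ ⧸ K)) • d l + (P.H₁.mat l).1 *ᵥ s := by
      calc s = ∑ x : P.L₁ ⧸ K, d (((⟨l, hl⟩ : P.L₁) • x).out : G) :=
            (Equiv.sum_comp (MulAction.toPerm (⟨l, hl⟩ : P.L₁)) fun x : P.L₁ ⧸ K => d (x.out : G)).symm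
        _ = ∑ x : P.L₁ ⧸ K, (d l + (P.H₁.mat l).1 *ᵥ d (x.out : G)) := Finset.sum_congr rfl fun x _ => h1 x
        _ = _ := by rw [Finset.sum_add_distrib, Finset.sum_const, Finset.card_univ, Matrix.mulVec_sum]
    obtain ⟨m, hm⟩ : Odd (Fintype.card (P.L₁ ⧸ K)) := by rwa [← Nat.card_eq_fintype_card]
    rw [hm, add_nsmul, mul_nsmul, one_nsmul] at h2
    have h2' : s = d l + (P.H₁.mat l).1 *ᵥ s := by
      rwa [show m • 2 • d l = 0 by rw [show 2 • d l = 0 by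
        rw [two_nsmul]; funext i; exact CharTwo.add_self_eq_zero _, nsmul_zero], zero_add] at h2
    funext i
    have := congrFun h2' i
    simp only [Pi.add_apply] at this ⊢
    rw [this, add_assoc, CharTwo.add_self_eq_zero, add_zero]
  have hz : P.H₁.el s ∈ P.Z := by
    obtain ⟨x, hx, hxa⟩ := P.H₁.exists_al 1
    have h := hs x (P.H₁.J_le hx)
    rw [dJ x hx, ((P.H₁.mem_J x (P.H₁.J_le hx)).1 hx).mulVec, show (P.H₁.mat x).1 0 1 = 1 from hxa] at h
    have h0 := congrFun h 0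
    simp [← add_assoc, CharTwo.add_self_eq_zero] at h0
    exact (P.mem_Z1 (P.H₁.el_mem s)).2 (by rw [P.H₁.co_el]; exact h0.symm)
  refine ⟨P.H₁.el s, hz, Subgroup.mem_centralizer_iff.2 fun l hl => ?_⟩
  have e1 : c * l * c⁻¹ = P.H₁.el (d l) * l := by
    rw [P.H₁.el_co _ (hd l hl)]; group
  have e2 : l * P.H₁.el s * l⁻¹ = P.H₁.el ((P.H₁.mat l).1 *ᵥ s) := by
    rw [← P.H₁.tr_L hl, P.H₁.tr_el (P.H₁.nor hl)]
  have key : P.H₁.el s * c * l * (P.H₁.el s * c)⁻¹ = l := by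
    calc P.H₁.el s * c * l * (P.H₁.el s * c)⁻¹ = P.H₁.el s * (c * l * c⁻¹) * (P.H₁.el s)⁻¹ := by group
      _ = P.H₁.el s * P.H₁.el (d l) * (l * P.H₁.el s * l⁻¹) * l := by
        rw [e1, P.inv1 (P.H₁.el_mem s)]; group
      _ = P.H₁.el (s + d l + (P.H₁.mat l).1 *ᵥ s) * l := by rw [e2, ← P.H₁.el_add, ← P.H₁.el_add]
      _ = l := by
        rw [hs l hl, show s + (s + (P.H₁.mat l).1 *ᵥ s) + (P.H₁.mat l).1 *ᵥ s = 0 by
          funext i
          simp only [Pi.add_apply, Pi.zero_apply]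
          rw [← add_assoc (s i), CharTwo.add_self_eq_zero, zero_add, CharTwo.add_self_eq_zero], P.H₁.el_zero, one_mul]
  exact (mul_inv_eq_iff_eq_mul.1 key).symm

theorem Z_inf_centralizer {z : G} (hz : z ∈ P.Z) (hc : z ∈ Subgroup.centralizer (P.L₁ : Set G)) : z = 1 := by
  obtain ⟨w, hw, ew⟩ := P.H₁.mat_surj (weyl F)
  have h : P.H₁.co (w * z * w⁻¹) = P.H₁.co z := by
    rw [Subgroup.mem_centralizer_iff.1 hc w hw, mul_inv_cancel_right]
  rw [P.H₁.act w hw z hz.1, ew, NatSL2.mulVec_apply] at h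
  refine (P.H₁.eq_one_iff hz.1).1 ?_
  have h0 := congrFun h 0
  have h1 := (P.mem_Z1 hz.1).1 hz
  simp [weyl, h1] at h0
  exact NatSL2.vec_eq h0.symm h1 |>.trans (funext fun i => by fin_cases i <;> rfl)

theorem centralizer_L_le (hq : 2 < Fintype.card F) (hodd : Odd (P.J.subgroupOf P.L₂).index) :
    Subgroup.centralizer (P.L₁ : Set G) ≤ Subgroup.centralizer (P.L₂ : Set G) := by
  intro d hd
  obtain ⟨t, ht0, ht1⟩ : ∃ t : F, t ≠ 0 ∧ t ≠ 1 := by
    by_contra h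
    push Not at h
    classical
    have : (Finset.univ : Finset F) ⊆ {0, 1} := fun x _ => by
      by_cases hx : x = 0
      · simp [hx]
      · simp [h x hx]
    have := (Finset.card_le_card this).trans Finset.card_le_two
    rw [Finset.card_univ] at this
    omega
  obtain ⟨z, hz, he⟩ := P.swap.exists_Z_mul hodd (Subgroup.centralizer_le P.H₁.J_le hd)
  rw [P.swap_Z] at hz
  obtain ⟨m, hm, hmJ, hmt⟩ := P.H₁.exists_torus ht0
  have hm2 : m ∈ Subgroup.normalizer (P.L₂ : Set G) := P.H₂.norL (P.N2_of_N1 hmJ (P.H₁.nor hm))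
  have he' : m * (z * d) * m⁻¹ ∈ Subgroup.centralizer (P.L₂ : Set G) := Subgroup.mem_centralizer_iff.2 fun l hl => by
    have hl' := nconj' hm2 hl
    have := Subgroup.mem_centralizer_iff.1 he _ hl'
    calc l * (m * (z * d) * m⁻¹) = m * ((m⁻¹ * l * m) * (z * d)) * m⁻¹ := by group
      _ = m * ((z * d) * (m⁻¹ * l * m)) * m⁻¹ := by rw [this]
      _ = _ := by group
  have hd' : m * d * m⁻¹ = d := by rw [Subgroup.mem_centralizer_iff.1 hd m hm, mul_inv_cancel_right]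
  have hzm : m * z * m⁻¹ ∈ P.Z := nconj (P.N_le_NZ hmJ) hz
  have h1 : (m * z * m⁻¹) * z⁻¹ = 1 := P.swap.Z_inf_centralizer (P.swap_Z ▸ P.Z.mul_mem hzm (P.Z.inv_mem hz)) (by
    have h := (Subgroup.centralizer (P.L₂ : Set G)).mul_mem he' ((Subgroup.centralizer (P.L₂ : Set G)).inv_mem he)
    rwa [show m * (z * d) * m⁻¹ * (z * d)⁻¹ = (m * z * m⁻¹) * (m * d * m⁻¹) * d⁻¹ * z⁻¹ by group, hd',
      mul_assoc (m * z * m⁻¹) d, mul_inv_cancel, mul_one] at h)
  have hz1 : z = 1 := by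
    refine (P.H₁.eq_one_iff hz.1).1 ?_
    have h2 := congrArg P.H₁.co (mul_inv_eq_one.1 h1)
    rw [← P.H₁.tr_co hz.1, hmt] at h2
    have h0 := congrFun h2 0
    simp at h0
    have : P.H₁.co z 0 = 0 := by_contra fun hne => ht1 (mul_right_cancel₀ hne (h0.trans (one_mul _).symm))
    exact (NatSL2.vec_eq this ((P.mem_Z1 hz.1).1 hz)).trans (funext fun i => by fin_cases i <;> rfl)
  rwa [hz1, one_mul] at he

theorem centralizer_L_eq_bot (hG : IsCharacteristicTwoType G) (hq : 2 < Fintype.card F)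
    (hodd₂ : Odd (P.J.subgroupOf P.L₂).index)
    (hN : Subgroup.normalizer (P.L₁ : Set G) = Subgroup.normalizer (P.V₁ : Set G))
    (T : Sylow 2 ↥(Subgroup.normalizer (P.L₁ : Set G)))
    (hO : pCore 2 ↥(((T : Subgroup ↥(Subgroup.normalizer (P.L₁ : Set G))).map
      (Subgroup.normalizer (P.L₁ : Set G)).subtype) ⊔ P.L₁ ⊔ P.L₂) = ⊥) :
    Subgroup.centralizer (P.L₁ : Set G) = ⊥ := by
  haveI : Fact (Nat.Prime 2) := ⟨Nat.prime_two⟩
  revert hO
  revert T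
  set M := Subgroup.normalizer (P.L₁ : Set G) with hM
  intro T hO
  have h2 : IsPGroup 2 P.V₁ := fun v => ⟨1, Subtype.ext (by rw [pow_one, pow_two]; exact P.sq1 v.2)⟩
  have hne : P.V₁ ≠ ⊥ := fun e => by
    have := P.card_V.1
    rw [e, Subgroup.card_bot] at this
    nlinarith
  have hchar := hG.2 P.V₁ h2 hne
  rw [← hN] at hchar
  set D := Subgroup.centralizer (P.L₁ : Set G) with hD
  have hDM : D ≤ M := Subgroup.centralizer_le_normalizer _
  have hDn : ∀ g ∈ M, ∀ x ∈ D, g * x * g⁻¹ ∈ D := fun g hg x hx => Subgroup.mem_centralizer_iff.2 fun l hl => by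
    have := Subgroup.mem_centralizer_iff.1 hx _ (nconj' hg hl)
    calc l * (g * x * g⁻¹) = g * ((g⁻¹ * l * g) * x) * g⁻¹ := by group
      _ = g * (x * (g⁻¹ * l * g)) * g⁻¹ := by rw [this]
      _ = _ := by group
  set D' := D.subgroupOf M
  haveI hD'n : D'.Normal := ⟨fun x hx g => Subgroup.mem_subgroupOf.2 (hDn g g.2 x (Subgroup.mem_subgroupOf.1 hx))⟩
  set R := pCore 2 ↥M
  have hK : D' ⊓ R = ⊥ := by
    set X := (T : Subgroup ↥M).map M.subtype ⊔ P.L₁ ⊔ P.L₂ with hX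
    set K := (D' ⊓ R).map M.subtype
    have hK2 : IsPGroup 2 K := ((Cores.isPGroup_pCore (p := 2) (G := ↥M)).to_le inf_le_right).map _
    have hKT : K ≤ (T : Subgroup ↥M).map M.subtype :=
      Subgroup.map_mono (inf_le_right.trans (Cores.pCore_le_sylow T))
    have hKX : K ≤ X := hKT.trans (le_sup_left.trans le_sup_left)
    have hKD : K ≤ D := by rintro _ ⟨x, hx, rfl⟩; exact Subgroup.mem_subgroupOf.1 hx.1
    have hnorm : X ≤ Subgroup.normalizer (K : Set G) := by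
      have hM' : M ≤ Subgroup.normalizer (K : Set G) := by
        intro g hg
        refine Subgroup.mem_normalizer_iff_map_conj_eq.2 (Subgroup.eq_of_le_of_card_ge ?_
          (Subgroup.card_map_of_injective (MulAut.conj g).injective).ge)
        rintro _ ⟨_, ⟨x, hx, rfl⟩, rfl⟩
        exact ⟨⟨g, hg⟩ * x * ⟨g, hg⟩⁻¹, (inferInstance : (D' ⊓ R).Normal).conj_mem x hx _, rfl⟩
      refine sup_le (sup_le ((Subgroup.map_subtype_le _).trans hM') fun l hl => ?_) fun l hl => ?_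
      · exact Subgroup.centralizer_le_normalizer _ (Subgroup.mem_centralizer_iff.2 fun x hx =>
          (Subgroup.mem_centralizer_iff.1 (hKD hx) l hl).symm)
      · exact Subgroup.centralizer_le_normalizer _ (Subgroup.mem_centralizer_iff.2 fun x hx =>
          (Subgroup.mem_centralizer_iff.1 (P.centralizer_L_le hq hodd₂ (hKD hx)) l hl).symm)
    have hKn : (K.subgroupOf X).Normal := Subgroup.normal_subgroupOf_of_le_normalizer hnorm
    have hbot := Cores.le_pCore hKn (hK2.comap_of_injective X.subtype X.subtype_injective)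
    rw [show pCore 2 ↥X = ⊥ from hO, le_bot_iff, Subgroup.subgroupOf_eq_bot, disjoint_of_le_iff_left_eq_bot hKX] at hbot
    exact (Subgroup.map_eq_bot_iff_of_injective _ M.subtype_injective).1 hbot
  have hle : D' ≤ R := fun x hx => hchar (Subgroup.mem_centralizer_iff.2 fun r hr =>
    (Subgroup.commute_of_normal_of_disjoint D' R hD'n inferInstance (disjoint_iff.2 hK) x r hx hr).eq.symm)
  rw [inf_eq_left.2 hle] at hK
  exact (disjoint_of_le_iff_left_eq_bot hDM).1 (Subgroup.subgroupOf_eq_bot.1 hK)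

theorem centralizer_le (hodd : Odd (P.J.subgroupOf P.L₁).index)
    (hD : Subgroup.centralizer (P.L₁ : Set G) = ⊥) :
    Subgroup.centralizer (P.V₁ : Set G) ≤ P.V₁ := by
  intro c hc
  obtain ⟨v, hv, h⟩ := P.exists_V1_mul hc
  obtain ⟨z, hz, h'⟩ := P.exists_Z_mul hodd h
  rw [hD, Subgroup.mem_bot] at h'
  have : c = v * z⁻¹ := by
    calc c = v * (z⁻¹ * (z * (v⁻¹ * c))) := by group
      _ = _ := by rw [h', mul_one]
  rw [this]
  exact P.V₁.mul_mem hv (P.V₁.inv_mem hz.1)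

end Cfsg.Agent.ParabolicPair.Pair
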