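import Cfsg.Agent.Lib.ParabolicPair.Sylow
import Cfsg.Agent.Lib.Cores.Basic
import Cfsg.Prelude.Def_CaseTheorems

/-!
# The centraliser of an element of `Z` normalises `J` (S3091, `q ≥ 8`)

* `Core` : the data on `W = O₂(C(z))`
* `Core.Z_inv`, `Core.exists_layer`, `Core.J_le` : an invariant series of `W` centralised by `J`
* `Conf.cent_le`
-/

set_option autoImplicit false

open Cfsg

namespace Cfsg.Agent.ParabolicPair

variable {G : Type*} [Group G] {F : Type*} [Field F] [Fintype F]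

/-- The 2-core of the centraliser of an element of `Z`. -/
structure Core (C : Conf G F) where
  H : Subgroup G
  W : Subgroup G
  P : Subgroup G
  c₀ : F
  c₀_ne : c₀ ≠ 0
  eqH : H = Subgroup.centralizer ({C.H₁.ax c₀} : Set G)
  WP : W ≤ P
  PH : P ≤ H
  JP : C.J ≤ P
  P2 : IsPGroup 2 P
  PN : P ≤ C.NJ
  W_norm : H ≤ Subgroup.normalizer (W : Set G)
  W_cent : Subgroup.centralizer (W : Set G) ≤ W
  maximal : ∀ K : Subgroup G, K ≤ H → H ≤ Subgroup.normalizer (K : Set G) → IsPGroup 2 K → K ≤ W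

theorem norm_of_conj_le [Finite G] {H K : Subgroup G} (h : ∀ g ∈ H, ∀ x ∈ K, g * x * g⁻¹ ∈ K) :
    H ≤ Subgroup.normalizer (K : Set G) := fun g hg => by
  refine Subgroup.mem_normalizer_iff_map_conj_eq.2 (Subgroup.eq_of_le_of_card_ge ?_
    (Subgroup.card_map_of_injective (MulAut.conj g).injective).ge)
  rintro _ ⟨x, hx, rfl⟩
  exact h g hg x hx

/-- An element of odd order centralising a 2-group modulo a layer it centralises. -/
theorem fix_of_layer {h x : G} {m : ℕ} (hm : Odd m) (hh : h ^ m = 1) {c : G} (hc : h * x * h⁻¹ = c * x)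
    (hhc : h * c * h⁻¹ = c) (h2 : ∃ n, c ^ 2 ^ n = 1) : c = 1 := by
  have key : ∀ i : ℕ, h ^ i * x * (h ^ i)⁻¹ = c ^ i * x := by
    intro i
    induction i with
    | zero => simp
    | succ i ih =>
      have hci : h * c ^ i * h⁻¹ = c ^ i := by rw [← conj_pow, hhc]
      rw [pow_succ' h, show h * h ^ i * x * (h * h ^ i)⁻¹ = h * (h ^ i * x * (h ^ i)⁻¹) * h⁻¹ by group, ih,
        show h * (c ^ i * x) * h⁻¹ = (h * c ^ i * h⁻¹) * (h * x * h⁻¹) by group, hci, hc, ← mul_assoc, ← pow_succ]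
  obtain ⟨n, hn⟩ := h2
  have h1 := key m
  rw [hh, one_mul, inv_one, mul_one] at h1
  have h1' : c ^ m = 1 := by
    rw [← mul_inv_cancel_right (c ^ m) x, ← h1, mul_inv_cancel]
  have hcop : Nat.Coprime m (2 ^ n) := ((Nat.coprime_two_right).2 hm).pow_right n
  have := (pow_gcd_eq_one (a := c)).2 ⟨h1', hn⟩
  rwa [hcop.gcd_eq_one, pow_one] at this

namespace Core

variable {C : Conf G F} (K : Core C)

theorem J_le_H : C.J ≤ K.H := K.JP.trans K.PH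

theorem WH : K.W ≤ K.H := K.WP.trans K.PH

theorem WN : K.W ≤ C.NJ := K.WP.trans K.PN

theorem conj_W {g x : G} (hg : g ∈ K.H) (hx : x ∈ K.W) : g * x * g⁻¹ ∈ K.W := nconj (K.W_norm hg) hx

theorem comm_W {w j : G} (hw : w ∈ K.W) (hj : j ∈ K.H) : w * j * w⁻¹ * j⁻¹ ∈ K.W := by
  rw [show w * j * w⁻¹ * j⁻¹ = w * (j * w⁻¹ * j⁻¹) by group]
  exact K.W.mul_mem hw (K.conj_W hj (K.W.inv_mem hw))

theorem comm_J {w j : G} (hw : w ∈ K.W) (hj : j ∈ C.J) : w * j * w⁻¹ * j⁻¹ ∈ C.J :=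
  C.J.mul_mem (nconj (K.WN hw) hj) (C.J.inv_mem hj)

theorem fix_z {w : G} (hw : w ∈ K.H) : w * C.H₁.ax K.c₀ * w⁻¹ = C.H₁.ax K.c₀ := by
  rw [K.eqH] at hw
  rw [Subgroup.mem_centralizer_singleton_iff.1 hw, mul_inv_cancel_right]

variable [CharP F 2] [Finite G]

theorem mem_J_of_linear {w : G} (hw : w ∈ K.P) (h1 : w ∈ C.N1) (hσ : C.σZ w = 1) : w ∈ C.J :=
  C.mem_J_of (K.PN hw) h1 (by
    obtain ⟨n, hn⟩ := K.P2 ⟨w, hw⟩
    exact ⟨n, congrArg Subtype.val hn⟩) hσ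

theorem central_of_linear {w : G} (hw : w ∈ K.W) (hσ : C.σZ w = 1) {z : G} (hz : z ∈ C.Z) : z * w = w * z := by
  have h := C.centralizes_Z (K.WN hw) hσ K.c₀_ne (K.fix_z (K.WH hw)) hz
  exact (mul_inv_eq_iff_eq_mul.1 h).symm

omit [Finite G] in
theorem hdiv {a b : G} (ha : a ∈ K.W) (hb : b ∈ K.W) : a * b⁻¹ ∈ K.W := K.W.mul_mem ha (K.W.inv_mem hb)

theorem exists_not_Z : ∃ x ∈ K.W, x ∈ C.J ∧ x ∉ C.Z := by
  by_contra hne
  push Not at hne
  have hWJ : K.W ≤ C.J := by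
    intro w hw
    have hc : ∀ j ∈ C.J, w * j * w⁻¹ * j⁻¹ ∈ C.Z := fun j hj =>
      hne _ (K.comm_W hw (K.J_le_H hj)) (K.comm_J hw hj)
    have hconj : ∀ j ∈ C.J, C.H₁.al (w * j * w⁻¹) = C.H₁.al j ∧ C.be (w * j * w⁻¹) = C.be j := by
      intro j hj
      have hz := (C.mem_Z_iff (K.comm_J hw hj)).1 (hc j hj)
      rw [show w * j * w⁻¹ = w * j * w⁻¹ * j⁻¹ * j by group, C.H₁.al_mul (K.comm_J hw hj) hj,
        C.be_mul (K.comm_J hw hj) hj, hz.1, hz.2, zero_add, zero_add]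
      exact ⟨rfl, rfl⟩
    have h1 : w ∈ C.N1 := by
      by_contra h1
      obtain ⟨a, b, -, hb, -, hact⟩ := C.actS (K.WN hw) h1
      obtain ⟨v, hv, hvb⟩ := C.exists_be 1
      have h := (hact v (C.V1_le hv)).2
      rw [(hconj v (C.V1_le hv)).2, hvb, (C.H₁.al_eq_zero (C.V1_le hv)).2 hv, map_zero, mul_zero] at h
      exact one_ne_zero h
    obtain ⟨k₂, -, hact⟩ := C.actB (K.WN hw) h1
    have hb : ∀ b : F, k₂ * C.σZ w b = b := fun b => by
      obtain ⟨v, hv, hvb⟩ := C.exists_be b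
      rw [← hvb, ← (hact v (C.V1_le hv)).2, (hconj v (C.V1_le hv)).2]
    have hk : k₂ = 1 := by simpa using hb 1
    exact K.mem_J_of_linear (K.WP hw) h1 (RingEquiv.ext fun b => by simpa [hk] using hb b)
  have hWZ : K.W ≤ C.Z := fun w hw => hne w hw (hWJ hw)
  have h : C.V₁ ≤ C.Z := C.V1_le.trans (fun j hj => hWZ (K.W_cent (Subgroup.mem_centralizer_iff.2
    fun w hw => C.Z_central (hWZ hw) hj)))
  have := Subgroup.card_le_of_le h
  rw [C.card_Z, C.card_V.1] at this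
  have := C.four_le
  nlinarith

theorem Z_le : C.Z ≤ K.W := by
  intro z hz
  obtain ⟨x, hxW, hxJ, hxZ⟩ := K.exists_not_Z
  obtain ⟨j, hj, hje⟩ : ∃ j ∈ C.J, C.H₁.al x * C.be j + C.H₁.al j * C.be x = C.H₁.co z 0 := by
    by_cases ha : C.H₁.al x = 0
    · have hb : C.be x ≠ 0 := fun e => hxZ ((C.mem_Z_iff hxJ).2 ⟨ha, e⟩)
      obtain ⟨j, hj, h1, h2⟩ := C.exists_coords (C.H₁.co z 0 / C.be x) 0
      exact ⟨j, hj, by rw [ha, h1, h2, zero_mul, zero_add, div_mul_cancel₀ _ hb]⟩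
    · obtain ⟨j, hj, h1, h2⟩ := C.exists_coords 0 (C.H₁.co z 0 / C.H₁.al x)
      exact ⟨j, hj, by rw [h1, h2, zero_mul, add_zero, mul_div_cancel₀ _ ha]⟩
  rw [C.eq_axis hz, ← hje, ← C.comm_eq hxJ hj]
  exact K.comm_W hxW (K.J_le_H hj)

/-- The whole of `W` lying in one module. -/
theorem le_N_of_le (h : K.W ≤ C.V₁) : K.H ≤ C.NJ := by
  have hV : C.V₁ ≤ K.W := fun v hv => K.W_cent (Subgroup.mem_centralizer_iff.2 fun w hw => C.H₁.comm (h hw) hv)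
  have e : K.W = C.V₁ := le_antisymm h hV
  intro g hg
  refine C.H₁.norm_J_of_comm (e ▸ K.W_norm hg) K.c₀_ne ?_
  rw [K.eqH] at hg
  exact Subgroup.mem_centralizer_singleton_iff.1 hg

theorem Z_inv_linear (h1 : ¬ K.W ≤ C.V₁) (h2 : ¬ K.W ≤ C.V₂) (hlin : ∀ w ∈ K.W, C.σZ w = 1) :
    K.H ≤ Subgroup.normalizer (C.Z : Set G) := by
  have key : ∀ x ∈ K.W, x * x = 1 → (∀ w ∈ K.W, x * w = w * x) → x ∈ C.Z := by
    intro x hx hx2 hc
    have hfix : ∀ w ∈ K.W, w * x * w⁻¹ = x := fun w hw => by rw [← hc w hw, mul_inv_cancel_right]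
    by_cases hxJ : x ∈ C.J
    · by_contra hxZ
      have hz : ∀ w ∈ K.W, w ∈ C.J ∧ C.H₁.al x * C.be w + C.H₁.al w * C.be x = 0 := fun w hw => by
        have hw1 : w ∈ C.N1 := by_contra fun hn =>
          hxZ (C.fix_swap (K.WN hw) hn (C.invol_mem hxJ hx2) (hfix w hw))
        have hwJ := K.mem_J_of_linear (K.WP hw) hw1 (hlin w hw)
        refine ⟨hwJ, C.H₁.ax_inj ?_⟩
        rw [← C.comm_eq hxJ hwJ, C.H₁.ax_zero, hc w hw]
        group
      rcases C.invol_mem hxJ hx2 with hv | hv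
      · have hb : C.be x ≠ 0 := fun e => hxZ ⟨hv, (C.mem_V2_iff hxJ).2 e⟩
        refine h1 fun w hw => (C.H₁.al_eq_zero (hz w hw).1).1 ?_
        have h := (hz w hw).2
        rw [(C.H₁.al_eq_zero hxJ).2 hv, zero_mul, zero_add] at h
        exact (mul_eq_zero.1 h).resolve_right hb
      · have ha : C.H₁.al x ≠ 0 := fun e => hxZ ⟨(C.H₁.al_eq_zero hxJ).1 e, hv⟩
        refine h2 fun w hw => (C.mem_V2_iff (hz w hw).1).2 ?_
        have h := (hz w hw).2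
        rw [C.be_V2 hv, mul_zero, add_zero] at h
        exact (mul_eq_zero.1 h).resolve_left ha
    · exfalso
      have hx1 : x ∉ C.N1 := fun hn => hxJ (K.mem_J_of_linear (K.WP hx) hn (hlin x hx))
      obtain ⟨a, b, ha, -, -, hact⟩ := C.actS (K.WN hx) hx1
      obtain ⟨v, hv, hvb⟩ := C.exists_be 1
      have hvJ := C.V1_le hv
      set y := x * v * x⁻¹ * v⁻¹ with hy
      have hyJ : y ∈ C.J := K.comm_J hx hvJ
      have hy2 : y * y = 1 := by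
        have e : x * y * x⁻¹ = y := by rw [hc y (K.comm_W hx (K.J_le_H hvJ)), mul_inv_cancel_right]
        have e' : x * y * x⁻¹ = y⁻¹ := by
          rw [hy, self_inv_of_sq hx2, C.inv1 hv, mul_inv_rev, mul_inv_rev, mul_inv_rev, self_inv_of_sq hx2,
            C.inv1 hv]
          calc x * (x * v * x * v) * x = (x * x) * v * x * v * x := by group
            _ = v * (x * (v * x)) := by rw [hx2, one_mul, mul_assoc, mul_assoc]
        rw [e] at e'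
        conv_lhs => arg 2; rw [e']
        rw [mul_inv_cancel]
      rw [C.sq_eq hyJ, ← C.H₁.ax_zero] at hy2
      have h := C.H₁.ax_inj hy2
      have hxv := nconj (K.WN hx) hvJ
      rw [hy, C.inv1 hv, C.H₁.al_mul hxv hvJ, C.be_mul hxv hvJ, (hact v hvJ).1, (hact v hvJ).2, hvb,
        (C.H₁.al_eq_zero hvJ).2 hv, map_zero, map_one, mul_zero, mul_one, add_zero, zero_add, mul_one] at h
      exact ha h
  refine norm_of_conj_le fun g hg z hz => key _ (K.conj_W hg (K.Z_le hz)) ?_ fun w hw => ?_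
  · rw [conj_mul, C.sq1 hz.1, mul_one, mul_inv_cancel]
  · have hw' : g⁻¹ * w * g ∈ K.W := nconj' (K.W_norm hg) hw
    have := K.central_of_linear hw' (hlin _ hw') hz
    calc g * z * g⁻¹ * w = g * (z * (g⁻¹ * w * g)) * g⁻¹ := by group
      _ = g * ((g⁻¹ * w * g) * z) * g⁻¹ := by rw [this]
      _ = _ := by group

omit [Finite G] in
theorem exists_swap_mem {w : G} (hw : w ∈ C.NJ) (h1 : w ∉ C.N1) (hW : w ∈ K.W) [Finite G] :
    (∀ x ∈ K.W ⊓ C.V₁, w * x * w⁻¹ ∈ K.W ⊓ C.V₂) ∧ ∀ x ∈ K.W ⊓ C.V₂, w * x * w⁻¹ ∈ K.W ⊓ C.V₁ := by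
  obtain ⟨h12, h21⟩ := (C.side hw).resolve_left fun h => h1 h.1
  exact ⟨fun x hx => ⟨K.conj_W (K.WH hW) hx.1, h12 ▸ ⟨x, hx.2, rfl⟩⟩,
    fun x hx => ⟨K.conj_W (K.WH hW) hx.1, h21 ▸ ⟨x, hx.2, rfl⟩⟩⟩

theorem big_inter (hq : 4 < Fintype.card F) {w : G} (hw : w ∈ K.W) (h1 : w ∈ C.N1) (hJ : w ∉ C.J)
    {V : Subgroup G} (hVJ : V ≤ C.J) (hVw : ∀ v ∈ V, w * v * w⁻¹ ∈ V) (hZV : C.Z ≤ V) (χ : G → F) (k : F)
    (hadd : ∀ x ∈ C.J, ∀ y ∈ C.J, χ (x * y) = χ x + χ y) (hinv : ∀ x ∈ C.J, χ x⁻¹ = χ x)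
    (hact : ∀ x ∈ C.J, χ (w * x * w⁻¹) = k * C.σZ w (χ x)) (hsurj : ∀ b, ∃ v ∈ V, χ v = b)
    (hker : ∀ x ∈ V, χ x = 0 ↔ x ∈ C.Z) : 2 * Fintype.card F < Nat.card ↥(K.W ⊓ V) := by
  classical
  set A := K.W ⊓ V
  have hAJ : A ≤ C.J := inf_le_right.trans hVJ
  have h0 : χ 1 = 0 := (hker 1 V.one_mem).2 C.Z.one_mem
  let f : A →* Multiplicative F :=
    { toFun := fun x => Multiplicative.ofAdd (χ x)
      map_one' := by show Multiplicative.ofAdd (χ 1) = 1; rw [h0]; rfl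
      map_mul' := fun a b => by
        show Multiplicative.ofAdd (χ ((a : G) * b)) = _
        rw [hadd a (hAJ a.2) b (hAJ b.2)]; rfl }
  let t : F →+ F := AddMonoidHom.mk' (fun b => k * C.σZ w b + b) fun a b => by rw [map_add]; ring
  have htk : Nat.card t.ker ≤ fixCard (C.σZ w) :=
    le_trans (Nat.card_le_card_of_injective (β := {c : F // k * C.σZ w c = c})
      (fun b => ⟨b.1, CharTwo.add_eq_zero.1 b.2⟩) fun a b e =>
        Subtype.ext (congrArg Subtype.val e :)) (card_semifix_le _ _)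
  have htr : Nat.card t.range ≤ Nat.card f.range := by
    refine Nat.card_le_card_of_injective (fun b => ⟨Multiplicative.ofAdd b.1, ?_⟩)
      fun a b e => Subtype.ext (Multiplicative.ofAdd.injective (congrArg (fun x : f.range => (x : Multiplicative F)) e))
    obtain ⟨_, c, rfl⟩ := b
    obtain ⟨v, hv, rfl⟩ := hsurj c
    have hwv := hVw v hv
    refine ⟨⟨w * v * w⁻¹ * v⁻¹, K.comm_W hw (K.J_le_H (hVJ hv)), V.mul_mem hwv (V.inv_mem hv)⟩, ?_⟩
    show Multiplicative.ofAdd (χ _) = _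
    rw [hadd _ (hVJ hwv) _ (C.J.inv_mem (hVJ hv)), hinv v (hVJ hv), hact v (hVJ hv)]
    rfl
  have hfk : Fintype.card F ≤ Nat.card f.ker := by
    rw [← C.card_Z]
    refine Nat.card_le_card_of_injective (fun z => ⟨⟨(z : G), K.Z_le z.2, hZV z.2⟩, ?_⟩)
      fun a b e => Subtype.ext (congrArg (fun x : f.ker => ((x.1 : A) : G)) e)
    show Multiplicative.ofAdd (χ (z : G)) = 1
    rw [(hker _ (hZV z.2)).2 z.2]
    rfl
  have hcard := f.ker.card_mul_index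
  rw [Subgroup.index_ker] at hcard
  have ht := t.ker.card_mul_index
  rw [AddSubgroup.index_ker, Nat.card_eq_fintype_card (α := F)] at ht
  have hf := two_mul_fixCard_lt (C.σ_ne_one K.P2 K.PN (K.WP hw) h1 hJ) hq
  have hfpos := two_le_fixCard (C.σZ w)
  rw [← hcard]
  by_contra hlt
  push Not at hlt
  have a1 : Fintype.card F ≤ fixCard (C.σZ w) * Nat.card f.range :=
    ht ▸ Nat.mul_le_mul htk htr
  have a2 : Fintype.card F * Nat.card f.range ≤ 2 * Fintype.card F :=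
    (Nat.mul_le_mul_right _ hfk).trans hlt
  have a3 : Nat.card f.range ≤ 2 := Nat.le_of_mul_le_mul_left (by rw [mul_comm (Fintype.card F) 2]; exact a2) (by omega)
  have a4 : fixCard (C.σZ w) * Nat.card f.range ≤ fixCard (C.σZ w) * 2 := Nat.mul_le_mul_left _ a3
  omega

theorem Z_inv (hq : 4 < Fintype.card F) (h1 : ¬ K.W ≤ C.V₁) (h2 : ¬ K.W ≤ C.V₂) :
    K.H ≤ Subgroup.normalizer (C.Z : Set G) := by
  classical
  by_cases hlin : ∀ w ∈ K.W, C.σZ w = 1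
  · exact K.Z_inv_linear h1 h2 hlin
  push Not at hlin
  obtain ⟨w, hw, hwσ⟩ := hlin
  set A₁ := K.W ⊓ C.V₁ with hA₁
  set A₂ := K.W ⊓ C.V₂ with hA₂
  have hsq : ∀ A : Subgroup G, A ≤ A₁ ∨ A ≤ A₂ → ∀ x ∈ A, x * x = 1 := fun A h x hx =>
    h.elim (fun h => C.sq1 (h hx).2) fun h => C.sq2 (h hx).2
  -- large elementary subgroups of `W` lie in `J`, and the two parts are large and of the same kind
  obtain ⟨hthr, hpos⟩ : (∀ A : Subgroup G, A ≤ K.W → (∀ x ∈ A, x * x = 1) →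
      (Nat.card A₁ ≤ Nat.card A ∨ Nat.card A₂ ≤ Nat.card A) → A ≤ C.J) ∧
      ((¬ A₁ ≤ C.Z ∧ ¬ A₂ ≤ C.Z) ∨ (A₁ ≤ C.Z ∧ A₂ ≤ C.Z)) := by
    have hnz : ∀ A : Subgroup G, 2 * Fintype.card F < Nat.card A → ¬ A ≤ C.Z := fun A hA h => by
      have := Subgroup.card_le_of_le h
      rw [C.card_Z] at this
      omega
    by_cases hB : ∃ u ∈ K.W, u ∈ C.N1 ∧ u ∉ C.J
    · obtain ⟨u, hu, hu1, huJ⟩ := hB
      obtain ⟨k₂, -, hact⟩ := C.actB (K.WN hu) hu1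
      have b1 : 2 * Fintype.card F < Nat.card A₁ := K.big_inter hq hu hu1 huJ C.V1_le
        (fun v hv => nconj hu1 hv) inf_le_left C.be k₂ (fun x hx y hy => C.be_mul hx hy) (fun x hx => C.be_inv hx)
        (fun x hx => (hact x hx).2) C.exists_be fun x hx => by
          rw [← C.mem_V2_iff (C.V1_le hx)]; exact ⟨fun h => ⟨hx, h⟩, fun h => h.2⟩
      have b2 : 2 * Fintype.card F < Nat.card A₂ := K.big_inter hq hu hu1 huJ C.V2_le
        (fun v hv => nconj (C.N2_of_N1 (K.WN hu) hu1) hv) inf_le_right C.H₁.al (C.kZ u / k₂)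
        (fun x hx y hy => C.H₁.al_mul hx hy) (fun x hx => C.al_inv hx)
        (fun x hx => (hact x hx).1) C.exists_al_V2 fun x hx => by
          rw [C.H₁.al_eq_zero (C.V2_le hx)]; exact ⟨fun h => ⟨h, hx⟩, fun h => h.1⟩
      exact ⟨fun A hA hA2 hc => by_contra fun hAJ => by
        have := C.elem_bound K.P2 K.PN (hA.trans K.WP) hA2 hAJ
        rcases hc with hc | hc <;> omega, Or.inl ⟨hnz _ b1, hnz _ b2⟩⟩
    · push Not at hB
      have hw1 : w ∉ C.N1 := fun h => hwσ (C.σZ_J (hB w hw h))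
      have hσ : ∀ a ∈ K.W, a ∉ C.J → C.σZ a ≠ 1 := by
        intro a ha haJ
        have haN : a ∉ C.N1 := fun h => haJ (hB a ha h)
        have hm : a * w⁻¹ ∈ C.J := hB _ (K.hdiv ha hw) (by
          rw [C.mem_N1_iff_mul (K.WN ha) (inv_mem (K.WN hw)), inv_mem_iff]
          exact iff_of_false haN hw1)
        have e := (C.mulZ (Subgroup.le_normalizer hm : a * w⁻¹ ∈ C.NJ) (K.WN hw)).1
        rw [inv_mul_cancel_right, C.σZ_J hm, one_mul] at e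
        rwa [e]
      refine ⟨fun A hA hA2 hc => by_contra fun hAJ => ?_, ?_⟩
      · have h3 := C.elem_bound_swap hq K.PN (hA.trans K.WP) hA2 (fun x hx => hB x (hA hx.1) hx.2)
          (fun x hx => hσ x (hA hx)) hAJ
        have z1 : Nat.card C.Z ≤ Nat.card A₁ := Subgroup.card_le_of_le (le_inf K.Z_le inf_le_left)
        have z2 : Nat.card C.Z ≤ Nat.card A₂ := Subgroup.card_le_of_le (le_inf K.Z_le inf_le_right)
        rw [C.card_Z] at z1 z2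
        rcases hc with hc | hc <;> omega
      · obtain ⟨m12, m21⟩ := K.exists_swap_mem (K.WN hw) hw1 hw
        have hNZ := C.N_le_NZ (K.WN hw)
        by_cases ha : A₁ ≤ C.Z
        · refine Or.inr ⟨ha, fun x hx => ?_⟩
          have := (Subgroup.mem_normalizer_iff.1 hNZ x).2 (ha (m21 x hx))
          exact this
        · refine Or.inl ⟨ha, fun hb => ha fun x hx => ?_⟩
          exact (Subgroup.mem_normalizer_iff.1 hNZ x).2 (hb (m12 x hx))
  -- the images of the two parts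
  have himg : ∀ g ∈ K.H, ∀ x, x ∈ A₁ ∨ x ∈ A₂ → g * x * g⁻¹ ∈ A₁ ⊔ A₂ := by
    intro g hg
    have aux : ∀ A : Subgroup G, A = A₁ ∨ A = A₂ → ∀ x ∈ A, g * x * g⁻¹ ∈ A₁ ⊔ A₂ := by
      intro A hA x hx
      have hAW : A ≤ K.W := by rcases hA with rfl | rfl <;> exact inf_le_left
      have hW : A.map (MulAut.conj g).toMonoidHom ≤ K.W := by
        rintro _ ⟨y, hy, rfl⟩; exact K.conj_W hg (hAW hy)
      have h2' : ∀ y ∈ A.map (MulAut.conj g).toMonoidHom, y * y = 1 := by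
        rintro _ ⟨y, hy, rfl⟩
        rw [← map_mul, hsq A (hA.imp le_of_eq le_of_eq) y hy, map_one]
      have hJ := hthr _ hW h2' (by
        rw [Subgroup.card_map_of_injective (MulAut.conj g).injective]
        rcases hA with rfl | rfl <;> simp)
      rcases C.elem_le hJ h2' with h | h
      · exact Subgroup.mem_sup_left ⟨hW ⟨x, hx, rfl⟩, h ⟨x, hx, rfl⟩⟩
      · exact Subgroup.mem_sup_right ⟨hW ⟨x, hx, rfl⟩, h ⟨x, hx, rfl⟩⟩
    exact fun x hx => hx.elim (aux _ (Or.inl rfl) x) (aux _ (Or.inr rfl) x)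
  have hE : K.H ≤ Subgroup.normalizer ((A₁ ⊔ A₂ : Subgroup G) : Set G) := norm_of_conj_le fun g hg x hx => by
    have hle : A₁ ⊔ A₂ ≤ (A₁ ⊔ A₂).comap (MulAut.conj g).toMonoidHom :=
      sup_le (fun y hy => himg g hg y (Or.inl hy)) fun y hy => himg g hg y (Or.inr hy)
    exact hle hx
  have hZE : C.Z ≤ A₁ ⊔ A₂ := (le_inf K.Z_le inf_le_left : C.Z ≤ A₁).trans le_sup_left
  rcases hpos with ⟨n1, n2⟩ | ⟨l1, l2⟩
  swap
  · rwa [le_antisymm (sup_le l1 l2) hZE] at hE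
  obtain ⟨v, hv, hvZ⟩ := SetLike.not_le_iff_exists.1 n1
  obtain ⟨u, hu, huZ⟩ := SetLike.not_le_iff_exists.1 n2
  have hEJ : A₁ ⊔ A₂ ≤ C.J := sup_le (inf_le_right.trans C.V1_le) (inf_le_right.trans C.V2_le)
  refine norm_of_conj_le fun g hg z hz => ?_
  have hx := nconj (hE hg) (hZE hz)
  have hcen : ∀ y ∈ A₁ ⊔ A₂, g * z * g⁻¹ * y = y * (g * z * g⁻¹) := fun y hy => by
    have := C.Z_central hz (hEJ (nconj' (hE hg) hy))
    calc g * z * g⁻¹ * y = g * (z * (g⁻¹ * y * g)) * g⁻¹ := by group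
      _ = g * ((g⁻¹ * y * g) * z) * g⁻¹ := by rw [this]
      _ = _ := by group
  have hcz : ∀ y ∈ A₁ ⊔ A₂, C.H₁.al (g * z * g⁻¹) * C.be y + C.H₁.al y * C.be (g * z * g⁻¹) = 0 :=
    fun y hy => C.H₁.ax_inj (by
      rw [← C.comm_eq (hEJ hx) (hEJ hy), C.H₁.ax_zero, hcen y hy]
      group)
  refine (C.mem_Z_iff (hEJ hx)).2 ⟨?_, ?_⟩
  · have h := hcz v (Subgroup.mem_sup_left hv)
    rw [(C.H₁.al_eq_zero (C.V1_le hv.2)).2 hv.2, zero_mul, add_zero] at h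
    exact (mul_eq_zero.1 h).resolve_right fun e => hvZ ⟨hv.2, (C.mem_V2_iff (C.V1_le hv.2)).2 e⟩
  · have h := hcz u (Subgroup.mem_sup_right hu)
    rw [C.be_V2 hu.2, mul_zero, zero_add] at h
    exact (mul_eq_zero.1 h).resolve_left fun e => huZ ⟨(C.H₁.al_eq_zero (C.V2_le hu.2)).1 e, hu.2⟩

/-- The elements of `W` centralising `Z`. -/
def Y : Subgroup G := K.W ⊓ Subgroup.centralizer (C.Z : Set G)

theorem Y_inv (hZ : K.H ≤ Subgroup.normalizer (C.Z : Set G)) : K.H ≤ Subgroup.normalizer (K.Y : Set G) :=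
  norm_of_conj_le fun g hg x hx => ⟨K.conj_W hg hx.1, Subgroup.mem_centralizer_iff.2 fun z hz => by
    have := Subgroup.mem_centralizer_iff.1 hx.2 _ (nconj' (hZ hg) hz)
    calc z * (g * x * g⁻¹) = g * ((g⁻¹ * z * g) * x) * g⁻¹ := by group
      _ = g * (x * (g⁻¹ * z * g)) * g⁻¹ := by rw [this]
      _ = _ := by group⟩

theorem mem_Y_of_J {x : G} (hW : x ∈ K.W) (hJ : x ∈ C.J) : x ∈ K.Y :=
  ⟨hW, Subgroup.mem_centralizer_iff.2 fun z hz => C.Z_central hz hJ⟩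

theorem σ_Y {y : G} (hy : y ∈ K.Y) : C.σZ y = 1 ∧ C.kZ y = 1 :=
  C.uniqueZ (K.WN hy.1) fun c => by
    rw [← Subgroup.mem_centralizer_iff.1 hy.2 _ (C.ax_mem_Z c), mul_inv_cancel_right]
    simp

theorem Y_swap {y : G} (hy : y ∈ K.Y) (hJ : y ∉ C.J) : y ∉ C.N1 :=
  fun h => hJ (K.mem_J_of_linear (K.WP hy.1) h (K.σ_Y hy).1)

/-- Swapping elements of `Y` act alike on `J/Z`. -/
theorem Y_same {s y x : G} (hs : s ∈ K.Y) (hsJ : s ∉ C.J) (hy : y ∈ K.Y) (hyJ : y ∉ C.J) (hx : x ∈ C.J) :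
    C.H₁.al (y * x * y⁻¹) = C.H₁.al (s * x * s⁻¹) ∧ C.be (y * x * y⁻¹) = C.be (s * x * s⁻¹) := by
  have hm : y * s⁻¹ ∈ C.J := C.div_mem_J K.P2 K.PN (K.WP hy.1) (K.WP hs.1) ((K.σ_Y hy).1.trans (K.σ_Y hs).1.symm)
    (iff_of_false (K.Y_swap hy hyJ) (K.Y_swap hs hsJ))
  have hsx := nconj (K.WN hs.1) hx
  have e : y * x * y⁻¹ = (y * s⁻¹) * (s * x * s⁻¹) * (y * s⁻¹)⁻¹ * (s * x * s⁻¹)⁻¹ * (s * x * s⁻¹) := by group
  have hz := C.comm_mem_Z hm hsx
  obtain ⟨a, b⟩ := (C.mem_Z_iff (C.Z_le_J hz)).1 hz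
  rw [e, C.H₁.al_mul (C.Z_le_J hz) hsx, C.be_mul (C.Z_le_J hz) hsx, a, b, zero_add, zero_add]
  exact ⟨rfl, rfl⟩

theorem exists_layer (hq : 4 < Fintype.card F) (hZ : K.H ≤ Subgroup.normalizer (C.Z : Set G)) :
    ∃ X : Subgroup G, X ≤ K.Y ∧ X ≤ C.J ∧ K.H ≤ Subgroup.normalizer (X : Set G) ∧
      ∀ y ∈ K.Y, ∀ j ∈ C.J, y * j * y⁻¹ * j⁻¹ ∈ X := by
  classical
  have hcY : ∀ y ∈ K.Y, ∀ j ∈ C.J, y * j * y⁻¹ * j⁻¹ ∈ K.Y := fun y hy j hj =>
    K.mem_Y_of_J (K.comm_W hy.1 (K.J_le_H hj)) (K.comm_J hy.1 hj)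
  by_cases hY : K.Y ≤ C.J
  · exact ⟨K.Y, le_rfl, hY, K.Y_inv hZ, hcY⟩
  let P2 : Subgroup G :=
    { carrier := {a | a ∈ K.Y ∧ ∀ y ∈ K.Y, a * y * a⁻¹ * y⁻¹ ∈ C.Z}
      one_mem' := ⟨K.Y.one_mem, fun y _ => by simp⟩
      mul_mem' := fun {a b} ha hb => ⟨K.Y.mul_mem ha.1 hb.1, fun y hy => by
        rw [show a * b * y * (a * b)⁻¹ * y⁻¹ = a * (b * y * b⁻¹ * y⁻¹) * a⁻¹ * (a * y * a⁻¹ * y⁻¹) by group]
        exact C.Z.mul_mem (nconj (hZ (K.WH ha.1.1)) (hb.2 y hy)) (ha.2 y hy)⟩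
      inv_mem' := fun {a} ha => ⟨K.Y.inv_mem ha.1, fun y hy => by
        rw [show a⁻¹ * y * a⁻¹⁻¹ * y⁻¹ = a⁻¹ * (a * y * a⁻¹ * y⁻¹)⁻¹ * a by group]
        exact nconj' (hZ (K.WH ha.1.1)) (C.Z.inv_mem (ha.2 y hy))⟩ }
  have hP2 : ∀ y ∈ K.Y, ∀ j ∈ C.J, y * j * y⁻¹ * j⁻¹ ∈ P2 := by
    intro y hy j hj
    refine ⟨hcY y hy j hj, fun y' hy' => ?_⟩
    set x := y * j * y⁻¹ * j⁻¹ with hx
    have hxJ : x ∈ C.J := K.comm_J hy.1 hj
    by_cases hy'J : y' ∈ C.J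
    · exact C.comm_mem_Z hxJ hy'J
    by_cases hyJ : y ∈ C.J
    · have hxZ : x ∈ C.Z := C.comm_mem_Z hyJ hj
      rw [Subgroup.mem_centralizer_iff.1 hy'.2 x hxZ, mul_inv_cancel_right, mul_inv_cancel]
      exact C.Z.one_mem
    obtain ⟨a, b, -, -, hab, hact⟩ := C.actS (K.WN hy.1) (K.Y_swap hy hyJ)
    rw [(K.σ_Y hy).2] at hab
    rw [(K.σ_Y hy).1] at hact
    obtain ⟨e1, e2⟩ := K.Y_same hy hyJ hy' hy'J hxJ
    have hy'x := nconj (K.WN hy'.1) hxJ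
    rw [(hact x hxJ).1] at e1
    rw [(hact x hxJ).2] at e2
    have hyj := nconj (K.WN hy.1) hj
    have hxa : C.H₁.al x = a * C.be j + C.H₁.al j := by
      rw [hx, C.H₁.al_mul hyj (C.J.inv_mem hj), C.al_inv hj, (hact j hj).1]; rfl
    have hxb : C.be x = b * C.H₁.al j + C.be j := by
      rw [hx, C.be_mul hyj (C.J.inv_mem hj), C.be_inv hj, (hact j hj).2]; rfl
    rw [show x * y' * x⁻¹ * y'⁻¹ = x * (y' * x * y'⁻¹)⁻¹ by group]
    refine (C.mem_Z_iff (C.J.mul_mem hxJ (C.J.inv_mem hy'x))).2 ⟨?_, ?_⟩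
    · rw [C.H₁.al_mul hxJ (C.J.inv_mem hy'x), C.al_inv hy'x, e1]
      show _ + a * C.be x = 0
      rw [hxa, hxb, CharTwo.add_eq_zero]
      linear_combination (-C.H₁.al j) * hab
    · rw [C.be_mul hxJ (C.J.inv_mem hy'x), C.be_inv hy'x, e2]
      show _ + b * C.H₁.al x = 0
      rw [hxa, hxb, CharTwo.add_eq_zero]
      linear_combination (-C.be j) * hab
  by_cases hP2J : P2 ≤ C.J
  · refine ⟨P2, fun a ha => ha.1, hP2J, norm_of_conj_le fun g hg a ha => ⟨nconj (K.Y_inv hZ hg) ha.1,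
      fun y hy => ?_⟩, hP2⟩
    have := nconj (hZ hg) (ha.2 _ (nconj' (K.Y_inv hZ hg) hy))
    rwa [show g * (a * (g⁻¹ * y * g) * a⁻¹ * (g⁻¹ * y * g)⁻¹) * g⁻¹ =
      g * a * g⁻¹ * y * (g * a * g⁻¹)⁻¹ * y⁻¹ by group] at this
  obtain ⟨s, hs, hsJ⟩ := SetLike.not_le_iff_exists.1 hP2J
  obtain ⟨a, b, ha, -, hab, hact⟩ := C.actS (K.WN hs.1.1) (K.Y_swap hs.1 hsJ)
  rw [(K.σ_Y hs.1).2] at hab
  rw [(K.σ_Y hs.1).1] at hact
  set Q := K.W ⊓ C.J with hQ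
  have hdiag : ∀ x ∈ Q, C.H₁.al x = a * C.be x := by
    intro x hx
    have hz := hs.2 x (K.mem_Y_of_J hx.1 hx.2)
    have hsx := nconj (K.WN hs.1.1) hx.2
    have h := ((C.mem_Z_iff (K.comm_J hs.1.1 hx.2)).1 hz).1
    rw [C.H₁.al_mul hsx (C.J.inv_mem hx.2), C.al_inv hx.2, (hact x hx.2).1] at h
    exact (CharTwo.add_eq_zero.1 h).symm
  have hQc : ∀ x ∈ Q, ∀ y ∈ Q, x * y = y * x := by
    intro x hx y hy
    have h := C.comm_eq hx.2 hy.2
    rw [hdiag x hx, hdiag y hy, show a * C.be x * C.be y + a * C.be y * C.be x = 0 by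
      rw [CharTwo.add_eq_zero]; ring, C.H₁.ax_zero] at h
    calc x * y = (x * y * x⁻¹ * y⁻¹) * (y * x) := by group
      _ = _ := by rw [h, one_mul]
  have hQcard : Fintype.card F * Fintype.card F ≤ Nat.card Q := by
    classical
    choose v hv hvb using C.exists_be
    refine le_trans (le_of_eq (by rw [Nat.card_prod, C.card_Z, Nat.card_eq_fintype_card (α := F)] :
        Fintype.card F * Fintype.card F = Nat.card (C.Z × F)))
      (Nat.card_le_card_of_injective (α := C.Z × F) (fun p =>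
        ⟨(p.1 : G) * (s * v p.2 * s⁻¹ * (v p.2)⁻¹), K.W.mul_mem (K.Z_le p.1.2)
          (K.comm_W hs.1.1 (K.J_le_H (C.V1_le (hv _)))),
          C.J.mul_mem (C.Z_le_J p.1.2) (K.comm_J hs.1.1 (C.V1_le (hv _)))⟩) ?_)
    rintro ⟨z, c⟩ ⟨z', c'⟩ e
    have e' := congrArg (fun x : Q => (x : G)) e
    have hbe : ∀ (z : C.Z) (c : F), C.be ((z : G) * (s * v c * s⁻¹ * (v c)⁻¹)) = c := fun z c => by
      rw [C.be_mul (C.Z_le_J z.2) (K.comm_J hs.1.1 (C.V1_le (hv _))), C.be_V2 z.2.2,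
        C.be_mul (nconj (K.WN hs.1.1) (C.V1_le (hv _))) (C.J.inv_mem (C.V1_le (hv _))), C.be_inv (C.V1_le (hv _)),
        (hact _ (C.V1_le (hv _))).2, hvb, (C.H₁.al_eq_zero (C.V1_le (hv _))).2 (hv _)]
      simp
    have hc : c = c' := by rw [← hbe z c, ← hbe z' c']; exact congrArg C.be e'
    subst hc
    rw [Prod.mk.injEq]
    exact ⟨Subtype.ext (mul_right_cancel e'), rfl⟩
  refine ⟨Q, fun x hx => K.mem_Y_of_J hx.1 hx.2, inf_le_right, norm_of_conj_le fun g hg x hx => ?_,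
    fun y hy j hj => ⟨K.comm_W hy.1 (K.J_le_H hj), K.comm_J hy.1 hj⟩⟩
  refine ⟨K.conj_W hg hx.1, ?_⟩
  by_contra hgx
  set y := g * x * g⁻¹ with hy'
  set Q' := Q.map (MulAut.conj g).toMonoidHom with hQ'
  have hQY : Q' ≤ K.Y := by
    rintro _ ⟨u, hu, rfl⟩
    exact nconj (K.Y_inv hZ hg) (K.mem_Y_of_J hu.1 hu.2)
  have hyQ : y ∈ Q' := ⟨x, hx, rfl⟩
  have hy := hQY hyQ
  obtain ⟨v₁, hv₁, hv₁b⟩ := C.exists_be 1
  have hb2 : Nat.card ↥(Q' ⊓ C.J) ≤ 2 * Fintype.card F := by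
    have hcomm : ∀ u ∈ Q', y * u * y⁻¹ = u := by
      rintro _ ⟨u, hu, rfl⟩
      show y * (g * u * g⁻¹) * y⁻¹ = g * u * g⁻¹
      rw [hy', show g * x * g⁻¹ * (g * u * g⁻¹) * (g * x * g⁻¹)⁻¹ = g * (x * u * x⁻¹) * g⁻¹ by group,
        hQc x hx u hu, mul_inv_cancel_right]
    have hone : ∀ u ∈ Q' ⊓ C.J, C.be u ≠ 0 → C.be u = C.H₁.al (y * y) / a := by
      intro u hu hb0
      have huQ : u ∈ Q := ⟨(hQY hu.1).1, hu.2⟩
      set c := C.be u
      obtain ⟨v, hv, hvb⟩ := C.exists_be c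
      have hvJ := C.V1_le hv
      obtain ⟨ey1, ey2⟩ := K.Y_same hs.1 hsJ hy hgx hvJ
      rw [(hact v hvJ).1, hvb] at ey1
      have hyv := nconj (K.WN hy.1) hvJ
      set u' := y * v * y⁻¹ with hu'
      have hu'V : u' ∈ C.V₂ := by
        obtain ⟨h12, -⟩ := (C.side (K.WN hy.1)).resolve_left fun h => K.Y_swap hy hgx h.1
        exact h12 ▸ ⟨v, hv, rfl⟩
      -- `u` is `u' v` up to an element of `Z`
      have hal : C.H₁.al u' = a * c := ey1
      have hz : (u' * v)⁻¹ * u ∈ C.Z := by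
        have huv := C.J.mul_mem hyv hvJ
        refine (C.mem_Z_iff (C.J.mul_mem (C.J.inv_mem huv) hu.2)).2 ⟨?_, ?_⟩
        · rw [C.H₁.al_mul (C.J.inv_mem huv) hu.2, C.al_inv huv, C.H₁.al_mul hyv hvJ, hal,
            (C.H₁.al_eq_zero hvJ).2 hv, add_zero, hdiag u huQ, CharTwo.add_self_eq_zero]
        · rw [C.be_mul (C.J.inv_mem huv) hu.2, C.be_inv huv, C.be_mul hyv hvJ, C.be_V2 hu'V, hvb, zero_add,
            CharTwo.add_self_eq_zero]
      have hfix : y * (u' * v) * y⁻¹ = u' * v := by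
        have h := hcomm u hu.1
        set z := (u' * v)⁻¹ * u
        have hzy : y * z * y⁻¹ = z := by
          rw [← Subgroup.mem_centralizer_iff.1 hy.2 z hz, mul_inv_cancel_right]
        have he : u = (u' * v) * z := by rw [mul_inv_cancel_left]
        rw [he, show y * (u' * v * z) * y⁻¹ = y * (u' * v) * y⁻¹ * (y * z * y⁻¹) by group, hzy] at h
        exact mul_right_cancel h
      have hjJ : y * y ∈ C.J := K.mem_J_of_linear (K.WP (K.W.mul_mem hy.1 hy.1))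
        (C.mul_N1 (K.WN hy.1) (K.WN hy.1) (K.Y_swap hy hgx) (K.Y_swap hy hgx))
        (by rw [(C.mulZ (K.WN hy.1) (K.WN hy.1)).1, (K.σ_Y hy).1, one_mul])
      set k := C.H₁.ax (C.H₁.al (y * y) * c) with hk
      have e1 : y * u' * y⁻¹ = k * v := by
        have h := C.comm1 hv hjJ
        rw [← C.be_V1 hv, hvb, C.inv1 hv] at h
        have hkv : k * v = v * k := C.Z_central (C.ax_mem_Z _) hvJ
        rw [hkv, hk, ← h, hu']
        calc y * (y * v * y⁻¹) * y⁻¹ = (y * y) * v * (y * y)⁻¹ := by group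
          _ = (v * v) * ((y * y) * v * (y * y)⁻¹) := by rw [C.sq1 hv, one_mul]
          _ = _ := by group
      have e2 : k * v * u' = u' * v := by
        calc k * v * u' = y * u' * y⁻¹ * (y * v * y⁻¹) := by rw [e1]
          _ = y * (u' * v) * y⁻¹ := by group
          _ = _ := hfix
      have e3 : k = u' * v * u'⁻¹ * v⁻¹ := by rw [← e2]; group
      rw [C.comm_eq hyv hvJ, hal, hvb, (C.H₁.al_eq_zero hvJ).2 hv, zero_mul, add_zero, hk] at e3
      have e4 := C.H₁.ax_inj e3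
      rw [eq_div_iff ha]
      exact (mul_right_cancel₀ hb0 (e4.trans (by ring))).symm
    have h2 : Nat.card ↥(Q' ⊓ C.J) ≤ 2 * Nat.card ↥((Q' ⊓ C.J) ⊓ C.Z) := by
      refine card_le_two_mul fun p hp hpZ r hr hrZ => ?_
      have hpQ : p ∈ Q := ⟨(hQY hp.1).1, hp.2⟩
      have hrQ : r ∈ Q := ⟨(hQY hr.1).1, hr.2⟩
      have hne : ∀ p ∈ Q, p ∉ C.Z → C.be p ≠ 0 := fun p hp hpZ e =>
        hpZ ((C.mem_Z_iff hp.2).2 ⟨by rw [hdiag p hp, e, mul_zero], e⟩)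
      refine (C.mem_Z_iff (C.J.mul_mem hp.2 (C.J.inv_mem hr.2))).2 ⟨?_, ?_⟩
      · rw [C.H₁.al_mul hp.2 (C.J.inv_mem hr.2), C.al_inv hr.2, hdiag p hpQ, hdiag r hrQ,
          hone p hp (hne p hpQ hpZ), hone r hr (hne r hrQ hrZ), CharTwo.add_self_eq_zero]
      · rw [C.be_mul hp.2 (C.J.inv_mem hr.2), C.be_inv hr.2, hone p hp (hne p hpQ hpZ),
          hone r hr (hne r hrQ hrZ), CharTwo.add_self_eq_zero]
    have h3 : Nat.card ↥((Q' ⊓ C.J) ⊓ C.Z) ≤ Nat.card C.Z := Subgroup.card_le_of_le inf_le_right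
    rw [C.card_Z] at h3
    omega
  have h4 : Nat.card Q' ≤ 2 * Nat.card ↥(Q' ⊓ C.J) := card_le_two_mul fun p hp hpJ r hr hrJ =>
    C.div_mem_J K.P2 K.PN (K.WP (hQY hp).1) (K.WP (hQY hr).1) ((K.σ_Y (hQY hp)).1.trans (K.σ_Y (hQY hr)).1.symm)
      (iff_of_false (K.Y_swap (hQY hp) hpJ) (K.Y_swap (hQY hr) hrJ))
  have hcQ : Nat.card Q' = Nat.card Q := by rw [hQ', Subgroup.card_map_of_injective (MulAut.conj g).injective]
  rw [hcQ] at h4
  have h5 : Fintype.card F * Fintype.card F ≤ 4 * Fintype.card F := by omega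
  have := Nat.le_of_mul_le_mul_right h5 (by omega)
  omega

/-- The elements mapping each layer to the next. -/
def layerStab (A B : Subgroup G) (hB : K.H ≤ Subgroup.normalizer (B : Set G)) : Subgroup G where
  carrier := {h | h ∈ K.H ∧ ∀ x ∈ A, h * x * h⁻¹ * x⁻¹ ∈ B}
  one_mem' := ⟨K.H.one_mem, fun x _ => by simp⟩
  mul_mem' := fun {a b} ha hb => ⟨K.H.mul_mem ha.1 hb.1, fun x hx => by
    rw [show a * b * x * (a * b)⁻¹ * x⁻¹ = a * (b * x * b⁻¹ * x⁻¹) * a⁻¹ * (a * x * a⁻¹ * x⁻¹) by group]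
    exact B.mul_mem (nconj (hB ha.1) (hb.2 x hx)) (ha.2 x hx)⟩
  inv_mem' := fun {a} ha => ⟨K.H.inv_mem ha.1, fun x hx => by
    rw [show a⁻¹ * x * a⁻¹⁻¹ * x⁻¹ = a⁻¹ * (a * x * a⁻¹ * x⁻¹)⁻¹ * a by group]
    exact nconj' (hB ha.1) (B.inv_mem (ha.2 x hx))⟩

theorem layerStab_conj {A B : Subgroup G} (hA : K.H ≤ Subgroup.normalizer (A : Set G))
    (hB : K.H ≤ Subgroup.normalizer (B : Set G)) {g h : G} (hg : g ∈ K.H) (hh : h ∈ K.layerStab A B hB) :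
    g * h * g⁻¹ ∈ K.layerStab A B hB :=
  ⟨K.H.mul_mem (K.H.mul_mem hg hh.1) (K.H.inv_mem hg), fun x hx => by
    have := nconj (hB hg) (hh.2 _ (nconj' (hA hg) hx))
    rwa [show g * (h * (g⁻¹ * x * g) * h⁻¹ * (g⁻¹ * x * g)⁻¹) * g⁻¹ =
      g * h * g⁻¹ * x * (g * h * g⁻¹)⁻¹ * x⁻¹ by group] at this⟩

theorem J_le (hq : 4 < Fintype.card F) (hZ : K.H ≤ Subgroup.normalizer (C.Z : Set G)) : C.J ≤ K.W := by
  obtain ⟨X, hXY, hXJ, hX, hYX⟩ := K.exists_layer hq hZ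
  have hbot : K.H ≤ Subgroup.normalizer ((⊥ : Subgroup G) : Set G) := norm_of_conj_le fun g _ x hx => by
    rw [Subgroup.mem_bot] at hx ⊢
    rw [hx, mul_one, mul_inv_cancel]
  set S := K.layerStab K.W K.Y (K.Y_inv hZ) ⊓ K.layerStab K.Y X hX ⊓ K.layerStab X C.Z hZ ⊓
    K.layerStab C.Z ⊥ hbot
  have inv_ : ∀ {x j : G} {B : Subgroup G}, x * j * x⁻¹ * j⁻¹ ∈ B → j * x * j⁻¹ * x⁻¹ ∈ B := fun {x j B} h => by
    have := B.inv_mem h
    rwa [show (x * j * x⁻¹ * j⁻¹)⁻¹ = j * x * j⁻¹ * x⁻¹ by group] at this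
  have hJS : C.J ≤ S := fun j hj => by
    have hjH := K.J_le_H hj
    exact ⟨⟨⟨⟨hjH, fun x hx => inv_ (K.mem_Y_of_J (K.comm_W hx hjH) (K.comm_J hx hj))⟩,
      ⟨hjH, fun x hx => inv_ (hYX x hx j hj)⟩⟩,
      ⟨hjH, fun x hx => C.comm_mem_Z hj (hXJ hx)⟩⟩,
      ⟨hjH, fun x hx => by rw [Subgroup.mem_bot, ← C.Z_central hx hj, mul_inv_cancel_right, mul_inv_cancel]⟩⟩
  refine hJS.trans (K.maximal S (fun h hh => hh.2.1) (norm_of_conj_le fun g hg h hh => ?_) fun ⟨h, hh⟩ => ?_)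
  · exact ⟨⟨⟨K.layerStab_conj K.W_norm _ hg hh.1.1.1, K.layerStab_conj (K.Y_inv hZ) _ hg hh.1.1.2⟩,
      K.layerStab_conj hX _ hg hh.1.2⟩, K.layerStab_conj hZ _ hg hh.2⟩
  · obtain ⟨n, m, hm, ho⟩ := Nat.exists_eq_two_pow_mul_odd (orderOf_pos h).ne'
    refine ⟨n, Subtype.ext ?_⟩
    set h' := h ^ 2 ^ n
    have hh' : h' ∈ S := S.pow_mem hh _
    have hodd : h' ^ m = 1 := by rw [← pow_mul, ← ho, pow_orderOf_eq_one]
    have two : ∀ c ∈ K.W, ∃ k, c ^ 2 ^ k = 1 := fun c hc => by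
      obtain ⟨k, hk⟩ := K.P2 ⟨c, K.WP hc⟩
      exact ⟨k, congrArg Subtype.val hk⟩
    have conjEq : ∀ x, h' * x * h'⁻¹ = (h' * x * h'⁻¹ * x⁻¹) * x := fun x => by group
    have f3 : ∀ x ∈ C.Z, h' * x * h'⁻¹ = x := fun x hx => by
      have e := hh'.2.2 x hx
      rw [Subgroup.mem_bot] at e
      rw [conjEq, e, one_mul]
    have step : ∀ A B : Subgroup G, (∀ x ∈ A, h' * x * h'⁻¹ * x⁻¹ ∈ B) → B ≤ K.W →
        (∀ x ∈ B, h' * x * h'⁻¹ = x) → ∀ x ∈ A, h' * x * h'⁻¹ = x := fun A B hAB hBW hB x hx => by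
      rw [conjEq, fix_of_layer hm hodd (conjEq x) (hB _ (hAB x hx)) (two _ (hBW (hAB x hx))), one_mul]
    have f2 := step X C.Z hh'.1.2.2 K.Z_le f3
    have f1 := step K.Y X hh'.1.1.2.2 (hXY.trans inf_le_left) f2
    have f0 := step K.W K.Y hh'.1.1.1.2 inf_le_left f1
    obtain ⟨k, hk⟩ := two h' (K.W_cent (Subgroup.mem_centralizer_iff.2 fun x hx =>
      (mul_inv_eq_iff_eq_mul.1 (f0 x hx)).symm))
    have hcop : Nat.Coprime m (2 ^ k) := ((Nat.coprime_two_right).2 hm).pow_right k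
    have := (pow_gcd_eq_one (a := h')).2 ⟨hodd, hk⟩
    rwa [hcop.gcd_eq_one, pow_one] at this

end Core

namespace Conf

variable [CharP F 2] [Finite G] (C : Conf G F)

/-- The centraliser of an involution of `Z` normalises `J`. -/
theorem cent_le (hG : IsCharacteristicTwoType G) (hq : 4 < Fintype.card F) {z : G} (hz : z ∈ C.Z) (hz1 : z ≠ 1) :
    Subgroup.centralizer ({z} : Set G) ≤ C.NJ := by
  haveI : Fact (Nat.Prime 2) := ⟨Nat.prime_two⟩
  set c₀ := C.H₁.co z 0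
  have hzc : z = C.H₁.ax c₀ := C.eq_axis hz
  have hc0 : c₀ ≠ 0 := fun e => hz1 (by rw [hzc, e, C.H₁.ax_zero])
  set H := Subgroup.centralizer ({z} : Set G) with hH
  have hz2 : z * z = 1 := C.sq1 hz.1
  have hT2 : IsPGroup 2 (Subgroup.zpowers z) := IsPGroup.of_card (n := 1) (by
    rw [Nat.card_zpowers, pow_one]
    exact orderOf_eq_prime (by rw [pow_two, hz2]) hz1)
  have hpw : ∀ x ∈ Subgroup.zpowers z, x = 1 ∨ x = z := by
    intro x hx
    obtain ⟨k, rfl⟩ := Subgroup.mem_zpowers_iff.1 hx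
    have h2 : z ^ (2 : ℤ) = 1 := by rw [zpow_two, hz2]
    rcases Int.even_or_odd' k with ⟨j, rfl | rfl⟩
    · exact Or.inl (by rw [zpow_mul, h2, one_zpow])
    · exact Or.inr (by rw [zpow_add, zpow_mul, h2, one_zpow, one_mul, zpow_one])
  have hNH : Subgroup.normalizer ((Subgroup.zpowers z : Subgroup G) : Set G) = H := by
    ext g
    rw [hH, Subgroup.mem_centralizer_singleton_iff]
    refine ⟨fun hg => ?_, fun hg => ?_⟩
    · rcases hpw _ (nconj hg (Subgroup.mem_zpowers z)) with h | h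
      · exact absurd (conj_eq_one_iff.1 h) hz1
      · exact mul_inv_eq_iff_eq_mul.1 h
    · refine (Subgroup.centralizer_le_normalizer _) (Subgroup.mem_centralizer_iff.2 fun x hx => ?_)
      rcases hpw x hx with rfl | rfl
      · rw [one_mul, mul_one]
      · exact hg.symm
  have hchar := hG.2 _ hT2 (fun e => hz1 (Subgroup.mem_bot.1 (e ▸ Subgroup.mem_zpowers z)))
  rw [hNH] at hchar
  have hJH : C.J ≤ H := fun j hj => Subgroup.mem_centralizer_singleton_iff.2 (C.Z_central hz hj).symm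
  obtain ⟨P', hP'⟩ := (C.J_two.comap_of_injective H.subtype H.subtype_injective).exists_le_sylow
  set P := (P' : Subgroup H).map H.subtype
  have hP2 : IsPGroup 2 P := P'.isPGroup'.map _
  have hJP : C.J ≤ P := fun j hj => ⟨⟨j, hJH hj⟩, hP' hj, rfl⟩
  set W := (pCore 2 ↥H).map H.subtype
  have hWn : H ≤ Subgroup.normalizer (W : Set G) := norm_of_conj_le fun g hg x hx => by
    obtain ⟨y, hy, rfl⟩ := hx
    exact ⟨⟨g, hg⟩ * y * ⟨g, hg⟩⁻¹, (inferInstance : (pCore 2 ↥H).Normal).conj_mem y hy _, rfl⟩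
  have hmax : ∀ K : Subgroup G, K ≤ H → H ≤ Subgroup.normalizer (K : Set G) → IsPGroup 2 K → K ≤ W :=
    fun K hK hn h2 x hx => ⟨⟨x, hK hx⟩, Cores.le_pCore (Subgroup.normal_subgroupOf_of_le_normalizer hn)
      (h2.comap_of_injective H.subtype H.subtype_injective) hx, rfl⟩
  have hzW : z ∈ W := hmax _ (hNH ▸ Subgroup.le_normalizer) hNH.ge hT2 (Subgroup.mem_zpowers z)
  have hcent : Subgroup.centralizer (W : Set G) ≤ W := by
    intro c hc
    have hcH : c ∈ H := Subgroup.mem_centralizer_singleton_iff.2 (Subgroup.mem_centralizer_iff.1 hc z hzW).symm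
    exact ⟨⟨c, hcH⟩, hchar (Subgroup.mem_centralizer_iff.2 fun r hr =>
      Subtype.ext (Subgroup.mem_centralizer_iff.1 hc _ ⟨r, hr, rfl⟩)), rfl⟩
  let K : Core C :=
    { H := H, W := W, P := P, c₀ := c₀, c₀_ne := hc0, eqH := by rw [hH, hzc]
      WP := Subgroup.map_mono (Cores.pCore_le_sylow P')
      PH := Subgroup.map_subtype_le _
      JP := hJP, P2 := hP2, PN := C.le_N_of_two hP2 hJP, W_norm := hWn, W_cent := hcent, maximal := hmax }
  by_cases h1 : W ≤ C.V₁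
  · exact K.le_N_of_le h1
  by_cases h2 : W ≤ C.V₂
  · intro g hg
    have hV : C.V₂ ≤ W := fun v hv => hcent (Subgroup.mem_centralizer_iff.2 fun w hw => C.H₂.comm (h2 hw) hv)
    have hgN : g ∈ Subgroup.normalizer (C.V₂ : Set G) := (le_antisymm h2 hV) ▸ hWn hg
    have e : z = C.H₂.ax (C.H₂.co z 0) := C.toPair.swap.eq_axis (C.swap_Z.symm ▸ hz)
    refine C.H₂.norm_J_of_comm hgN (c := C.H₂.co z 0)
      (fun e0 => hz1 (by rw [e, e0, C.H₂.ax_zero])) ?_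
    rw [← e]
    exact Subgroup.mem_centralizer_singleton_iff.1 hg
  intro g hg
  have hJW := K.J_le hq (K.Z_inv hq h1 h2)
  refine C.norm_of_map_le hP2 (C.le_N_of_two hP2 hJP) ?_
  rintro _ ⟨j, hj, rfl⟩
  exact K.WP (nconj (hWn hg) (hJW hj))

end Conf

end Cfsg.Agent.ParabolicPair
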