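import Cfsg.Agent.EqLemmas
import Cfsg.Agent.Lib.AutPOmega.Split
import Mathlib.Algebra.CharP.Two
import Mathlib.Algebra.Field.Subfield.Defs
import Mathlib.LinearAlgebra.FiniteDimensional.Defs

/-!
# Automorphisms of a finite field of characteristic two (S3091)

* `aut_comm`, `card_aut`, `aut_invol_unique` : the automorphism group is cyclic of order `e`
* `fixCard_sq_le`, `two_mul_fixCard_le` : the fixed field of a nontrivial automorphism is small
* `card_semifix_le` : `k σ(x) = x` has at most as many solutions as the fixed field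
* `eq_one_of_pow` : a semilinear map generating a group of order `q - 1` on the line is linear
-/

set_option autoImplicit false

namespace Cfsg.Agent.ParabolicPair

variable {F : Type*} [Field F] [Fintype F]

theorem exists_gen {e : ℕ} (he : 1 ≤ e) (hF : Fintype.card F = 2 ^ e) :
    ∃ σ : F ≃+* F, orderOf σ = e ∧ Nat.card (F ≃+* F) = e ∧ Subgroup.zpowers σ = ⊤ := by
  haveI : Fact (Nat.Prime 2) := ⟨Nat.prime_two⟩
  obtain ⟨σ, -, ho, hc⟩ := AutPOmega.exists_frob 2 e he hF
  haveI : Finite (F ≃+* F) := Nat.finite_of_card_ne_zero (by omega)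
  exact ⟨σ, ho, hc, Subgroup.eq_top_of_card_eq _ (by rw [Nat.card_zpowers, ho, hc])⟩

theorem card_aut {e : ℕ} (he : 1 ≤ e) (hF : Fintype.card F = 2 ^ e) : Nat.card (F ≃+* F) = e :=
  let ⟨_, _, h, _⟩ := exists_gen he hF; h

theorem aut_comm {e : ℕ} (he : 1 ≤ e) (hF : Fintype.card F = 2 ^ e) (s t : F ≃+* F) : s * t = t * s := by
  obtain ⟨σ, -, -, h⟩ := exists_gen he hF
  obtain ⟨i, rfl⟩ := Subgroup.mem_zpowers_iff.1 (h ▸ Subgroup.mem_top s)
  obtain ⟨j, rfl⟩ := Subgroup.mem_zpowers_iff.1 (h ▸ Subgroup.mem_top t)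
  rw [← zpow_add, ← zpow_add, add_comm]

theorem aut_invol_unique {e : ℕ} (he : 1 ≤ e) (hF : Fintype.card F = 2 ^ e) {s t : F ≃+* F}
    (hs : s * s = 1) (ht : t * t = 1) (hs1 : s ≠ 1) (ht1 : t ≠ 1) : s = t := by
  classical
  obtain ⟨σ, ho, -, h⟩ := exists_gen he hF
  haveI : Finite (F ≃+* F) := Nat.finite_of_card_ne_zero (by rw [card_aut he hF]; omega)
  have key : ∀ u : F ≃+* F, u * u = 1 → u ≠ 1 → ∃ i, u = σ ^ i ∧ i < e ∧ 2 * i = e := by
    intro u hu hu1
    obtain ⟨i, hi, rfl⟩ := Finset.mem_image.1 (mem_zpowers_iff_mem_range_orderOf.1 (h ▸ Subgroup.mem_top u))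
    rw [Finset.mem_range, ho] at hi
    refine ⟨i, rfl, hi, ?_⟩
    rw [← pow_add] at hu
    have hd : e ∣ i + i := ho ▸ orderOf_dvd_of_pow_eq_one hu
    obtain ⟨c, hc⟩ := hd
    have hi0 : i ≠ 0 := fun e0 => hu1 (by rw [e0, pow_zero])
    rcases c with _ | _ | c
    · omega
    · omega
    · have : e * 2 ≤ e * (c + 1 + 1) := Nat.mul_le_mul_left e (by omega)
      omega
  obtain ⟨i, rfl, hi, hi2⟩ := key s hs hs1
  obtain ⟨j, rfl, hj, hj2⟩ := key t ht ht1
  rw [show i = j by omega]

/-- The fixed field. -/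
def fixField (σ : F ≃+* F) : Subfield F where
  carrier := {x | σ x = x}
  one_mem' := map_one σ
  zero_mem' := map_zero σ
  mul_mem' := fun {a b} (ha : σ a = a) (hb : σ b = b) => show σ (a * b) = a * b by rw [map_mul, ha, hb]
  add_mem' := fun {a b} (ha : σ a = a) (hb : σ b = b) => show σ (a + b) = a + b by rw [map_add, ha, hb]
  neg_mem' := fun {a} (ha : σ a = a) => show σ (-a) = -a by rw [map_neg, ha]
  inv_mem' := fun a (ha : σ a = a) => show σ a⁻¹ = a⁻¹ by rw [map_inv₀, ha]

/-- The order of the fixed field. -/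
noncomputable def fixCard (σ : F ≃+* F) : ℕ := Nat.card {x : F // σ x = x}

theorem two_le_fixCard (σ : F ≃+* F) : 2 ≤ fixCard σ := by
  let f : Bool → {x : F // σ x = x} := fun b => if b then ⟨1, map_one σ⟩ else ⟨0, map_zero σ⟩
  have hf : Function.Injective f := by
    intro a b h
    cases a <;> cases b <;> simp [f, Subtype.ext_iff] at h ⊢
  simpa [fixCard] using Nat.card_le_card_of_injective f hf

theorem card_eq_fix_pow (σ : F ≃+* F) : ∃ r, Fintype.card F = fixCard σ ^ r ∧ (σ ≠ 1 → 2 ≤ r) := by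
  classical
  set K := fixField σ with hK
  haveI : Fintype K := Fintype.ofFinite _
  have hfc : fixCard σ = Fintype.card K := by
    rw [fixCard, ← Nat.card_eq_fintype_card]; rfl
  refine ⟨Module.finrank K F, hfc ▸ Module.card_eq_pow_finrank, fun h1 => ?_⟩
  by_contra h
  have hpos : 0 < Module.finrank K F := Module.finrank_pos
  have hc : Fintype.card F = Fintype.card K := by
    rw [Module.card_eq_pow_finrank (K := K) (V := F), show Module.finrank K F = 1 by omega, pow_one]
  apply h1
  refine RingEquiv.ext fun x => ?_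
  obtain ⟨⟨y, hy⟩, hyx⟩ := ((Fintype.bijective_iff_injective_and_card (fun a : K => (a : F))).2
    ⟨Subtype.val_injective, hc.symm⟩).2 x
  obtain rfl : y = x := hyx
  exact hy

theorem fixCard_sq_le {σ : F ≃+* F} (hσ : σ ≠ 1) : fixCard σ * fixCard σ ≤ Fintype.card F := by
  obtain ⟨r, hr, h2⟩ := card_eq_fix_pow σ
  rw [hr, ← pow_two]
  exact Nat.pow_le_pow_right (by have := two_le_fixCard σ; omega) (h2 hσ)

theorem two_mul_fixCard_le {σ : F ≃+* F} (hσ : σ ≠ 1) : 2 * fixCard σ ≤ Fintype.card F :=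
  (Nat.mul_le_mul_right _ (two_le_fixCard σ)).trans (fixCard_sq_le hσ)

theorem two_mul_fixCard_lt {σ : F ≃+* F} (hσ : σ ≠ 1) (hq : 4 < Fintype.card F) :
    2 * fixCard σ < Fintype.card F := by
  rcases (two_le_fixCard σ).eq_or_lt with h | h
  · omega
  · exact lt_of_lt_of_le (Nat.mul_lt_mul_of_pos_right h (by omega)) (fixCard_sq_le hσ)

theorem fixCard_lt {σ : F ≃+* F} (hσ : σ ≠ 1) : fixCard σ < Fintype.card F := by
  have := two_mul_fixCard_le hσ
  have := two_le_fixCard σ
  omega

theorem card_semifix_le (σ : F ≃+* F) (k : F) : Nat.card {x : F // k * σ x = x} ≤ fixCard σ := by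
  classical
  by_cases h : ∃ x₀ : F, x₀ ≠ 0 ∧ k * σ x₀ = x₀
  · obtain ⟨x₀, h0, hx₀⟩ := h
    refine Nat.card_le_card_of_injective (fun x => (⟨x.1 / x₀, ?_⟩ : {x : F // σ x = x})) ?_
    · have hk : k ≠ 0 := fun e => h0 (by rw [← hx₀, e, zero_mul])
      rw [map_div₀]
      conv_rhs => rw [← x.2, ← hx₀]
      rw [mul_div_mul_left _ _ hk]
    · intro a b e
      exact Subtype.ext ((div_left_inj' h0).1 (congrArg Subtype.val e))
  · push Not at h
    haveI : Subsingleton {x : F // k * σ x = x} := ⟨fun a b => Subtype.ext (by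
      rw [by_contra fun ha => h a.1 ha a.2, by_contra fun hb => h b.1 hb b.2])⟩
    exact Finite.card_le_one_iff_subsingleton.2 this |>.trans (by have := two_le_fixCard σ; omega)

/-- A semilinear permutation `x ↦ k σ(x)` whose powers reach all multipliers is linear. -/
theorem eq_one_of_gen {σ : F ≃+* F} {k : F} (hk : k ≠ 0)
    (hgen : ∀ m, 0 < m → (fun x : F => k * σ x)^[m] 1 = 1 → Fintype.card F - 1 ≤ m) : σ = 1 := by
  classical
  by_contra hσ
  set g : F → F := fun x => k * σ x with hg
  obtain ⟨r, hr, h2⟩ := card_eq_fix_pow σ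
  specialize h2 hσ
  -- the period of `σ`
  haveI : Finite (F ≃+* F) := Finite.of_injective (fun s : F ≃+* F => (s : F → F)) DFunLike.coe_injective
  set m := orderOf σ with hm
  have hit : ∀ n, ∃ c : F, c ≠ 0 ∧ ∀ x, g^[n] x = c * (σ ^ n) x := by
    intro n
    induction n with
    | zero => exact ⟨1, one_ne_zero, fun x => by simp⟩
    | succ n ih =>
      obtain ⟨c, hc, hx⟩ := ih
      refine ⟨k * σ c, mul_ne_zero hk ((map_ne_zero_iff σ σ.injective).2 hc), fun x => ?_⟩
      rw [Function.iterate_succ_apply', hx, pow_succ' σ, RingAut.mul_apply]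
      show k * σ (c * (σ ^ n) x) = _
      rw [map_mul, mul_assoc]
  obtain ⟨c, hc, hx⟩ := hit m
  rw [pow_orderOf_eq_one] at hx
  have hfix : σ c = c := by
    have h1 := hx (g 1)
    rw [← Function.iterate_succ_apply, Function.iterate_succ_apply', hx 1] at h1
    have h1' : k * σ (c * 1) = c * (k * σ 1) := h1
    rw [mul_one, map_one, mul_one, mul_comm c k] at h1'
    exact mul_left_cancel₀ hk h1'
  have hpow : ∀ i, g^[m * i] 1 = c ^ i := by
    intro i
    induction i with
    | zero => simp
    | succ i ih =>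
      rw [Nat.mul_succ, Nat.add_comm, Function.iterate_add_apply, ih, hx, pow_succ']
      rfl
  set K := fixField σ
  haveI : Fintype K := Fintype.ofFinite _
  have hfc : fixCard σ = Fintype.card K := by
    rw [fixCard, ← Nat.card_eq_fintype_card]; rfl
  have hcq : c ^ (fixCard σ - 1) = 1 := by
    have := FiniteField.pow_card_sub_one_eq_one (K := K) ⟨c, hfix⟩
      (fun e => hc (congrArg Subtype.val e))
    rw [hfc]
    exact congrArg Subtype.val this
  have h4 := two_le_fixCard σ
  have h5 := hgen (m * (fixCard σ - 1)) (Nat.mul_pos (orderOf_pos σ) (by omega)) ((hpow _).trans hcq)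
  -- the period is at most the degree
  have hmr : m ≤ r := by
    have hK : Module.finrank K F = r := by
      have h6 : Fintype.card K ^ Module.finrank K F = Fintype.card K ^ r := by
        rw [← Module.card_eq_pow_finrank, ← hfc, hr]
      exact Nat.pow_right_injective (hfc ▸ h4) h6
    let ψ : F ≃ₐ[K] F := AlgEquiv.ofRingEquiv (f := σ) fun a => a.2
    have hψ : orderOf ψ = m := by
      rw [hm]; refine orderOf_eq_orderOf_iff.2 ?_
      intro n
      constructor <;> intro h <;> ext x
      · have := congrArg (fun e : F ≃ₐ[K] F => e x) h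
        have hn : ∀ n, (ψ ^ n) x = (σ ^ n) x := by
          intro n
          induction n with
          | zero => rfl
          | succ n ih => rw [pow_succ', pow_succ', AlgEquiv.mul_apply, RingAut.mul_apply, ih]; rfl
        simpa [hn] using this
      · have hn : ∀ n, (ψ ^ n) x = (σ ^ n) x := by
          intro n
          induction n with
          | zero => rfl
          | succ n ih => rw [pow_succ', pow_succ', AlgEquiv.mul_apply, RingAut.mul_apply, ih]; rfl
        rw [hn, h]; rfl
    rw [← hψ, ← hK]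
    calc orderOf ψ ≤ Nat.card (F ≃ₐ[K] F) := Nat.le_of_dvd Nat.card_pos (orderOf_dvd_natCard _)
      _ ≤ _ := by rw [Nat.card_eq_fintype_card]; exact AlgEquiv.card_le
  have key : ∀ j, 2 ≤ j → j * (fixCard σ - 1) + 2 ≤ fixCard σ ^ j := by
    intro j hj
    obtain ⟨a, ha⟩ : ∃ a, fixCard σ = a + 1 := ⟨fixCard σ - 1, by omega⟩
    rw [ha, Nat.add_sub_cancel]
    induction j, hj using Nat.le_induction with
    | base => nlinarith
    | succ j hj ih =>
      rw [pow_succ]
      nlinarith [Nat.one_le_pow j (a + 1) (by omega)]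
  have h7 := key r h2
  rw [hr] at h5
  have h8 : m * (fixCard σ - 1) ≤ r * (fixCard σ - 1) := Nat.mul_le_mul_right _ hmr
  omega

end Cfsg.Agent.ParabolicPair
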