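import Cfsg.Agent.Lib.ParabolicPair.Loc
import Cfsg.Agent.Lib.PGroup.Basic
import Cfsg.Agent.Lib.ONanLines.FStar
import Cfsg.Agent.S4216

/-!
# The simple normal subgroup (S3091)

* `Loc.L_le_of_normal` : a nontrivial normal subgroup contains `L₁` and `L₂`
* `Loc.exists_simple` : the minimal normal subgroup is simple and is `F*(G)`
* `Loc.sylow_eq` : in a simple group with such a configuration `J` is a Sylow 2-subgroup
-/

set_option autoImplicit false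

open Cfsg
open scoped commutatorElement

namespace Cfsg.Agent.ParabolicPair.Loc

variable {G : Type*} [Group G] {F : Type*} [Field F] [Fintype F] [CharP F 2] [Finite G] (C : Loc G F)

theorem centralizer_J : Subgroup.centralizer (C.J : Set G) ≤ C.Z := fun _ hc =>
  ⟨C.cent₁ (Subgroup.centralizer_le C.V1_le hc), C.cent₂ (Subgroup.centralizer_le C.V2_le hc)⟩

theorem two_Z : ∃ z₁ ∈ C.Z, ∃ z₂ ∈ C.Z, z₁ ≠ 1 ∧ z₂ ≠ 1 ∧ z₁ * z₂ ≠ 1 := by
  obtain ⟨t, ht0, ht1⟩ : ∃ t : F, t ≠ 0 ∧ t ≠ 1 := by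
    by_contra h
    push Not at h
    classical
    have : (Finset.univ : Finset F) ⊆ {0, 1} := fun x _ => by
      by_cases hx : x = 0
      · simp [hx]
      · simp [h x hx]
    have := (Finset.card_le_card this).trans Finset.card_le_two
    have := C.big
    rw [Finset.card_univ] at *
    omega
  refine ⟨_, C.ax_mem_Z 1, _, C.ax_mem_Z t, C.ax1_ne, fun e => ht0 (C.H₁.ax_inj (e.trans C.H₁.ax_zero.symm)), fun e => ?_⟩
  rw [← C.H₁.ax_add, ← C.H₁.ax_zero] at e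
  exact ht1 (CharTwo.add_eq_zero.1 (C.H₁.ax_inj e)).symm

include C in
/-- A nontrivial normal subgroup has even order. -/
theorem even_of_normal {M : Subgroup G} [hM : M.Normal] (hne : M ≠ ⊥) : 2 ∣ Nat.card M := by
  haveI : Fact (Nat.Prime 2) := ⟨Nat.prime_two⟩
  by_contra hodd
  have hJM : ∀ x ∈ C.J, x ∈ M → x = 1 := by
    intro x hx hxM
    obtain ⟨n, hn⟩ := C.J_two ⟨x, hx⟩
    have h1 : x ^ 2 ^ n = 1 := congrArg Subtype.val hn
    have h2 : x ^ Nat.card M = 1 := congrArg Subtype.val (pow_card_eq_one' (x := (⟨x, hxM⟩ : M)))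
    have hcop : Nat.Coprime (2 ^ n) (Nat.card M) := ((Nat.prime_two.coprime_iff_not_dvd).2 hodd).pow_left n
    have := (pow_gcd_eq_one (a := x)).2 ⟨h1, h2⟩
    rwa [hcop.gcd_eq_one, pow_one] at this
  have hfpf : ∀ z ∈ C.Z, z ≠ 1 → ∀ x ∈ M, z * x * z⁻¹ = x⁻¹ := by
    intro z hz hz1
    have hfix : ∀ x ∈ M, z * x * z⁻¹ = x → x = 1 := by
      intro x hx h
      have hxN : x ∈ C.NJ := C.cz' hz hz1 (mul_inv_eq_iff_eq_mul.1 h).symm
      have hcent : x ∈ Subgroup.centralizer (C.J : Set G) := Subgroup.mem_centralizer_iff.2 fun j hj => by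
        have h1 : x * j * x⁻¹ * j⁻¹ = 1 := hJM _ (C.J.mul_mem (nconj hxN hj) (C.J.inv_mem hj)) (by
          rw [show x * j * x⁻¹ * j⁻¹ = x * (j * x⁻¹ * j⁻¹) by group]
          exact M.mul_mem hx (hM.conj_mem _ (M.inv_mem hx) j))
        exact (mul_inv_eq_iff_eq_mul.1 (mul_inv_eq_one.1 h1)).symm
      exact hJM x (C.Z_le_J (C.centralizer_J hcent)) hx
    let f : M → M := fun x => ⟨(x : G)⁻¹ * (z * x * z⁻¹), M.mul_mem (M.inv_mem x.2) (hM.conj_mem _ x.2 z)⟩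
    have hinj : Function.Injective f := by
      intro a b e
      have e' : (a : G)⁻¹ * (z * a * z⁻¹) = (b : G)⁻¹ * (z * b * z⁻¹) := congrArg Subtype.val e
      have h1 : z * ((b : G) * (a : G)⁻¹) * z⁻¹ = (b : G) * (a : G)⁻¹ := by
        calc z * ((b : G) * (a : G)⁻¹) * z⁻¹
            = (b : G) * ((b : G)⁻¹ * (z * b * z⁻¹)) * ((a : G)⁻¹ * (z * a * z⁻¹))⁻¹ * (a : G)⁻¹ := by group
          _ = _ := by rw [← e']; group
      exact Subtype.ext (mul_inv_eq_one.1 (hfix _ (M.mul_mem b.2 (M.inv_mem a.2)) h1)).symm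
    intro x hx
    obtain ⟨y, hy⟩ := Finite.injective_iff_surjective.1 hinj ⟨x, hx⟩
    obtain rfl : (y : G)⁻¹ * (z * y * z⁻¹) = x := congrArg Subtype.val hy
    have hzi := C.inv1 hz.1
    rw [hzi, mul_inv_rev, mul_inv_rev, mul_inv_rev, hzi, inv_inv]
    have hz2 := C.sq1 hz.1
    calc z * ((y : G)⁻¹ * (z * y * z)) * z = z * (y : G)⁻¹ * z * y * (z * z) := by group
      _ = z * ((y : G)⁻¹ * z) * y := by rw [hz2, mul_one, mul_assoc z]
  obtain ⟨z₁, hz₁, z₂, hz₂, h1, h2, h12⟩ := C.two_Z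
  obtain ⟨x, hx, hx1⟩ := (Subgroup.bot_or_exists_ne_one M).resolve_left hne
  have e1 := hfpf z₁ hz₁ h1 x hx
  have e2 := hfpf z₂ hz₂ h2 x hx
  have e3 := hfpf (z₁ * z₂) (C.Z.mul_mem hz₁ hz₂) h12 x hx
  have e4 : z₁ * z₂ * x * (z₁ * z₂)⁻¹ = x := by
    calc z₁ * z₂ * x * (z₁ * z₂)⁻¹ = z₁ * (z₂ * x * z₂⁻¹) * z₁⁻¹ := by group
      _ = (z₁ * x * z₁⁻¹)⁻¹ := by rw [e2]; group
      _ = x := by rw [e1, inv_inv]
  rw [e4] at e3
  have hx2 : x ^ 2 = 1 := by rw [pow_two]; nth_rw 1 [e3]; rw [inv_mul_cancel]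
  have hd := orderOf_dvd_natCard (⟨x, hx⟩ : M)
  have ho : orderOf (⟨x, hx⟩ : M) = 2 := orderOf_eq_prime (Subtype.ext hx2) fun e => hx1 (congrArg Subtype.val e)
  exact hodd (ho ▸ hd)

theorem L_le_of_normal {M : Subgroup G} [hM : M.Normal] (hne : M ≠ ⊥) : C.L₁ ≤ M ∧ C.L₂ ≤ M := by
  haveI : Fact (Nat.Prime 2) := ⟨Nat.prime_two⟩
  obtain ⟨x₀, hx₀⟩ := exists_prime_orderOf_dvd_card' 2 (C.even_of_normal hne)
  obtain ⟨S, hSJ, -⟩ := C.exists_sylow
  obtain ⟨S', hS'⟩ := (IsPGroup.of_card (n := 1) (by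
    rw [Nat.card_zpowers, Subgroup.orderOf_coe, hx₀, pow_one]) : IsPGroup 2 (Subgroup.zpowers (x₀ : G))).exists_le_sylow
  obtain ⟨g, hg⟩ := MulAction.exists_smul_eq G S' S
  have hmem : g * (x₀ : G) * g⁻¹ ∈ (S : Subgroup G) := by
    rw [← hg, Sylow.coe_subgroup_smul]
    exact ⟨x₀, hS' (Subgroup.mem_zpowers _), rfl⟩
  have hne' : M.subgroupOf (S : Subgroup G) ≠ ⊥ := fun e => by
    have h : (⟨g * (x₀ : G) * g⁻¹, hmem⟩ : (S : Subgroup G)) ∈ M.subgroupOf (S : Subgroup G) :=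
      Subgroup.mem_subgroupOf.2 (hM.conj_mem _ x₀.2 g)
    rw [e, Subgroup.mem_bot] at h
    have h' : (x₀ : G) = 1 := conj_eq_one_iff.1 (congrArg Subtype.val h)
    rw [show x₀ = 1 from Subtype.ext h', orderOf_one] at hx₀
    exact absurd hx₀ (by norm_num)
  obtain ⟨⟨z, hzS⟩, hz, hz1⟩ := (Subgroup.bot_or_exists_ne_one _).resolve_left
    (PGroup.inf_center_ne_bot S.isPGroup' hne')
  have hzZ : z ∈ C.Z := C.centralizer_J (Subgroup.mem_centralizer_iff.2 fun j hj =>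
    congrArg Subtype.val (Subgroup.mem_center_iff.1 hz.2 ⟨j, hSJ hj⟩))
  have hz1' : z ≠ 1 := fun e => hz1 (Subtype.ext e)
  have hzM : z ∈ M := Subgroup.mem_subgroupOf.1 hz.1
  have hax : C.H₁.ax 1 ∈ M := by
    obtain ⟨m, -, e⟩ := C.conj_ax1_Z hzZ hz1'
    rw [← show m⁻¹ * (m * C.H₁.ax 1 * m⁻¹) * m⁻¹⁻¹ = C.H₁.ax 1 by group, e]
    exact hM.conj_mem z hzM _
  have hinv : ∀ x ∈ C.J, x * x = 1 → x ∈ M := fun x hx h2 => by
    by_cases h1 : x = 1
    · rw [h1]; exact M.one_mem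
    · obtain ⟨a, e⟩ := C.conj_ax1 hx h2 h1
      exact e ▸ hM.conj_mem _ hax a
  have hJ : C.J ≤ M := C.sup.ge.trans
    (sup_le (fun v hv => hinv v (C.V1_le hv) (C.sq1 hv)) fun v hv => hinv v (C.V2_le hv) (C.sq2 hv))
  exact ⟨C.H₁.le_of_normal hJ fun l _ x hx => hM.conj_mem x hx l,
    C.H₂.le_of_normal hJ fun l _ x hx => hM.conj_mem x hx l⟩

theorem V1_ne_bot : C.V₁ ≠ ⊥ := fun e => by
  have h := C.card_V.1
  rw [e, Subgroup.card_bot] at h
  have := C.big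
  nlinarith

theorem not_comm_J : ∃ x ∈ C.J, ∃ y ∈ C.J, x * y ≠ y * x := by
  obtain ⟨v, hv, hvb⟩ := C.exists_be 1
  obtain ⟨u, hu, hua⟩ := C.exists_al_V2 1
  refine ⟨v, C.V1_le hv, u, C.V2_le hu, fun e => ?_⟩
  have h := (C.comm_iff1 hv (C.V2_le hu)).1 e
  rw [hua, ← C.be_V1 hv, hvb, one_mul] at h
  exact one_ne_zero h

/-- The minimal normal subgroup. -/
theorem exists_simple : ∃ N : Subgroup G, ∃ h1 : C.L₁ ≤ N, ∃ h2 : C.L₂ ≤ N, IsSimpleGroup N ∧
    ¬ IsMulCommutative N ∧ Cfsg.generalizedFittingSubgroup G = N := by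
  classical
  set N : Subgroup G := sInf {M : Subgroup G | M.Normal ∧ M ≠ ⊥}
  have h1 : C.L₁ ≤ N := le_sInf fun M hM => (haveI := hM.1; C.L_le_of_normal hM.2).1
  have h2 : C.L₂ ≤ N := le_sInf fun M hM => (haveI := hM.1; C.L_le_of_normal hM.2).2
  haveI hN : N.Normal := ⟨fun x hx g => Subgroup.mem_sInf.2 fun M hM => hM.1.conj_mem x (Subgroup.mem_sInf.1 hx M hM) g⟩
  have hJN : C.J ≤ N := C.H₁.J_le.trans h1
  obtain ⟨a, ha, b, hb, hab⟩ := C.not_comm_J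
  have hna : ¬ IsMulCommutative N := fun h =>
    hab (congrArg Subtype.val (h.is_comm.comm (⟨a, hJN ha⟩ : N) ⟨b, hJN hb⟩))
  haveI : Nontrivial N := Subgroup.nontrivial_iff_exists_ne_one N |>.2
    ⟨a, hJN ha, fun e => hab (by rw [e, one_mul, mul_one])⟩
  set D := C.restrict N h1 h2
  set K : Subgroup N := sInf {M : Subgroup N | M.Normal ∧ M ≠ ⊥}
  have hKv : (C.V₁.subgroupOf N) ≤ K := le_sInf fun M hM =>
    D.H₁.V_le.trans (haveI := hM.1; D.L_le_of_normal hM.2).1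
  have hKnG : (K.map N.subtype).Normal := ⟨fun x hx g => by
    obtain ⟨k, hk, rfl⟩ := hx
    refine ⟨⟨g * (k : G) * g⁻¹, hN.conj_mem _ k.2 g⟩, Subgroup.mem_sInf.2 fun M hM => ?_, rfl⟩
    let φ : N →* N := MonoidHom.mk' (fun x => ⟨g * (x : G) * g⁻¹, hN.conj_mem _ x.2 g⟩)
      fun x y => Subtype.ext (conj_mul).symm
    have hφ : Function.Injective φ := fun x y e =>
      Subtype.ext (mul_left_cancel (mul_right_cancel (congrArg Subtype.val e)))
    have hφs : Function.Surjective φ := Finite.injective_iff_surjective.1 hφ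
    have hne : M.comap φ ≠ ⊥ := fun e => hM.2 (by
      rw [← Subgroup.map_comap_eq_self_of_surjective hφs M, e, Subgroup.map_bot])
    haveI := hM.1
    exact Subgroup.mem_sInf.1 hk (M.comap φ) ⟨inferInstance, hne⟩⟩
  have hKne : K.map N.subtype ≠ ⊥ := fun e => C.V1_ne_bot (by
    rw [eq_bot_iff]
    exact fun v hv => e ▸ ⟨⟨v, h1 (C.H₁.V_le hv)⟩, hKv hv, rfl⟩)
  have hNK : N ≤ K.map N.subtype := sInf_le ⟨hKnG, hKne⟩
  have hsimp : IsSimpleGroup N := ⟨fun M hM => by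
    by_contra hh
    push Not at hh
    refine hh.2 (eq_top_iff.2 fun x _ => ?_)
    obtain ⟨k, hk, e⟩ := hNK x.2
    rw [← show k = x from Subtype.ext e]
    exact Subgroup.mem_sInf.1 hk M ⟨hM, hh.1⟩⟩
  have hC : Subgroup.centralizer (N : Set G) = ⊥ := by
    by_contra hne
    haveI : (Subgroup.centralizer (N : Set G)).Normal := Subgroup.normal_centralizer
    have hle := C.H₁.J_le.trans (C.L_le_of_normal (M := Subgroup.centralizer (N : Set G)) hne).1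
    exact hab (Subgroup.mem_centralizer_iff.1 (hle hb) a (hJN ha))
  haveI := hsimp
  exact ⟨N, h1, h2, hsimp, hna, ONanLines.genFitting_eq_of_simple N hna hC⟩

theorem mem_of_flag {S : Subgroup G} (hS : IsPGroup 2 S) (hSN : S ≤ C.NJ) {x g j : G} (hx : x ∈ S)
    (hj : j ∈ C.J) (e : g * j * g⁻¹ = x) (hne : x * x ≠ 1) (hv : x * x ∈ C.V₁) : x ∈ C.J := by
  obtain ⟨l, hl, el⟩ := C.H₁.exists_conj_ax hv hne
  have e2 : x * x = g * (j * j) * g⁻¹ := by rw [← e]; group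
  have hz : j * j ∈ C.Z := by rw [C.sq_eq hj]; exact C.ax_mem_Z _
  have hn : l⁻¹ * g ∈ C.NJ := C.norm_of_meet (C.ax_mem_Z 1) C.ax1_ne (by
    rw [show (l⁻¹ * g)⁻¹ * C.H₁.ax 1 * (l⁻¹ * g) = g⁻¹ * (l * C.H₁.ax 1 * l⁻¹) * g by group, el, e2,
      show g⁻¹ * (g * (j * j) * g⁻¹) * g = j * j by group]
    exact hz)
  have hxL : x ∈ C.L₁ := by
    rw [← e, show g * j * g⁻¹ = l * ((l⁻¹ * g) * j * (l⁻¹ * g)⁻¹) * l⁻¹ by group]
    exact C.L₁.mul_mem (C.L₁.mul_mem hl (C.H₁.J_le (nconj hn hj))) (C.L₁.inv_mem hl)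
  obtain ⟨n, hn'⟩ := hS ⟨x, hx⟩
  exact C.mem_J_of (hSN hx) (C.H₁.nor hxL) ⟨n, congrArg Subtype.val hn'⟩
    ((C.σZ_eq (hSN hx) (C.H₁.nor hxL)).trans (C.H₁.σ_L hxL))

/-- In a simple group `J` is a Sylow 2-subgroup. -/
theorem sylow_eq [IsSimpleGroup G] : ∃ S : Sylow 2 G, (S : Subgroup G) = C.J := by
  haveI : Fact (Nat.Prime 2) := ⟨Nat.prime_two⟩
  obtain ⟨S, hJS, hSN⟩ := C.exists_sylow
  refine ⟨S, le_antisymm ?_ hJS⟩
  have hcomm : commutator G = ⊤ := by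
    rcases Subgroup.Normal.eq_bot_or_eq_top (inferInstance : (commutator G).Normal) with h | h
    · exfalso
      obtain ⟨a, -, b, -, hab⟩ := C.not_comm_J
      have h' : ⁅a, b⁆ ∈ commutator G :=
        Subgroup.commutator_mem_commutator (Subgroup.mem_top a) (Subgroup.mem_top b)
      rw [h, Subgroup.mem_bot, commutatorElement_eq_one_iff_mul_comm] at h'
      exact hab h'
    · exact h
  have hG := S4216.result S
  rw [hcomm, inf_top_eq] at hG
  rw [hG]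
  have hSJ : ⁅(S : Subgroup G), (S : Subgroup G)⁆ ≤ C.J := Subgroup.commutator_le.2 fun a ha b hb => by
    have := C.comm_mem_J S.isPGroup' hSN ha hb
    rwa [mul_inv_rev, show a * b * (a⁻¹ * b⁻¹) = ⁅a, b⁆ by rw [commutatorElement_def]; group] at this
  refine sup_le ?_ (iSup_le fun g => ?_)
  · have hNS : Subgroup.normalizer ((S : Subgroup G) : Set G) ≤ C.NJ := fun g hg => by
      refine C.norm_of_map_le S.isPGroup' hSN ?_
      rintro _ ⟨j, hj, rfl⟩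
      exact nconj hg (hJS hj)
    let U : Subgroup G :=
      { carrier := {x | x ∈ C.NJ ∧ x ∈ C.N1 ∧ C.σZ x = 1}
        one_mem' := ⟨one_mem _, one_mem _, C.σZ_one⟩
        mul_mem' := fun {a b} ha hb => ⟨mul_mem ha.1 hb.1, mul_mem ha.2.1 hb.2.1, by
          rw [(C.mulZ ha.1 hb.1).1, ha.2.2, hb.2.2, one_mul]⟩
        inv_mem' := fun {a} ha => ⟨inv_mem ha.1, inv_mem ha.2.1, by rw [C.σZ_inv ha.1, ha.2.2, inv_one]⟩ }
    have hU : ⁅C.NJ, C.NJ⁆ ≤ U := Subgroup.commutator_le.2 fun a ha b hb => by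
      have hai := inv_mem ha
      have hbi := inv_mem hb
      rw [commutatorElement_def]
      refine ⟨mul_mem (mul_mem (mul_mem ha hb) hai) hbi, ?_, ?_⟩
      · rw [C.mem_N1_iff_mul (mul_mem (mul_mem ha hb) hai) hbi, C.mem_N1_iff_mul (mul_mem ha hb) hai,
          C.mem_N1_iff_mul ha hb, inv_mem_iff, inv_mem_iff]
        by_cases h1 : a ∈ Subgroup.normalizer (C.V₁ : Set G) <;>
          by_cases h2 : b ∈ Subgroup.normalizer (C.V₁ : Set G) <;> simp [h1, h2]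
      · rw [(C.mulZ (mul_mem (mul_mem ha hb) hai) hbi).1, (C.mulZ (mul_mem ha hb) hai).1, (C.mulZ ha hb).1,
          C.σZ_inv ha, C.σZ_inv hb, aut_comm (le_trans one_le_two C.he) C.hF (C.σZ a) (C.σZ b),
          mul_inv_cancel_right, mul_inv_cancel]
    intro x hx
    have hxU := hU (Subgroup.commutator_mono hNS hNS hx.2)
    obtain ⟨n, hn⟩ := S.isPGroup' ⟨x, hx.1⟩
    exact C.mem_J_of hxU.1 hxU.2.1 ⟨n, congrArg Subtype.val hn⟩ hxU.2.2
  · rintro x ⟨hxS, j, hj', e⟩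
    have hj : j ∈ C.J := hSJ hj'
    have e' : g * j * g⁻¹ = x := e
    by_cases hx1 : x = 1
    · rw [hx1]; exact C.J.one_mem
    by_cases hx2 : x * x = 1
    · have hjj : j * j = 1 := by
        have h : g * (j * j) * g⁻¹ = 1 := by rw [← conj_mul, e', hx2]
        exact conj_eq_one_iff.1 h
      have hj1 : j ≠ 1 := fun h => hx1 (by rw [← e', h, mul_one, mul_inv_cancel])
      obtain ⟨a, ea⟩ := C.conj_ax1 hj hjj hj1
      exact C.fused (hSN hxS) (C.ax_mem_Z 1) C.ax1_ne (g := g * a) (by rw [← e', ← ea]; group)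
    · have e2 : x * x = g * (j * j) * g⁻¹ := by rw [← e']; group
      have hz : j * j ∈ C.Z := by rw [C.sq_eq hj]; exact C.ax_mem_Z _
      have hzne : j * j ≠ 1 := fun h => hx2 (by rw [e2, h, mul_one, mul_inv_cancel])
      have hxxS := (S : Subgroup G).mul_mem hxS hxS
      have hxxJ := C.fused (hSN hxxS) hz hzne e2.symm
      have h4 : x * x * (x * x) = 1 := by rw [e2, conj_mul, C.sq1 hz.1, mul_one, mul_inv_cancel]
      rcases C.invol_mem hxxJ h4 with hv | hv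
      · exact C.mem_of_flag S.isPGroup' hSN hxS hj e' hx2 hv
      · exact C.swap.mem_of_flag (S := (S : Subgroup G)) S.isPGroup' hSN hxS hj e' hx2 hv

end Cfsg.Agent.ParabolicPair.Loc
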