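import Cfsg.Agent.Lib.ParabolicPair.Field
import Cfsg.Agent.Lib.NatSL2.Basic

/-!
# One parabolic on a natural module (S3091)

* `Half` : `V ≤ L`, coordinates `co` of `V` and matrices `mat` of `L`, `J` the upper unitriangular group
* `Half.tr g` : the map of `g ∈ N(V)` in coordinates; `Half.exists_semi` : it is semilinear
* `Half.norm_J`, `Half.le_of_normal`, `Half.exists_torus`
-/

set_option autoImplicit false

namespace Cfsg.Agent.ParabolicPair

open Matrix
open Cfsg.Agent.NatSL2 (IsU isU_iff)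

/-- The lower unitriangular matrices. -/
def low {F : Type*} [Field F] (x : F) : SpecialLinearGroup (Fin 2) F :=
  ⟨!![1, 0; x, 1], by simp [Matrix.det_fin_two_of]⟩

/-- The Weyl matrix. -/
def weyl (F : Type*) [Field F] [CharP F 2] : SpecialLinearGroup (Fin 2) F :=
  ⟨!![0, 1; 1, 0], by rw [Matrix.det_fin_two_of]; simp [CharTwo.neg_eq]⟩

theorem weyl_up {F : Type*} [Field F] [CharP F 2] (x : F) :
    weyl F * QdOver.up x * (weyl F)⁻¹ = low x := by
  rw [mul_inv_eq_iff_eq_mul]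
  exact Subtype.ext (by
    show !![0, 1; 1, 0] * !![1, x; 0, 1] = !![1, 0; x, 1] * !![(0:F), 1; 1, 0]
    rw [Matrix.mul_fin_two, Matrix.mul_fin_two]
    simp)

theorem low_up_gen {F : Type*} [Field F] (K : Subgroup (SpecialLinearGroup (Fin 2) F))
    (hu : ∀ x, QdOver.up x ∈ K) (hl : ∀ x, low x ∈ K) (M : SpecialLinearGroup (Fin 2) F) : M ∈ K := by
  have key : ∀ M : SpecialLinearGroup (Fin 2) F, M.1 1 0 ≠ 0 → M ∈ K := by
    intro M hc
    have hd := NatSL2.det_eq M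
    have e : M = QdOver.up ((M.1 0 0 - 1) / M.1 1 0) * low (M.1 1 0) *
        QdOver.up ((M.1 1 1 - 1) / M.1 1 0) := Subtype.ext (by
      show M.1 = !![1, (M.1 0 0 - 1) / M.1 1 0; 0, 1] * !![1, 0; M.1 1 0, 1] *
        !![1, (M.1 1 1 - 1) / M.1 1 0; 0, 1]
      rw [Matrix.mul_fin_two, Matrix.mul_fin_two]
      ext i j
      fin_cases i <;> fin_cases j <;> simp
      · field_simp; ring
      · field_simp; linear_combination -hd
      · field_simp; ring)
    rw [e]
    exact K.mul_mem (K.mul_mem (hu _) (hl _)) (hu _)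
  by_cases hc : M.1 1 0 = 0
  · have hd := NatSL2.det_eq M
    have h1 : (M * low 1).1 1 0 ≠ 0 := by
      show (M.1 * !![1, 0; (1 : F), 1]) 1 0 ≠ 0
      intro h
      simp [Matrix.mul_apply, Fin.sum_univ_two, hc] at h
      rw [h, hc] at hd
      simp at hd
    have h := K.mul_mem (key _ h1) (K.inv_mem (hl 1))
    rwa [mul_inv_cancel_right] at h
  · exact key M hc

variable {G : Type*} [Group G] {F : Type*} [Field F]

/-- A parabolic. -/
structure Half (F : Type*) [Field F] (V L J : Subgroup G) where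
  /-- The coordinates of `V`. -/
  co : G → Fin 2 → F
  /-- The element with given coordinates. -/
  el : (Fin 2 → F) → G
  /-- The matrices of `L`. -/
  mat : G → SpecialLinearGroup (Fin 2) F
  el_mem : ∀ w, el w ∈ V
  co_el : ∀ w, co (el w) = w
  el_co : ∀ v ∈ V, el (co v) = v
  co_mul : ∀ v ∈ V, ∀ w ∈ V, co (v * w) = co v + co w
  mat_mul : ∀ a ∈ L, ∀ b ∈ L, mat (a * b) = mat a * mat b
  mat_surj : ∀ M, ∃ l ∈ L, mat l = M
  mat_eq_one : ∀ l ∈ L, mat l = 1 ↔ l ∈ V
  conj_mem : ∀ l ∈ L, ∀ v ∈ V, l * v * l⁻¹ ∈ V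
  act : ∀ l ∈ L, ∀ v ∈ V, co (l * v * l⁻¹) = (mat l).1 *ᵥ co v
  V_le : V ≤ L
  J_le : J ≤ L
  mem_J : ∀ l ∈ L, l ∈ J ↔ IsU (mat l)
  norL : Subgroup.normalizer (V : Set G) ≤ Subgroup.normalizer (L : Set G)

theorem nconj {H : Subgroup G} {g x : G} (hg : g ∈ Subgroup.normalizer (H : Set G)) (hx : x ∈ H) :
    g * x * g⁻¹ ∈ H := (Subgroup.mem_normalizer_iff.1 hg x).1 hx

theorem nconj' {H : Subgroup G} {g x : G} (hg : g ∈ Subgroup.normalizer (H : Set G)) (hx : x ∈ H) :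
    g⁻¹ * x * g ∈ H := (Subgroup.mem_normalizer_iff''.1 hg x).1 hx

namespace Half

variable {V L J : Subgroup G} (D : Half F V L J)

theorem co_one : D.co 1 = 0 := by
  have h := D.co_mul 1 V.one_mem 1 V.one_mem
  rw [mul_one] at h
  simpa using h

theorem el_zero : D.el 0 = 1 := by rw [← D.co_one, D.el_co 1 V.one_mem]

theorem co_inj {v w : G} (hv : v ∈ V) (hw : w ∈ V) (h : D.co v = D.co w) : v = w := by
  rw [← D.el_co v hv, h, D.el_co w hw]

theorem eq_one_iff {v : G} (hv : v ∈ V) : D.co v = 0 ↔ v = 1 :=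
  ⟨fun h => D.co_inj hv V.one_mem (h.trans D.co_one.symm), fun h => h ▸ D.co_one⟩

theorem el_inj {a b : Fin 2 → F} (h : D.el a = D.el b) : a = b := by rw [← D.co_el a, h, D.co_el]

theorem el_add (a b : Fin 2 → F) : D.el (a + b) = D.el a * D.el b :=
  D.co_inj (D.el_mem _) (V.mul_mem (D.el_mem _) (D.el_mem _)) (by
    rw [D.co_mul _ (D.el_mem a) _ (D.el_mem b), D.co_el, D.co_el, D.co_el])

include D in
theorem comm {v w : G} (hv : v ∈ V) (hw : w ∈ V) : v * w = w * v :=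
  D.co_inj (V.mul_mem hv hw) (V.mul_mem hw hv) (by rw [D.co_mul v hv w hw, D.co_mul w hw v hv, add_comm])

include D in
theorem card_V [Finite G] [Fintype F] : Nat.card V = Fintype.card F * Fintype.card F := by
  rw [Nat.card_congr (α := V) (β := Fin 2 → F)
    { toFun := fun v => D.co v
      invFun := fun w => ⟨D.el w, D.el_mem w⟩
      left_inv := fun v => Subtype.ext (D.el_co v v.2)
      right_inv := D.co_el }, Nat.card_eq_fintype_card, Fintype.card_fun, Fintype.card_fin, pow_two]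

theorem mat_one : D.mat 1 = 1 := (D.mat_eq_one 1 L.one_mem).2 V.one_mem

theorem mat_inv {l : G} (hl : l ∈ L) : D.mat l⁻¹ = (D.mat l)⁻¹ :=
  eq_inv_of_mul_eq_one_left (by rw [← D.mat_mul _ (L.inv_mem hl) _ hl, inv_mul_cancel, D.mat_one])

include D in
theorem nor : L ≤ Subgroup.normalizer (V : Set G) := fun l hl => by
  rw [Subgroup.mem_normalizer_iff]
  refine fun v => ⟨fun hv => D.conj_mem l hl v hv, fun hv => ?_⟩
  have h := D.conj_mem _ (L.inv_mem hl) _ hv
  simpa [mul_assoc] using h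

include D in
theorem V_le_J : V ≤ J := fun v hv => (D.mem_J v (D.V_le hv)).2 (by
  rw [(D.mat_eq_one v (D.V_le hv)).2 hv]; exact ⟨rfl, rfl⟩)

include D in
theorem J_le_N : J ≤ Subgroup.normalizer (V : Set G) := D.J_le.trans D.nor

/-- The axis. -/
def ax (c : F) : G := D.el ![c, 0]

theorem ax_mem (c : F) : D.ax c ∈ V := D.el_mem _

theorem co_ax (c : F) : D.co (D.ax c) = ![c, 0] := D.co_el _

theorem ax_add (a b : F) : D.ax (a + b) = D.ax a * D.ax b := by
  rw [ax, ax, ax, ← D.el_add]; simp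

theorem ax_inj {a b : F} (h : D.ax a = D.ax b) : a = b := by simpa using congrFun (D.el_inj h) 0

theorem ax_zero : D.ax 0 = 1 := by
  rw [ax, show (![0, 0] : Fin 2 → F) = 0 from funext fun i => by fin_cases i <;> rfl, D.el_zero]

theorem eq_ax {v : G} (hv : v ∈ V) (h : D.co v 1 = 0) : v = D.ax (D.co v 0) :=
  D.co_inj hv (D.ax_mem _) (by rw [D.co_ax]; exact NatSL2.vec_eq rfl h)

/-- The coordinate of `J` modulo `V`. -/
def al (x : G) : F := (D.mat x).1 0 1

theorem al_mul {x y : G} (hx : x ∈ J) (hy : y ∈ J) : D.al (x * y) = D.al x + D.al y := by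
  have h1 := (D.mem_J x (D.J_le hx)).1 hx
  have h2 := (D.mem_J y (D.J_le hy)).1 hy
  rw [al, al, al, D.mat_mul x (D.J_le hx) y (D.J_le hy), h1.eq_up, h2.eq_up, ← NatSL2.up_mul]
  rfl

theorem al_eq_zero {x : G} (hx : x ∈ J) : D.al x = 0 ↔ x ∈ V := by
  rw [← D.mat_eq_one x (D.J_le hx)]
  refine ⟨fun h => ?_, fun h => by rw [al, h]; rfl⟩
  rw [((D.mem_J x (D.J_le hx)).1 hx).eq_up, show (D.mat x).1 0 1 = 0 from h]
  exact Subtype.ext (by show !![1, (0 : F); 0, 1] = 1; simp [Matrix.one_fin_two])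

theorem exists_al (a : F) : ∃ x ∈ J, D.al x = a := by
  obtain ⟨l, hl, e⟩ := D.mat_surj (QdOver.up a)
  exact ⟨l, (D.mem_J l hl).2 (e ▸ NatSL2.isU_up a), by rw [al, e]; rfl⟩

theorem act_J {x v : G} (hx : x ∈ J) (hv : v ∈ V) :
    D.co (x * v * x⁻¹) = ![D.co v 0 + D.al x * D.co v 1, D.co v 1] := by
  rw [D.act x (D.J_le hx) v hv, ((D.mem_J x (D.J_le hx)).1 hx).mulVec]
  rfl

/-- An element of `L` commuting with a nontrivial axis element lies in `J`. -/
theorem mem_J_of_fix {l : G} (hl : l ∈ L) {c : F} (hc : c ≠ 0) (h : l * D.ax c * l⁻¹ = D.ax c) : l ∈ J := by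
  rw [D.mem_J l hl, isU_iff]
  have h1 := congrArg D.co h
  rw [D.act l hl _ (D.ax_mem c), D.co_ax, show (![c, 0] : Fin 2 → F) = c • ![1, 0] by simp,
    Matrix.mulVec_smul] at h1
  exact smul_right_injective _ hc h1

/-- `V` is transitively permuted by `L`. -/
theorem exists_conj_ax {v : G} (hv : v ∈ V) (h1 : v ≠ 1) : ∃ l ∈ L, l * D.ax 1 * l⁻¹ = v := by
  obtain ⟨g, hg⟩ := NatSL2.exists_sl2_column fun e => h1 ((D.eq_one_iff hv).1 e)
  obtain ⟨l, hl, rfl⟩ := D.mat_surj g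
  refine ⟨l, hl, D.co_inj (D.conj_mem l hl _ (D.ax_mem 1)) hv ?_⟩
  rw [D.act l hl _ (D.ax_mem 1), D.co_ax, hg]

/-- The map of `g` in coordinates. -/
def tr (g : G) (w : Fin 2 → F) : Fin 2 → F := D.co (g * D.el w * g⁻¹)

theorem tr_co {g v : G} (hv : v ∈ V) : D.tr g (D.co v) = D.co (g * v * g⁻¹) := by
  rw [tr, D.el_co v hv]

theorem tr_el {g : G} (hg : g ∈ Subgroup.normalizer (V : Set G)) (w : Fin 2 → F) :
    D.el (D.tr g w) = g * D.el w * g⁻¹ := D.el_co _ (nconj hg (D.el_mem w))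

theorem tr_add {g : G} (hg : g ∈ Subgroup.normalizer (V : Set G)) (a b : Fin 2 → F) :
    D.tr g (a + b) = D.tr g a + D.tr g b := by
  simp only [tr]
  rw [← D.co_mul _ (nconj hg (D.el_mem a)) _ (nconj hg (D.el_mem b)), D.el_add]
  congr 1
  group

theorem tr_one (w : Fin 2 → F) : D.tr 1 w = w := by simp [tr, D.co_el]

theorem tr_mul {g h : G} (hh : h ∈ Subgroup.normalizer (V : Set G)) (w : Fin 2 → F) :
    D.tr (g * h) w = D.tr g (D.tr h w) := by
  rw [tr, tr, D.tr_el hh]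
  congr 1
  group

theorem tr_zero (g : G) : D.tr g 0 = 0 := by simp [tr, D.el_zero, D.co_one]

theorem tr_L {l : G} (hl : l ∈ L) (w : Fin 2 → F) : D.tr l w = (D.mat l).1 *ᵥ w := by
  rw [tr, D.act l hl _ (D.el_mem w), D.co_el]

theorem tr_inj {g : G} (hg : g ∈ Subgroup.normalizer (V : Set G)) : Function.Injective (D.tr g) := fun a b h => by
  have h1 := congrArg (D.tr g⁻¹) h
  rwa [← D.tr_mul hg, ← D.tr_mul hg, inv_mul_cancel, D.tr_one, D.tr_one] at h1

theorem comm_iff {g : G} (hg : g ∈ Subgroup.normalizer (V : Set G)) {w : Fin 2 → F} :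
    D.tr g w = w ↔ g * D.el w * g⁻¹ = D.el w :=
  ⟨fun h => by rw [← D.tr_el hg, h], fun h => by rw [tr, h, D.co_el]⟩

/-- An additive map commuting with `SL₂` is a scalar. -/
theorem scalar_of_commute (f : (Fin 2 → F) → Fin 2 → F) (hadd : ∀ a b, f (a + b) = f a + f b)
    (hcomm : ∀ (M : SpecialLinearGroup (Fin 2) F) w, f (M.1 *ᵥ w) = M.1 *ᵥ f w) :
    ∃ b : F, ∀ w, f w = b • w := by
  set a := f ![0, 1] 0
  set b := f ![0, 1] 1
  have h01 : f ![0, 1] = ![a, b] := NatSL2.vec_eq rfl rfl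
  have h1 : ∀ t, f ![t, 0] = ![t * b, 0] := by
    intro t
    have h := hcomm (QdOver.up t) ![0, 1]
    rw [(NatSL2.isU_up t).mulVec, (NatSL2.isU_up t).mulVec, h01] at h
    have h2 : f ![t, 0] + f ![0, 1] = f ![t, 1] := by rw [← hadd]; simp
    have h3 : f ![t, 1] = ![a + t * b, b] := by simpa [QdOver.up] using h
    rw [h01, h3] at h2
    have h4 : f ![t, 0] = ![a + t * b, b] - ![a, b] := eq_sub_of_add_eq h2
    rw [h4]
    funext i
    fin_cases i <;> simp
  have h2 : ∀ t, f ![0, t] = ![0, t * b] := by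
    intro t
    have h := hcomm (low t) ![1, 0]
    rw [NatSL2.mulVec_apply, NatSL2.mulVec_apply, h1 1] at h
    have h3 : f ![1, t] = ![b, t * b] := by simpa [low] using h
    have h4 : f ![1, 0] + f ![0, t] = f ![1, t] := by rw [← hadd]; simp
    rw [h1 1, h3] at h4
    rw [← sub_eq_of_eq_add' h4.symm]
    simp
  refine ⟨b, fun w => ?_⟩
  conv_lhs => rw [show w = ![w 0, 0] + ![0, w 1] by funext i; fin_cases i <;> simp]
  rw [hadd, h1, h2]
  funext i
  fin_cases i <;> simp [mul_comm]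

/-- The elements of `N(V)` act semilinearly. -/
theorem exists_semi [Finite G] [Fintype F] {g : G} (hg : g ∈ Subgroup.normalizer (V : Set G)) :
    ∃ σ : F ≃+* F, ∀ (c : F) w, D.tr g (c • w) = σ c • D.tr g w := by
  have hgi := (Subgroup.normalizer (V : Set G)).inv_mem hg
  have key : ∀ c : F, ∃ b : F, ∀ w, D.tr g (c • D.tr g⁻¹ w) = b • w := fun c => by
    refine scalar_of_commute _ (fun a b => by rw [D.tr_add hgi, smul_add, D.tr_add hg]) fun M w => ?_
    obtain ⟨l, hl, rfl⟩ := D.mat_surj M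
    have hl' : g⁻¹ * l * g ∈ L := nconj' (D.norL hg) hl
    have e : D.tr g⁻¹ ((D.mat l).1 *ᵥ w) = (D.mat (g⁻¹ * l * g)).1 *ᵥ D.tr g⁻¹ w := by
      rw [← D.tr_L hl, ← D.tr_L hl', ← D.tr_mul (D.nor hl), ← D.tr_mul hgi]
      congr 1; group
    rw [e, ← Matrix.mulVec_smul, ← D.tr_L hl', ← D.tr_L hl, ← D.tr_mul (D.nor hl'), ← D.tr_mul hg]
    congr 1; group
  choose b hb using key
  have hspec : ∀ (c : F) w, D.tr g (c • w) = b c • D.tr g w := fun c w => by
    have h := hb c (D.tr g w)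
    rwa [← D.tr_mul hg, inv_mul_cancel, D.tr_one] at h
  set u := D.tr g ![1, 0]
  have hu : u ≠ 0 := fun e => by
    have := D.tr_inj hg (e.trans (D.tr_zero g).symm)
    simpa using congrFun this 0
  have huniq : ∀ a c : F, a • u = c • u → a = c := fun a c h => smul_left_injective F hu h
  have h1 : b 1 = 1 := huniq _ _ (by rw [← hspec, one_smul, one_smul])
  have hm : ∀ x y, b (x * y) = b x * b y := fun x y => huniq _ _ (by rw [← hspec, mul_smul, hspec, hspec, mul_smul])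
  have ha : ∀ x y, b (x + y) = b x + b y := fun x y => huniq _ _ (by
    rw [← hspec, add_smul, D.tr_add hg, hspec, hspec, add_smul])
  let f : F →+* F := RingHom.mk' ⟨⟨b, h1⟩, hm⟩ ha
  exact ⟨RingEquiv.ofBijective f (Finite.injective_iff_bijective.1 f.injective), hspec⟩

open Classical in
/-- The field automorphism of `g`. -/
noncomputable def σ [Finite G] [Fintype F] (g : G) : F ≃+* F :=
  if h : g ∈ Subgroup.normalizer (V : Set G) then (D.exists_semi h).choose else 1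

variable [Finite G] [Fintype F]

theorem semi {g : G} (hg : g ∈ Subgroup.normalizer (V : Set G)) (c : F) (w : Fin 2 → F) :
    D.tr g (c • w) = D.σ g c • D.tr g w := by
  rw [σ, dif_pos hg]
  exact (D.exists_semi hg).choose_spec c w

theorem σ_unique {g : G} (hg : g ∈ Subgroup.normalizer (V : Set G)) {s : F ≃+* F} {w : Fin 2 → F} (hw : w ≠ 0)
    (h : ∀ c : F, D.tr g (c • w) = s c • D.tr g w) : D.σ g = s := by
  have hne : D.tr g w ≠ 0 := fun e => hw (D.tr_inj hg (e.trans (D.tr_zero g).symm))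
  refine RingEquiv.ext fun c => smul_left_injective F hne ?_
  show D.σ g c • _ = s c • _
  rw [← D.semi hg, h]

theorem σ_mul {g h : G} (hg : g ∈ Subgroup.normalizer (V : Set G)) (hh : h ∈ Subgroup.normalizer (V : Set G)) :
    D.σ (g * h) = D.σ g * D.σ h :=
  D.σ_unique ((Subgroup.normalizer (V : Set G)).mul_mem hg hh) (w := ![1, 0])
    (fun e => by simpa using congrFun e 0) fun c => by
      rw [D.tr_mul hh, D.tr_mul hh, D.semi hh, D.semi hg]; rfl

theorem σ_L {l : G} (hl : l ∈ L) : D.σ l = 1 :=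
  D.σ_unique (D.nor hl) (w := ![1, 0]) (fun e => by simpa using congrFun e 0) fun c => by
    rw [D.tr_L hl, D.tr_L hl, Matrix.mulVec_smul]; rfl

/-- An element of `N(V)` mapping an axis element to the axis normalises `J`. -/
theorem norm_J {g : G} (hg : g ∈ Subgroup.normalizer (V : Set G)) {c : F} (hc : c ≠ 0)
    (h : D.co (g * D.ax c * g⁻¹) 1 = 0) : g ∈ Subgroup.normalizer (J : Set G) := by
  refine Subgroup.mem_normalizer_iff_map_conj_eq.2 (Subgroup.eq_of_le_of_card_ge ?_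
    (Subgroup.card_map_of_injective (MulAut.conj g).injective).ge)
  rintro _ ⟨x, hx, rfl⟩
  show g * x * g⁻¹ ∈ J
  set d := D.co (g * D.ax c * g⁻¹) 0
  have hv := nconj hg (D.ax_mem c)
  have hd : g * D.ax c * g⁻¹ = D.ax d := D.eq_ax hv h
  have hd0 : d ≠ 0 := fun e => hc (D.ax_inj (by
    rw [e, D.ax_zero, conj_eq_one_iff] at hd
    rw [hd, D.ax_zero]))
  refine D.mem_J_of_fix (nconj (D.norL hg) (D.J_le hx)) hd0 ?_
  rw [← hd]
  have hfix : x * D.ax c * x⁻¹ = D.ax c := D.co_inj (nconj (D.J_le_N hx) (D.ax_mem c)) (D.ax_mem c) (by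
    rw [D.act_J hx (D.ax_mem c), D.co_ax]; simp)
  conv_rhs => rw [← hfix]
  group

/-- An element of `N(V)` centralising an axis element normalises `J`. -/
theorem norm_J_of_comm {g : G} (hg : g ∈ Subgroup.normalizer (V : Set G)) {c : F} (hc : c ≠ 0)
    (h : g * D.ax c = D.ax c * g) : g ∈ Subgroup.normalizer (J : Set G) :=
  D.norm_J hg hc (by rw [h, mul_inv_cancel_right, D.co_ax]; rfl)

omit [Finite G] [Fintype F] in
include D in
/-- A subgroup normalised by `L` containing `J` contains `L`. -/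
theorem le_of_normal [CharP F 2] {N : Subgroup G} (hJ : J ≤ N)
    (hN : ∀ l ∈ L, ∀ x ∈ N, l * x * l⁻¹ ∈ N) : L ≤ N := by
  let K : Subgroup (SpecialLinearGroup (Fin 2) F) :=
    { carrier := {M | ∃ l ∈ L, l ∈ N ∧ D.mat l = M}
      one_mem' := ⟨1, L.one_mem, N.one_mem, D.mat_one⟩
      mul_mem' := by
        rintro _ _ ⟨a, ha, ha', rfl⟩ ⟨b, hb, hb', rfl⟩
        exact ⟨a * b, L.mul_mem ha hb, N.mul_mem ha' hb', D.mat_mul a ha b hb⟩
      inv_mem' := by
        rintro _ ⟨a, ha, ha', rfl⟩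
        exact ⟨a⁻¹, L.inv_mem ha, N.inv_mem ha', D.mat_inv ha⟩ }
  have hu : ∀ x, QdOver.up x ∈ K := fun x => by
    obtain ⟨y, hy, e⟩ := D.mat_surj (QdOver.up x)
    exact ⟨y, hy, hJ ((D.mem_J y hy).2 (e ▸ NatSL2.isU_up x)), e⟩
  have hl : ∀ x, low x ∈ K := fun x => by
    obtain ⟨y, hy, hyN, e⟩ := hu x
    obtain ⟨w, hw, ew⟩ := D.mat_surj (weyl F)
    exact ⟨w * y * w⁻¹, L.mul_mem (L.mul_mem hw hy) (L.inv_mem hw), hN w hw y hyN, by
      rw [D.mat_mul _ (L.mul_mem hw hy) _ (L.inv_mem hw), D.mat_mul w hw y hy, D.mat_inv hw, ew, e, weyl_up]⟩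
  intro l hl'
  obtain ⟨a, ha, haN, e⟩ := low_up_gen K hu hl (D.mat l)
  have h : a⁻¹ * l ∈ V := (D.mat_eq_one _ (L.mul_mem (L.inv_mem ha) hl')).1 (by
    rw [D.mat_mul _ (L.inv_mem ha) _ hl', D.mat_inv ha, e, inv_mul_cancel])
  have := N.mul_mem haN (hJ (D.V_le_J h))
  rwa [mul_inv_cancel_left] at this

/-- A torus element. -/
theorem exists_torus {t : F} (ht : t ≠ 0) : ∃ m ∈ L, m ∈ Subgroup.normalizer (J : Set G) ∧
    ∀ w, D.tr m w = ![t * w 0, t⁻¹ * w 1] := by
  obtain ⟨m, hm, e⟩ := D.mat_surj ⟨!![t, 0; 0, t⁻¹], by rw [Matrix.det_fin_two_of]; field_simp; ring⟩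
  have h : ∀ w, D.tr m w = ![t * w 0, t⁻¹ * w 1] := fun w => by
    rw [D.tr_L hm, e]
    funext i
    fin_cases i <;> simp [Matrix.mulVec, dotProduct, Fin.sum_univ_two]
  refine ⟨m, hm, D.norm_J (D.nor hm) one_ne_zero ?_, h⟩
  have := h ![1, 0]
  rw [tr] at this
  rw [ax, this]
  simp

end Half

end Cfsg.Agent.ParabolicPair
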