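import Cfsg.Agent.Lib.ParabolicPair.Sylow

/-!
# Configurations with local centralisers of involutions (S3091)

* `Half.restrict`, `Loc` , `Loc.restrict`, `Loc.swap`
* `Loc.norm_of_meet` : the flag of an involution is unique
* `Loc.conj_ax1` : the involutions of `J` are conjugate
* `Loc.fused` : an involution of a 2-group over `J` fused into `Z` lies in `J`
-/

set_option autoImplicit false

namespace Cfsg.Agent.ParabolicPair

variable {G : Type*} [Group G] {F : Type*} [Field F] [Fintype F]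

open Classical in
/-- A half inside a subgroup. -/
noncomputable def Half.restrict {V L J : Subgroup G} (D : Half F V L J) (N : Subgroup G) (hL : L ≤ N) :
    Half F (V.subgroupOf N) (L.subgroupOf N) (J.subgroupOf N) where
  co x := D.co x
  el w := ⟨D.el w, hL (D.V_le (D.el_mem w))⟩
  mat x := D.mat x
  el_mem w := D.el_mem w
  co_el w := D.co_el w
  el_co v hv := Subtype.ext (D.el_co v hv)
  co_mul v hv w hw := D.co_mul v hv w hw
  mat_mul a ha b hb := D.mat_mul a ha b hb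
  mat_surj M := by
    obtain ⟨l, hl, e⟩ := D.mat_surj M
    exact ⟨⟨l, hL hl⟩, hl, e⟩
  mat_eq_one l hl := D.mat_eq_one l hl
  conj_mem l hl v hv := D.conj_mem l hl v hv
  act l hl v hv := D.act l hl v hv
  V_le _ hx := D.V_le hx
  J_le _ hx := D.J_le hx
  mem_J l hl := D.mem_J l hl
  norL g hg := by
    have hg' : (g : G) ∈ Subgroup.normalizer (V : Set G) := by
      rw [Subgroup.mem_normalizer_iff]
      intro x
      refine ⟨fun hx => (Subgroup.mem_normalizer_iff.1 hg ⟨x, hL (D.V_le hx)⟩).1 hx, fun hx => ?_⟩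
      have hxN : x ∈ N := by
        have := N.mul_mem (N.mul_mem (N.inv_mem g.2) (hL (D.V_le hx))) g.2
        simpa [mul_assoc] using this
      exact (Subgroup.mem_normalizer_iff.1 hg ⟨x, hxN⟩).2 hx
    rw [Subgroup.mem_normalizer_iff]
    intro x
    exact Subgroup.mem_normalizer_iff.1 (D.norL hg') (x : G)

/-- A configuration with the centralisers of involutions of `Z` inside `N(J)`. -/
structure Loc (G : Type*) [Group G] (F : Type*) [Field F] [Fintype F] extends Conf G F where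
  big : 4 < Fintype.card F
  cz : ∀ z ∈ V₁ ⊓ V₂, z ≠ 1 → Subgroup.centralizer ({z} : Set G) ≤ Subgroup.normalizer (J : Set G)

namespace Loc

variable (C : Loc G F)

/-- The halves exchanged. -/
def swap : Loc G F where
  toConf := C.toConf.swap
  big := C.big
  cz := fun z hz hz1 => C.cz z ⟨hz.2, hz.1⟩ hz1

variable [CharP F 2] [Finite G]

omit [CharP F 2] in
theorem cent_restrict (N : Subgroup G) {V : Subgroup G} (hV : V ≤ N)
    (h : Subgroup.centralizer (V : Set G) ≤ V) :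
    Subgroup.centralizer ((V.subgroupOf N : Subgroup N) : Set N) ≤ V.subgroupOf N := fun c hc =>
  h (Subgroup.mem_centralizer_iff.2 fun v hv =>
    congrArg Subtype.val (Subgroup.mem_centralizer_iff.1 hc ⟨v, hV hv⟩ hv))

/-- The configuration inside a subgroup. -/
noncomputable def restrict (N : Subgroup G) (h1 : C.L₁ ≤ N) (h2 : C.L₂ ≤ N) : Loc N F where
  V₁ := C.V₁.subgroupOf N
  V₂ := C.V₂.subgroupOf N
  L₁ := C.L₁.subgroupOf N
  L₂ := C.L₂.subgroupOf N
  J := C.J.subgroupOf N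
  H₁ := C.H₁.restrict N h1
  H₂ := C.H₂.restrict N h2
  sup := by
    rw [← Subgroup.subgroupOf_sup (C.H₁.V_le.trans h1) (C.H₂.V_le.trans h2), C.sup]
  e := C.e
  he := C.he
  hF := C.hF
  cent₁ := cent_restrict N (C.H₁.V_le.trans h1) C.cent₁
  cent₂ := cent_restrict N (C.H₂.V_le.trans h2) C.cent₂
  big := C.big
  cz z hz hz1 c hc := by
    have hcN : (c : G) ∈ Subgroup.normalizer (C.J : Set G) :=
      C.cz z hz (fun e => hz1 (Subtype.ext e))
        (Subgroup.mem_centralizer_singleton_iff.2 (congrArg Subtype.val (Subgroup.mem_centralizer_singleton_iff.1 hc)))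
    rw [Subgroup.mem_normalizer_iff]
    intro x
    exact Subgroup.mem_normalizer_iff.1 hcN (x : G)

theorem cz' {z : G} (hz : z ∈ C.Z) (hz1 : z ≠ 1) {u : G} (hu : u * z = z * u) : u ∈ C.NJ :=
  C.cz z hz hz1 (Subgroup.mem_centralizer_singleton_iff.2 hu)

theorem ax1_ne : C.H₁.ax 1 ≠ 1 := fun e => one_ne_zero (C.H₁.ax_inj (e.trans C.H₁.ax_zero.symm))

/-- Conjugates of `J` whose centres meet are equal. -/
theorem norm_of_meet {g : G} {y : G} (hy : y ∈ C.Z) (hy1 : y ≠ 1) (h : g⁻¹ * y * g ∈ C.Z) : g ∈ C.NJ := by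
  refine C.norm_of_map_le (C.J_two.map _) ?_ le_rfl
  rintro _ ⟨j, hj, rfl⟩
  refine C.cz' hy hy1 ?_
  have := C.Z_central h hj
  show g * j * g⁻¹ * y = y * (g * j * g⁻¹)
  calc g * j * g⁻¹ * y = g * (j * (g⁻¹ * y * g)) * g⁻¹ := by group
    _ = g * ((g⁻¹ * y * g) * j) * g⁻¹ := by rw [this]
    _ = _ := by group

theorem conj_ax1_Z {z : G} (hz : z ∈ C.Z) (hz1 : z ≠ 1) : ∃ m ∈ C.L₁, m * C.H₁.ax 1 * m⁻¹ = z :=
  C.H₁.exists_conj_ax hz.1 hz1

/-- An involution of `J` is a conjugate of `ax 1` inside its component. -/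
theorem exists_flag {x : G} (hx : x ∈ C.J) (h2 : x * x = 1) (h1 : x ≠ 1) :
    ∃ l, (l ∈ C.L₁ ∧ x ∈ C.V₁ ∨ l ∈ C.L₂ ∧ x ∈ C.V₂) ∧ l⁻¹ * x * l ∈ C.Z := by
  rcases C.invol_mem hx h2 with h | h
  · obtain ⟨l, hl, e⟩ := C.H₁.exists_conj_ax h h1
    refine ⟨l, Or.inl ⟨hl, h⟩, ?_⟩
    rw [← e, show l⁻¹ * (l * C.H₁.ax 1 * l⁻¹) * l = C.H₁.ax 1 by group]
    exact C.ax_mem_Z 1
  · obtain ⟨l, hl, e⟩ := C.H₂.exists_conj_ax h h1
    refine ⟨l, Or.inr ⟨hl, h⟩, ?_⟩
    rw [← e, show l⁻¹ * (l * C.H₂.ax 1 * l⁻¹) * l = C.H₂.ax 1 by group]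
    have := C.swap.ax_mem_Z 1
    exact ⟨this.2, this.1⟩

theorem conj_ax1 {x : G} (hx : x ∈ C.J) (h2 : x * x = 1) (h1 : x ≠ 1) : ∃ g, g * C.H₁.ax 1 * g⁻¹ = x := by
  obtain ⟨l, -, hz⟩ := C.exists_flag hx h2 h1
  obtain ⟨m, -, e⟩ := C.conj_ax1_Z hz fun e => h1 (conj_eq_one_iff.1
    (show l⁻¹ * x * l⁻¹⁻¹ = 1 by rw [inv_inv]; exact e))
  exact ⟨l * m, by rw [show l * m * C.H₁.ax 1 * (l * m)⁻¹ = l * (m * C.H₁.ax 1 * m⁻¹) * l⁻¹ by group, e]; group⟩

omit [CharP F 2] in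
/-- An involution fixes at least a square root of an elementary abelian group. -/
theorem card_le_fixed_sq {V : Subgroup G} (hsq : ∀ v ∈ V, v * v = 1) (hc : ∀ v ∈ V, ∀ w ∈ V, v * w = w * v)
    {f : G} (hf : f * f = 1) (hn : ∀ v ∈ V, f * v * f⁻¹ ∈ V) :
    Nat.card V ≤ Nat.card ↥(V ⊓ Subgroup.centralizer ({f} : Set G)) * Nat.card ↥(V ⊓ Subgroup.centralizer ({f} : Set G)) := by
  classical
  set A := V ⊓ Subgroup.centralizer ({f} : Set G)
  have hfi : f⁻¹ = f := self_inv_of_sq hf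
  let φ : V →* V :=
    { toFun := fun v => ⟨f * (v : G) * f⁻¹ * v, V.mul_mem (hn v v.2) v.2⟩
      map_one' := Subtype.ext (by simp)
      map_mul' := fun a b => Subtype.ext (by
        show f * ((a : G) * b) * f⁻¹ * ((a : G) * b) = f * a * f⁻¹ * a * (f * b * f⁻¹ * b)
        calc f * ((a : G) * b) * f⁻¹ * ((a : G) * b) = f * a * f⁻¹ * ((f * b * f⁻¹) * a) * b := by group
          _ = f * a * f⁻¹ * (a * (f * b * f⁻¹)) * b := by rw [hc _ (hn b b.2) a a.2]
          _ = _ := by group) }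
  have hk : φ.ker.map V.subtype ≤ A := by
    rintro _ ⟨v, hv, rfl⟩
    have e : f * (v : G) * f⁻¹ * v = 1 := congrArg Subtype.val (MonoidHom.mem_ker.1 hv)
    have e' : f * (v : G) * f⁻¹ = v := (eq_inv_of_mul_eq_one_left e).trans (self_inv_of_sq (hsq v v.2))
    exact ⟨v.2, Subgroup.mem_centralizer_singleton_iff.2 (mul_inv_eq_iff_eq_mul.1 e').symm⟩
  have hr : φ.range.map V.subtype ≤ A := by
    rintro _ ⟨_, ⟨v, rfl⟩, rfl⟩
    refine ⟨(φ v).2, Subgroup.mem_centralizer_singleton_iff.2 ?_⟩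
    show f * (v : G) * f⁻¹ * v * f = f * (f * (v : G) * f⁻¹ * v)
    rw [hc _ (hn v v.2) v v.2]
    conv_rhs => rw [← hc _ (hn v v.2) v v.2]
    rw [hfi]
    calc (v : G) * (f * v * f) * f = v * f * v * (f * f) := by group
      _ = (f * f) * ((v : G) * f * v) := by rw [hf, mul_one, one_mul]
      _ = _ := by group
  have h := φ.ker.card_mul_index
  rw [Subgroup.index_ker] at h
  rw [← h, ← Subgroup.card_map_of_injective (K := φ.ker) V.subtype_injective,
    ← Subgroup.card_map_of_injective (K := φ.range) V.subtype_injective]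
  exact Nat.mul_le_mul (Subgroup.card_le_of_le hk) (Subgroup.card_le_of_le hr)

omit [Finite G] in
theorem two_e_lt : 2 * C.e < Fintype.card F := by
  have hb := C.big
  rw [C.hF] at hb ⊢
  have h3 : 3 ≤ C.e := by
    by_contra h
    have := Nat.pow_le_pow_right (show 0 < 2 by norm_num) (show C.e ≤ 2 by omega)
    omega
  have key : ∀ n, 3 ≤ n → 2 * n < 2 ^ n := by
    intro n hn
    induction n, hn using Nat.le_induction with
    | base => norm_num
    | succ n hn ih => rw [pow_succ]; omega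
  exact key _ h3

theorem exists_common {f g : G} (hf : f ∈ C.NJ) (hf2 : f * f = 1) (hfJ : f ∉ C.J)
    (hP : ∀ u ∈ C.J, u * f = f * u → g⁻¹ * u * g ∈ C.NJ) :
    ∃ y ∈ C.Z, y ≠ 1 ∧ g⁻¹ * y * g ∈ C.J := by
  classical
  set R := C.J ⊓ Subgroup.centralizer ({f} : Set G)
  set R' := R.map (MulAut.conj g⁻¹).toMonoidHom
  have hR' : IsPGroup 2 R' := (C.J_two.to_le (inf_le_left : R ≤ C.J)).map _
  have hR'N : R' ≤ C.NJ := by
    rintro _ ⟨u, hu, rfl⟩
    simpa using hP u hu.1 (Subgroup.mem_centralizer_singleton_iff.1 hu.2)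
  have cR : ∀ u ∈ R, g⁻¹ * u * g ∈ R' := fun u hu => ⟨u, hu, by simp⟩
  by_cases hf1 : f ∈ C.N1
  · have hσ : C.σZ f ≠ 1 := fun h => hfJ (C.mem_J_of hf hf1 ⟨1, by rw [pow_one, pow_two, hf2]⟩ h)
    have ex : ∀ V : Subgroup G, (∀ v ∈ V, v * v = 1) → (∀ v ∈ V, ∀ w ∈ V, v * w = w * v) →
        (∀ v ∈ V, f * v * f⁻¹ ∈ V) → Nat.card V = Fintype.card F * Fintype.card F →
        ∃ v ∈ V, v ∉ C.Z ∧ v * f = f * v := by
      intro V h1 h2 h3 hc
      by_contra hn
      push Not at hn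
      have hle : V ⊓ Subgroup.centralizer ({f} : Set G) ≤ C.Z := fun v hv =>
        by_contra fun hvZ => hn v hv.1 hvZ (Subgroup.mem_centralizer_singleton_iff.1 hv.2)
      have hfix := C.card_fix_Z hf hle fun v hv => by
        rw [← Subgroup.mem_centralizer_singleton_iff.1 hv.2, mul_inv_cancel_right]
      have h := card_le_fixed_sq h1 h2 hf2 h3
      have hlt := fixCard_lt hσ
      rw [hc] at h
      nlinarith
    obtain ⟨v, hv, hvZ, hvf⟩ := ex C.V₁ (fun v => C.sq1) (fun v hv w hw => C.H₁.comm hv hw)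
      (fun v hv => nconj hf1 hv) C.card_V.1
    obtain ⟨u, hu, huZ, huf⟩ := ex C.V₂ (fun v => C.sq2) (fun v hv w hw => C.H₂.comm hv hw)
      (fun v hv => nconj (C.N2_of_N1 hf hf1) hv) C.card_V.2
    refine ⟨v * u * v⁻¹ * u⁻¹, C.comm_mem_Z (C.V1_le hv) (C.V2_le hu), fun e => ?_, ?_⟩
    · have h := C.comm1 hv (C.V2_le hu)
      rw [e, ← C.H₁.ax_zero] at h
      rcases mul_eq_zero.1 (C.H₁.ax_inj h).symm with h | h
      · exact huZ ⟨(C.H₁.al_eq_zero (C.V2_le hu)).1 h, hu⟩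
      · exact hvZ ((C.mem_Z1 hv).2 h)
    · have := C.comm_mem_J hR' hR'N (cR v ⟨C.V1_le hv, Subgroup.mem_centralizer_singleton_iff.2 hvf⟩)
        (cR u ⟨C.V2_le hu, Subgroup.mem_centralizer_singleton_iff.2 huf⟩)
      rwa [show g⁻¹ * v * g * (g⁻¹ * u * g) * (g⁻¹ * u * g * (g⁻¹ * v * g))⁻¹ =
        g⁻¹ * (v * u * v⁻¹ * u⁻¹) * g by group] at this
  · obtain ⟨a, b, -, -, -, hact⟩ := C.actS hf hf1
    let Q : Subgroup G :=
      { carrier := {x | x ∈ C.J ∧ f * x * f⁻¹ * x⁻¹ ∈ C.Z}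
        one_mem' := ⟨C.J.one_mem, by simp⟩
        mul_mem' := fun {x y} hx hy => ⟨C.J.mul_mem hx.1 hy.1, by
          rw [show f * (x * y) * f⁻¹ * (x * y)⁻¹ = (f * x * f⁻¹ * x⁻¹) * (x * (f * y * f⁻¹ * y⁻¹) * x⁻¹) by group]
          exact C.Z.mul_mem hx.2 (nconj (C.N_le_NZ (Subgroup.le_normalizer hx.1)) hy.2)⟩
        inv_mem' := fun {x} hx => ⟨C.J.inv_mem hx.1, by
          rw [show f * x⁻¹ * f⁻¹ * x⁻¹⁻¹ = x⁻¹ * (f * x * f⁻¹ * x⁻¹)⁻¹ * x by group]
          exact nconj' (C.N_le_NZ (Subgroup.le_normalizer hx.1)) (C.Z.inv_mem hx.2)⟩ }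
    let φ : Q →* C.Z :=
      { toFun := fun x => ⟨f * (x : G) * f⁻¹ * (x : G)⁻¹, x.2.2⟩
        map_one' := Subtype.ext (by simp)
        map_mul' := fun x y => Subtype.ext (by
          show f * ((x : G) * y) * f⁻¹ * ((x : G) * y)⁻¹ = f * x * f⁻¹ * (x : G)⁻¹ * (f * y * f⁻¹ * (y : G)⁻¹)
          have hzc := C.Z_central y.2.2 x.2.1
          calc f * ((x : G) * y) * f⁻¹ * ((x : G) * y)⁻¹
              = f * x * f⁻¹ * (x : G)⁻¹ * ((x : G) * (f * y * f⁻¹ * (y : G)⁻¹)) * (x : G)⁻¹ := by group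
            _ = f * x * f⁻¹ * (x : G)⁻¹ * ((f * y * f⁻¹ * (y : G)⁻¹) * x) * (x : G)⁻¹ := by rw [hzc]
            _ = _ := by group) }
    choose v hv hvb using C.exists_be
    have hfi : f⁻¹ = f := self_inv_of_sq hf2
    have hQ : Fintype.card F * Fintype.card F ≤ Nat.card Q := by
      refine le_trans (le_of_eq (by rw [Nat.card_prod, C.card_Z, Nat.card_eq_fintype_card (α := F)] :
          Fintype.card F * Fintype.card F = Nat.card (C.Z × F)))
        (Nat.card_le_card_of_injective (fun p => (⟨(p.1 : G) * (f * v p.2 * f⁻¹ * v p.2), ?_, ?_⟩ : Q)) ?_)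
      · exact C.J.mul_mem (C.Z_le_J p.1.2) (C.J.mul_mem (nconj hf (C.V1_le (hv _))) (C.V1_le (hv _)))
      · set w := v p.2
        have hw := C.V1_le (hv p.2)
        have hfw := nconj hf hw
        have hc := C.comm_mem_Z hw hfw
        have hz1 := nconj (C.N_le_NZ hf) p.1.2
        have e : f * ((p.1 : G) * (f * w * f⁻¹ * w)) * f⁻¹ * ((p.1 : G) * (f * w * f⁻¹ * w))⁻¹ =
            (f * (p.1 : G) * f⁻¹) * ((w * (f * w * f⁻¹) * w⁻¹ * (f * w * f⁻¹)⁻¹) * (p.1 : G)⁻¹) := by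
          rw [hfi]
          calc f * ((p.1 : G) * (f * w * f * w)) * f * ((p.1 : G) * (f * w * f * w))⁻¹
              = f * (p.1 : G) * (f * w * f * w * f * (w⁻¹ * f⁻¹ * w⁻¹ * f⁻¹) * (p.1 : G)⁻¹) := by group
            _ = _ := by
              rw [mul_inv_rev, mul_inv_rev, hfi]
              group
        rw [e]
        exact C.Z.mul_mem hz1 (C.Z.mul_mem hc (C.Z.inv_mem p.1.2))
      · rintro ⟨z, c⟩ ⟨z', c'⟩ e
        have e' := congrArg (fun x : Q => (x : G)) e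
        have hbe : ∀ (z : C.Z) (c : F), C.be ((z : G) * (f * v c * f⁻¹ * v c)) = c := fun z c => by
          have hw := C.V1_le (hv c)
          rw [C.be_mul (C.Z_le_J z.2) (C.J.mul_mem (nconj hf hw) hw), C.be_V2 z.2.2, C.be_mul (nconj hf hw) hw,
            (hact _ hw).2, hvb, (C.H₁.al_eq_zero hw).2 (hv _)]
          simp
        have hc : c = c' := by rw [← hbe z c, ← hbe z' c']; exact congrArg C.be e'
        subst hc
        rw [Prod.mk.injEq]
        exact ⟨Subtype.ext (mul_right_cancel e'), rfl⟩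
    have hker : φ.ker.map Q.subtype ≤ R := by
      rintro _ ⟨x, hx, rfl⟩
      have e : f * (x : G) * f⁻¹ * (x : G)⁻¹ = 1 := congrArg Subtype.val (MonoidHom.mem_ker.1 hx)
      exact ⟨x.2.1, Subgroup.mem_centralizer_singleton_iff.2
        (mul_inv_eq_iff_eq_mul.1 (mul_inv_eq_one.1 e)).symm⟩
    have hR : Fintype.card F ≤ Nat.card R := by
      have h := φ.ker.card_mul_index
      rw [Subgroup.index_ker] at h
      have h1 : Nat.card φ.range ≤ Fintype.card F := (Subgroup.card_le_card_group _).trans C.card_Z.le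
      have h2 := Subgroup.card_le_of_le hker
      rw [Subgroup.card_map_of_injective Q.subtype_injective] at h2
      have h3 : Fintype.card F * Fintype.card F ≤ Nat.card R * Fintype.card F :=
        hQ.trans (h ▸ Nat.mul_le_mul h2 h1)
      exact Nat.le_of_mul_le_mul_right h3 Fintype.card_pos
    -- two elements of `R` of the same type
    obtain ⟨r, hr, r', hr', hne, hσ, hside⟩ : ∃ r ∈ R, ∃ r' ∈ R, r ≠ r' ∧
        C.σZ (g⁻¹ * r * g) = C.σZ (g⁻¹ * r' * g) ∧ (g⁻¹ * r * g ∈ C.N1 ↔ g⁻¹ * r' * g ∈ C.N1) := by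
      by_contra hn
      push Not at hn
      haveI : Finite (F ≃+* F) := Nat.finite_of_card_ne_zero
        (by rw [card_aut (le_trans one_le_two C.he) C.hF]; have := C.he; omega)
      have h := Nat.card_le_card_of_injective
        (fun r : R => (C.σZ (g⁻¹ * (r : G) * g), decide (g⁻¹ * (r : G) * g ∈ C.N1))) fun a b e => by
        refine Subtype.ext (by_contra fun hne => ?_)
        have e1 : C.σZ (g⁻¹ * (a : G) * g) = C.σZ (g⁻¹ * (b : G) * g) := congrArg Prod.fst e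
        have e2 : g⁻¹ * (a : G) * g ∈ C.N1 ↔ g⁻¹ * (b : G) * g ∈ C.N1 := decide_eq_decide.1 (congrArg Prod.snd e)
        rcases hn a a.2 b b.2 hne e1 with h | h
        · exact h.2 (e2.1 h.1)
        · exact h.1 (e2.2 h.2)
      rw [Nat.card_prod, card_aut (le_trans one_le_two C.he) C.hF, Nat.card_eq_fintype_card (α := Bool),
        Fintype.card_bool] at h
      have := C.two_e_lt
      omega
    set d := r * r'⁻¹
    have hd : d ∈ R := R.mul_mem hr (R.inv_mem hr')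
    have hd1 : d ≠ 1 := fun e => hne (mul_inv_eq_one.1 e)
    have hdJ : g⁻¹ * d * g ∈ C.J := by
      have := C.div_mem_J hR' hR'N (cR r hr) (cR r' hr') hσ hside
      rwa [show g⁻¹ * r * g * (g⁻¹ * r' * g)⁻¹ = g⁻¹ * (r * r'⁻¹) * g by group] at this
    have hdf : f * d * f⁻¹ = d := by
      rw [← Subgroup.mem_centralizer_singleton_iff.1 hd.2, mul_inv_cancel_right]
    by_cases h2 : d * d = 1
    · exact ⟨d, C.fix_swap hf hf1 (C.invol_mem hd.1 h2) hdf, hd1, hdJ⟩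
    · refine ⟨d * d, by rw [C.sq_eq hd.1]; exact C.ax_mem_Z _, h2, ?_⟩
      rw [show g⁻¹ * (d * d) * g = (g⁻¹ * d * g) * (g⁻¹ * d * g) by group]
      exact C.J.mul_mem hdJ hdJ

/-- An involution in a 2-group over `J` fused into `Z` lies in `J`. -/
theorem fused {f g z : G} (hf : f ∈ C.NJ) (hz : z ∈ C.Z) (hz1 : z ≠ 1) (he : g * z * g⁻¹ = f) : f ∈ C.J := by
  by_contra hfJ
  have hf2 : f * f = 1 := by rw [← he, conj_mul, C.sq1 hz.1, mul_one, mul_inv_cancel]
  obtain ⟨y, hy, hy1, hyJ⟩ := C.exists_common hf hf2 hfJ (g := g) fun u _ hc => C.cz' hz hz1 (by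
    rw [← he] at hc
    calc g⁻¹ * u * g * z = g⁻¹ * (u * (g * z * g⁻¹)) * g := by group
      _ = g⁻¹ * ((g * z * g⁻¹) * u) * g := by rw [hc]
      _ = _ := by group)
  have hy2 : g⁻¹ * y * g * (g⁻¹ * y * g) = 1 := by
    rw [show g⁻¹ * y * g * (g⁻¹ * y * g) = g⁻¹ * (y * y) * g by group, C.sq1 hy.1]; group
  obtain ⟨l, hl, hlz⟩ := C.exists_flag hyJ hy2 fun e => hy1 (conj_eq_one_iff.1
    (show g⁻¹ * y * g⁻¹⁻¹ = 1 by rw [inv_inv]; exact e))
  have hgl : g * l ∈ C.NJ := C.norm_of_meet hy hy1 (by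
    rwa [show (g * l)⁻¹ * y * (g * l) = l⁻¹ * (g⁻¹ * y * g) * l by group])
  apply hfJ
  rw [← he]
  have key : ∀ V : Subgroup G, l ∈ Subgroup.normalizer (V : Set G) → z ∈ V → V ≤ C.J → g * z * g⁻¹ ∈ C.J := by
    intro V hlV hzV hVJ
    rw [show g * z * g⁻¹ = (g * l) * (l⁻¹ * z * l) * (g * l)⁻¹ by group]
    exact nconj hgl (hVJ (nconj' hlV hzV))
  rcases hl with ⟨hl, -⟩ | ⟨hl, -⟩
  · exact key _ (C.H₁.nor hl) hz.1 C.V1_le
  · exact key _ (C.H₂.nor hl) hz.2 C.V2_le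

end Loc

end Cfsg.Agent.ParabolicPair
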