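import Cfsg.Agent.Lib.ParabolicPair.Half

/-!
# Two parabolics with a common Sylow subgroup (S3091)

* `Pair` : the data; `Pair.Z`, `Pair.al`, `Pair.be` : coordinates of `J/Z`
* `Pair.sq_eq`, `Pair.comm_eq` : squares and commutators
* `Pair.elem_le` : elementary subgroups of `J` lie in `V₁` or in `V₂`
* `Pair.side`, `Pair.N_le_NZ` : `N(J)` permutes `V₁, V₂`
-/

set_option autoImplicit false

namespace Cfsg.Agent.ParabolicPair

/-- Two parabolics. -/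
structure Pair (G : Type*) [Group G] (F : Type*) [Field F] where
  V₁ : Subgroup G
  V₂ : Subgroup G
  L₁ : Subgroup G
  L₂ : Subgroup G
  J : Subgroup G
  H₁ : Half F V₁ L₁ J
  H₂ : Half F V₂ L₂ J
  sup : V₁ ⊔ V₂ = J

theorem self_inv_of_sq {G : Type*} [Group G] {v : G} (h : v * v = 1) : v⁻¹ = v :=
  inv_eq_of_mul_eq_one_right h

theorem le_or_le_of_union {G : Type*} [Group G] {A H K : Subgroup G} (h : ∀ x ∈ A, x ∈ H ∨ x ∈ K) :
    A ≤ H ∨ A ≤ K := by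
  by_contra hh
  push Not at hh
  obtain ⟨a, ha, haH⟩ := SetLike.not_le_iff_exists.1 hh.1
  obtain ⟨b, hb, hbK⟩ := SetLike.not_le_iff_exists.1 hh.2
  have haK := (h a ha).resolve_left haH
  have hbH := (h b hb).resolve_right hbK
  rcases h _ (A.mul_mem ha hb) with h' | h'
  · exact haH ((Subgroup.mul_mem_cancel_right _ hbH).1 h')
  · exact hbK ((Subgroup.mul_mem_cancel_left _ haK).1 h')

namespace Pair

variable {G : Type*} [Group G] {F : Type*} [Field F] (P : Pair G F)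

/-- The two halves exchanged. -/
def swap : Pair G F where
  V₁ := P.V₂
  V₂ := P.V₁
  L₁ := P.L₂
  L₂ := P.L₁
  J := P.J
  H₁ := P.H₂
  H₂ := P.H₁
  sup := by rw [sup_comm]; exact P.sup

@[simp] theorem swap_V₁ : P.swap.V₁ = P.V₂ := rfl
@[simp] theorem swap_V₂ : P.swap.V₂ = P.V₁ := rfl
@[simp] theorem swap_L₁ : P.swap.L₁ = P.L₂ := rfl
@[simp] theorem swap_L₂ : P.swap.L₂ = P.L₁ := rfl
@[simp] theorem swap_J : P.swap.J = P.J := rfl

/-- The intersection. -/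
def Z : Subgroup G := P.V₁ ⊓ P.V₂

theorem swap_Z : P.swap.Z = P.Z := inf_comm _ _

theorem V1_le : P.V₁ ≤ P.J := P.H₁.V_le_J
theorem V2_le : P.V₂ ≤ P.J := P.H₂.V_le_J
theorem J_le_N1 : P.J ≤ Subgroup.normalizer (P.V₁ : Set G) := P.H₁.J_le_N
theorem J_le_N2 : P.J ≤ Subgroup.normalizer (P.V₂ : Set G) := P.H₂.J_le_N
theorem Z_le_J : P.Z ≤ P.J := inf_le_left.trans P.V1_le

theorem split {x : G} (hx : x ∈ P.J) : ∃ v ∈ P.V₁, ∃ u ∈ P.V₂, v * u = x := by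
  have h := Subgroup.coe_mul_of_left_le_normalizer_right P.V₁ P.V₂ (P.V1_le.trans P.J_le_N2)
  have hx' : x ∈ ((P.V₁ ⊔ P.V₂ : Subgroup G) : Set G) := by rw [P.sup]; exact hx
  rw [h, Set.mem_mul] at hx'
  exact hx'

theorem al_split {v u : G} (hv : v ∈ P.V₁) (hu : u ∈ P.V₂) : P.H₁.al (v * u) = P.H₁.al u := by
  rw [P.H₁.al_mul (P.V1_le hv) (P.V2_le hu), (P.H₁.al_eq_zero (P.V1_le hv)).2 hv, zero_add]

theorem exists_al_V2 (a : F) : ∃ u ∈ P.V₂, P.H₁.al u = a := by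
  obtain ⟨x, hx, rfl⟩ := P.H₁.exists_al a
  obtain ⟨v, hv, u, hu, rfl⟩ := P.split hx
  exact ⟨u, hu, (P.al_split hv hu).symm⟩

variable [CharP F 2]

theorem sq1 {v : G} (hv : v ∈ P.V₁) : v * v = 1 :=
  (P.H₁.eq_one_iff (P.V₁.mul_mem hv hv)).1 (by
    rw [P.H₁.co_mul v hv v hv]; funext i; exact CharTwo.add_self_eq_zero _)

theorem sq2 {v : G} (hv : v ∈ P.V₂) : v * v = 1 := P.swap.sq1 hv

theorem inv1 {v : G} (hv : v ∈ P.V₁) : v⁻¹ = v := self_inv_of_sq (P.sq1 hv)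
theorem inv2 {v : G} (hv : v ∈ P.V₂) : v⁻¹ = v := self_inv_of_sq (P.sq2 hv)

/-- Commutators with `V₁`. -/
theorem comm1 {v y : G} (hv : v ∈ P.V₁) (hy : y ∈ P.J) :
    v * y * v⁻¹ * y⁻¹ = P.H₁.ax (P.H₁.al y * P.H₁.co v 1) := by
  have hc := nconj (P.J_le_N1 hy) (P.V₁.inv_mem hv)
  rw [show v * y * v⁻¹ * y⁻¹ = v * (y * v⁻¹ * y⁻¹) by group]
  refine P.H₁.co_inj (P.V₁.mul_mem hv hc) (P.H₁.ax_mem _) ?_
  rw [P.H₁.co_mul v hv _ hc, P.inv1 hv, P.H₁.act_J hy hv, P.H₁.co_ax]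
  funext i
  fin_cases i
  · show P.H₁.co v 0 + (P.H₁.co v 0 + _) = _
    rw [← add_assoc, CharTwo.add_self_eq_zero, zero_add]
    rfl
  · exact CharTwo.add_self_eq_zero _

theorem comm_iff1 {v y : G} (hv : v ∈ P.V₁) (hy : y ∈ P.J) :
    v * y = y * v ↔ P.H₁.al y * P.H₁.co v 1 = 0 := by
  have h := P.comm1 hv hy
  constructor
  · intro e
    apply P.H₁.ax_inj
    rw [← h, e, P.H₁.ax_zero]
    group
  · intro e
    rw [e, P.H₁.ax_zero] at h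
    calc v * y = (v * y * v⁻¹ * y⁻¹) * (y * v) := by group
      _ = y * v := by rw [h, one_mul]

theorem mem_Z_iff1 {v : G} (hv : v ∈ P.V₁) : v ∈ P.Z → P.H₁.co v 1 = 0 := fun h => by
  obtain ⟨u, hu, e⟩ := P.exists_al_V2 1
  have := (P.comm_iff1 hv (P.V2_le hu)).1 (P.H₂.comm h.2 hu)
  rwa [e, one_mul] at this

theorem card_V [Finite G] [Fintype F] :
    Nat.card P.V₁ = Fintype.card F * Fintype.card F ∧ Nat.card P.V₂ = Fintype.card F * Fintype.card F :=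
  ⟨P.H₁.card_V, P.H₂.card_V⟩

theorem card_Z [Finite G] [Fintype F] : Nat.card P.Z = Fintype.card F := by
  classical
  let f : P.V₂ →* Multiplicative F :=
    { toFun := fun u => Multiplicative.ofAdd (P.H₁.al u)
      map_one' := by
        show Multiplicative.ofAdd (P.H₁.al 1) = 1
        rw [(P.H₁.al_eq_zero P.J.one_mem).2 P.V₁.one_mem]; rfl
      map_mul' := fun a b => by
        show Multiplicative.ofAdd (P.H₁.al ((a : G) * b)) = _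
        rw [P.H₁.al_mul (P.V2_le a.2) (P.V2_le b.2)]; rfl }
  have hs : Function.Surjective f := fun a => by
    obtain ⟨u, hu, e⟩ := P.exists_al_V2 (Multiplicative.toAdd a)
    exact ⟨⟨u, hu⟩, by show Multiplicative.ofAdd (P.H₁.al u) = a; rw [e]; rfl⟩
  have hk : f.ker = P.Z.subgroupOf P.V₂ := by
    ext u
    rw [MonoidHom.mem_ker, Subgroup.mem_subgroupOf]
    show Multiplicative.ofAdd (P.H₁.al u) = 1 ↔ _
    rw [show (1 : Multiplicative F) = Multiplicative.ofAdd 0 from rfl, Multiplicative.ofAdd.injective.eq_iff,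
      P.H₁.al_eq_zero (P.V2_le u.2)]
    exact ⟨fun h => ⟨h, u.2⟩, fun h => h.1⟩
  have h := f.ker.card_mul_index
  rw [Subgroup.index_ker, MonoidHom.range_eq_top.2 hs, Subgroup.card_top, hk,
    Nat.card_congr (Subgroup.subgroupOfEquivOfLe (show P.Z ≤ P.V₂ from inf_le_right)).toEquiv,
    P.card_V.2, Nat.card_congr (Multiplicative.toAdd), Nat.card_eq_fintype_card (α := F)] at h
  exact Nat.eq_of_mul_eq_mul_right Fintype.card_pos h

variable [Finite G] [Fintype F]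

/-- `Z` is the axis. -/
theorem mem_Z1 {v : G} (hv : v ∈ P.V₁) : v ∈ P.Z ↔ P.H₁.co v 1 = 0 := by
  refine ⟨P.mem_Z_iff1 hv, fun h => ?_⟩
  have hinj : Function.Injective fun z : P.Z => P.H₁.co z 0 := fun a b e => Subtype.ext (by
    rw [P.H₁.eq_ax a.2.1 (P.mem_Z_iff1 a.2.1 a.2), P.H₁.eq_ax b.2.1 (P.mem_Z_iff1 b.2.1 b.2)]
    exact congrArg P.H₁.ax e)
  obtain ⟨⟨z, hz⟩, e⟩ := ((Nat.bijective_iff_injective_and_card _).2
    ⟨hinj, P.card_Z.trans Nat.card_eq_fintype_card.symm⟩).2 (P.H₁.co v 0)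
  rw [P.H₁.eq_ax hv h, ← show P.H₁.co z 0 = P.H₁.co v 0 from e, ← P.H₁.eq_ax hz.1 (P.mem_Z_iff1 hz.1 hz)]
  exact hz

theorem ax_mem_Z (c : F) : P.H₁.ax c ∈ P.Z := (P.mem_Z1 (P.H₁.ax_mem c)).2 (by rw [P.H₁.co_ax]; rfl)

theorem eq_axis {z : G} (hz : z ∈ P.Z) : z = P.H₁.ax (P.H₁.co z 0) := P.H₁.eq_ax hz.1 ((P.mem_Z1 hz.1).1 hz)

theorem Z_central {z y : G} (hz : z ∈ P.Z) (hy : y ∈ P.J) : z * y = y * z :=
  (P.comm_iff1 hz.1 hy).2 (by rw [(P.mem_Z1 hz.1).1 hz, mul_zero])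

omit [CharP F 2] [Finite G] [Fintype F] in
open Classical in
/-- The coordinate of `J` modulo `V₂`. -/
noncomputable def be (x : G) : F := if h : x ∈ P.J then P.H₁.co (P.split h).choose 1 else 0

theorem be_eq {v u : G} (hv : v ∈ P.V₁) (hu : u ∈ P.V₂) : P.be (v * u) = P.H₁.co v 1 := by
  have h : v * u ∈ P.J := P.J.mul_mem (P.V1_le hv) (P.V2_le hu)
  rw [be, dif_pos h]
  obtain ⟨hv', u', hu', e⟩ := (P.split h).choose_spec
  set v' := (P.split h).choose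
  have hz : v⁻¹ * v' ∈ P.Z := ⟨P.V₁.mul_mem (P.V₁.inv_mem hv) hv', by
    rw [show v⁻¹ * v' = u * u'⁻¹ by rw [eq_mul_inv_iff_mul_eq, mul_assoc, e, inv_mul_cancel_left]]
    exact P.V₂.mul_mem hu (P.V₂.inv_mem hu')⟩
  have h1 := (P.mem_Z1 hz.1).1 hz
  rw [P.H₁.co_mul _ (P.V₁.inv_mem hv) _ hv', P.inv1 hv] at h1
  exact (CharTwo.add_eq_zero.1 h1).symm

theorem be_V1 {v : G} (hv : v ∈ P.V₁) : P.be v = P.H₁.co v 1 := by
  simpa using P.be_eq hv P.V₂.one_mem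

theorem be_V2 {u : G} (hu : u ∈ P.V₂) : P.be u = 0 := by
  rw [← one_mul u, P.be_eq P.V₁.one_mem hu, P.H₁.co_one]; rfl

theorem be_mul {x y : G} (hx : x ∈ P.J) (hy : y ∈ P.J) : P.be (x * y) = P.be x + P.be y := by
  obtain ⟨v, hv, u, hu, rfl⟩ := P.split hx
  obtain ⟨v', hv', u', hu', rfl⟩ := P.split hy
  have hc : v'⁻¹ * u * v' * u⁻¹ ∈ P.Z := by
    have h := P.comm1 (P.V₁.inv_mem hv') (P.V2_le hu)
    rw [inv_inv] at h
    rw [h]; exact P.ax_mem_Z _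
  rw [show v * u * (v' * u') = v * v' * (v'⁻¹ * u * v' * u⁻¹) * (u * u') by group,
    P.be_eq (P.V₁.mul_mem (P.V₁.mul_mem hv hv') hc.1) (P.V₂.mul_mem hu hu'), P.be_eq hv hu, P.be_eq hv' hu',
    P.H₁.co_mul _ (P.V₁.mul_mem hv hv') _ hc.1, P.H₁.co_mul _ hv _ hv', Pi.add_apply, Pi.add_apply,
    (P.mem_Z1 hc.1).1 hc, add_zero]

theorem exists_be (b : F) : ∃ v ∈ P.V₁, P.be v = b := ⟨P.H₁.el ![0, b], P.H₁.el_mem _, by
  rw [P.be_V1 (P.H₁.el_mem _), P.H₁.co_el]; rfl⟩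

theorem exists_coords (a b : F) : ∃ x ∈ P.J, P.H₁.al x = a ∧ P.be x = b := by
  obtain ⟨u, hu, rfl⟩ := P.exists_al_V2 a
  obtain ⟨v, hv, rfl⟩ := P.exists_be b
  exact ⟨v * u, P.J.mul_mem (P.V1_le hv) (P.V2_le hu), P.al_split hv hu, by rw [P.be_eq hv hu, P.be_V1 hv]⟩

theorem mem_V2_iff {x : G} (hx : x ∈ P.J) : x ∈ P.V₂ ↔ P.be x = 0 := by
  refine ⟨P.be_V2, fun h => ?_⟩
  obtain ⟨v, hv, u, hu, rfl⟩ := P.split hx
  rw [P.be_eq hv hu] at h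
  exact P.V₂.mul_mem ((P.mem_Z1 hv).2 h).2 hu

theorem mem_Z_iff {x : G} (hx : x ∈ P.J) : x ∈ P.Z ↔ P.H₁.al x = 0 ∧ P.be x = 0 := by
  rw [P.H₁.al_eq_zero hx, ← P.mem_V2_iff hx]; rfl

theorem be_inv {x : G} (hx : x ∈ P.J) : P.be x⁻¹ = P.be x := by
  have h := P.be_mul (P.J.inv_mem hx) hx
  rw [inv_mul_cancel, P.be_V1 P.V₁.one_mem, P.H₁.co_one] at h
  exact CharTwo.add_eq_zero.1 h.symm

theorem al_inv {x : G} (hx : x ∈ P.J) : P.H₁.al x⁻¹ = P.H₁.al x := by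
  have h := P.H₁.al_mul (P.J.inv_mem hx) hx
  rw [inv_mul_cancel, (P.H₁.al_eq_zero P.J.one_mem).2 P.V₁.one_mem] at h
  exact CharTwo.add_eq_zero.1 h.symm

theorem sq_eq {x : G} (hx : x ∈ P.J) : x * x = P.H₁.ax (P.H₁.al x * P.be x) := by
  obtain ⟨v, hv, u, hu, rfl⟩ := P.split hx
  rw [P.be_eq hv hu, P.al_split hv hu, ← P.comm1 hv (P.V2_le hu), P.inv1 hv, P.inv2 hu]
  group

theorem comm_eq {x y : G} (hx : x ∈ P.J) (hy : y ∈ P.J) :
    x * y * x⁻¹ * y⁻¹ = P.H₁.ax (P.H₁.al x * P.be y + P.H₁.al y * P.be x) := by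
  have hxy := P.J.mul_mem hx hy
  have h1 := P.sq_eq hxy
  have hz : (x * x)⁻¹ ∈ P.Z := P.Z.inv_mem (by rw [P.sq_eq hx]; exact P.ax_mem_Z _)
  have hc := P.Z_central hz (P.J.inv_mem hy)
  have e : x * y * x⁻¹ * y⁻¹ = (x * y) * (x * y) * (y * y)⁻¹ * (x * x)⁻¹ := by
    calc x * y * x⁻¹ * y⁻¹ = (x * y) * (x * y) * (y⁻¹ * ((x * x)⁻¹ * y⁻¹)) := by group
      _ = (x * y) * (x * y) * (y⁻¹ * (y⁻¹ * (x * x)⁻¹)) := by rw [hc]
      _ = _ := by group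
  rw [e, h1, P.sq_eq hx, P.sq_eq hy, P.inv1 (P.H₁.ax_mem _), P.inv1 (P.H₁.ax_mem _), ← P.H₁.ax_add,
    ← P.H₁.ax_add, P.H₁.al_mul hx hy, P.be_mul hx hy]
  congr 1
  linear_combination (CharTwo.add_self_eq_zero (P.H₁.al x * P.be x)) +
    (CharTwo.add_self_eq_zero (P.H₁.al y * P.be y))

theorem comm_mem_Z {x y : G} (hx : x ∈ P.J) (hy : y ∈ P.J) : x * y * x⁻¹ * y⁻¹ ∈ P.Z := by
  rw [P.comm_eq hx hy]; exact P.ax_mem_Z _

/-- The involutions of `J`. -/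
theorem invol_mem {x : G} (hx : x ∈ P.J) (h : x * x = 1) : x ∈ P.V₁ ∨ x ∈ P.V₂ := by
  rw [P.sq_eq hx, ← P.H₁.ax_zero] at h
  rcases mul_eq_zero.1 (P.H₁.ax_inj h) with h | h
  · exact Or.inl ((P.H₁.al_eq_zero hx).1 h)
  · exact Or.inr ((P.mem_V2_iff hx).2 h)

theorem elem_le {A : Subgroup G} (hA : A ≤ P.J) (h : ∀ x ∈ A, x * x = 1) : A ≤ P.V₁ ∨ A ≤ P.V₂ :=
  le_or_le_of_union fun x hx => P.invol_mem (hA hx) (h x hx)

theorem eq_or {A : Subgroup G} (hA : A ≤ P.J) (h : ∀ x ∈ A, x * x = 1)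
    (hc : Fintype.card F * Fintype.card F ≤ Nat.card A) : A = P.V₁ ∨ A = P.V₂ := by
  rcases P.elem_le hA h with h' | h'
  · exact Or.inl (Subgroup.eq_of_le_of_card_ge h' (by rw [P.card_V.1]; exact hc))
  · exact Or.inr (Subgroup.eq_of_le_of_card_ge h' (by rw [P.card_V.2]; exact hc))

omit [CharP F 2] in
theorem one_lt_q : 1 < Fintype.card F := Fintype.one_lt_card

theorem V_ne : P.V₁ ≠ P.V₂ := fun e => by
  have h := P.card_Z
  rw [Z, ← e, inf_idem, P.card_V.1] at h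
  have := one_lt_q (F := F)
  nlinarith

theorem side {g : G} (hg : g ∈ Subgroup.normalizer (P.J : Set G)) :
    (g ∈ Subgroup.normalizer (P.V₁ : Set G) ∧ g ∈ Subgroup.normalizer (P.V₂ : Set G)) ∨
    (P.V₁.map (MulAut.conj g).toMonoidHom = P.V₂ ∧ P.V₂.map (MulAut.conj g).toMonoidHom = P.V₁) := by
  have img : ∀ V : Subgroup G, V ≤ P.J → (∀ x ∈ V, x * x = 1) → Fintype.card F * Fintype.card F ≤ Nat.card V →
      V.map (MulAut.conj g).toMonoidHom = P.V₁ ∨ V.map (MulAut.conj g).toMonoidHom = P.V₂ := by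
    intro V hV h2 hc
    refine P.eq_or ?_ ?_ (hc.trans (Subgroup.card_map_of_injective (MulAut.conj g).injective).ge)
    · rintro _ ⟨x, hx, rfl⟩; exact nconj hg (hV hx)
    · rintro _ ⟨x, hx, rfl⟩; rw [← map_mul, h2 x hx, map_one]
  rcases img P.V₁ P.V1_le (fun x => P.sq1) P.card_V.1.ge with h1 | h1 <;>
    rcases img P.V₂ P.V2_le (fun x => P.sq2) P.card_V.2.ge with h2 | h2
  · exact absurd (Subgroup.map_injective (MulAut.conj g).injective (h1.trans h2.symm)) P.V_ne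
  · exact Or.inl ⟨Subgroup.mem_normalizer_iff_map_conj_eq.2 h1, Subgroup.mem_normalizer_iff_map_conj_eq.2 h2⟩
  · exact Or.inr ⟨h1, h2⟩
  · exact absurd (Subgroup.map_injective (MulAut.conj g).injective (h1.trans h2.symm)) P.V_ne

theorem N2_of_N1 {g : G} (hg : g ∈ Subgroup.normalizer (P.J : Set G))
    (h1 : g ∈ Subgroup.normalizer (P.V₁ : Set G)) : g ∈ Subgroup.normalizer (P.V₂ : Set G) :=
  (P.side hg).elim And.right fun h => absurd ((Subgroup.mem_normalizer_iff_map_conj_eq.1 h1).symm.trans h.1) P.V_ne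

theorem N_le_NZ : Subgroup.normalizer (P.J : Set G) ≤ Subgroup.normalizer (P.Z : Set G) := fun g hg => by
  rw [Subgroup.mem_normalizer_iff_map_conj_eq, Z]
  show (P.V₁ ⊓ P.V₂).map (MulAut.conj g).toMonoidHom = _
  rw [Subgroup.map_inf _ _ _ (MulAut.conj g).injective]
  rcases P.side hg with ⟨h1, h2⟩ | ⟨h1, h2⟩
  · exact congrArg₂ (· ⊓ ·) (Subgroup.mem_normalizer_iff_map_conj_eq.1 h1)
      (Subgroup.mem_normalizer_iff_map_conj_eq.1 h2)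
  · rw [h1, h2, inf_comm]

end Pair

end Cfsg.Agent.ParabolicPair
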