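import Cfsg.Agent.Lib.ParabolicPair.Sylow
import Cfsg.Agent.Lib.Sectional.MacWilliams
import Cfsg.Agent.Lib.Sectional.DirectFour

/-!
# The case `q = 4`: sectional 2-rank at most four (S3091)

* `Conf.card_sub` : the order of a subgroup of `J` from its image in `J/Z`
* `Conf.sectional` : the sectional 2-rank is at most four
-/

set_option autoImplicit false

open Cfsg

namespace Cfsg.Agent.ParabolicPair.Conf

variable {G : Type*} [Group G] {F : Type*} [Field F] [Fintype F] [CharP F 2] [Finite G] (C : Conf G F)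

omit [Finite G] in
theorem commutator_mem_of_sq {H N : Subgroup G} (hsq : ∀ x ∈ H, x * x ∈ N) {h x : G} (hh : h ∈ H) (hx : x ∈ H) :
    h * x * h⁻¹ * x⁻¹ ∈ N := by
  have e : h * x * h⁻¹ * x⁻¹ = (h * x) * (h * x) * ((x⁻¹ * h⁻¹ * x) * (x⁻¹ * h⁻¹ * x)) * (x⁻¹ * x⁻¹) := by group
  rw [e]
  exact N.mul_mem (N.mul_mem (hsq _ (H.mul_mem hh hx))
    (hsq _ (H.mul_mem (H.mul_mem (H.inv_mem hx) (H.inv_mem hh)) hx))) (hsq _ (H.inv_mem hx))

/-- The image of a subgroup of `J` in `J/Z`. -/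
noncomputable def img (A : Subgroup G) (hA : A ≤ C.J) : AddSubgroup (F × F) where
  carrier := {p | ∃ x ∈ A, C.H₁.al x = p.1 ∧ C.be x = p.2}
  zero_mem' := ⟨1, A.one_mem, (C.H₁.al_eq_zero C.J.one_mem).2 C.V₁.one_mem, C.be_V2 C.V₂.one_mem⟩
  add_mem' := by
    rintro p r ⟨x, hx, a, b⟩ ⟨y, hy, a', b'⟩
    exact ⟨x * y, A.mul_mem hx hy, by rw [C.H₁.al_mul (hA hx) (hA hy), a, a']; rfl,
      by rw [C.be_mul (hA hx) (hA hy), b, b']; rfl⟩
  neg_mem' := by
    rintro p ⟨x, hx, a, b⟩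
    exact ⟨x, hx, by rw [a, Prod.fst_neg, CharTwo.neg_eq], by rw [b, Prod.snd_neg, CharTwo.neg_eq]⟩

theorem card_sub (A : Subgroup G) (hA : A ≤ C.J) :
    Nat.card A = Nat.card (C.img A hA) * Nat.card ↥(A ⊓ C.Z) := by
  classical
  let f : A →* Multiplicative (F × F) :=
    { toFun := fun x => Multiplicative.ofAdd (C.H₁.al x, C.be x)
      map_one' := by
        show Multiplicative.ofAdd (C.H₁.al (1 : G), C.be (1 : G)) = 1
        rw [(C.H₁.al_eq_zero C.J.one_mem).2 C.V₁.one_mem, C.be_V2 C.V₂.one_mem]; rfl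
      map_mul' := fun a b => by
        show Multiplicative.ofAdd (C.H₁.al ((a : G) * b), C.be ((a : G) * b)) = _
        rw [C.H₁.al_mul (hA a.2) (hA b.2), C.be_mul (hA a.2) (hA b.2)]; rfl }
  have h := f.ker.card_mul_index
  rw [Subgroup.index_ker] at h
  have hr : Nat.card f.range = Nat.card (C.img A hA) := Nat.card_congr
    { toFun := fun y => ⟨Multiplicative.toAdd y.1, by
        obtain ⟨x, e⟩ := y.2
        exact ⟨x, x.2, congrArg (fun z => (Multiplicative.toAdd z).1) e, congrArg (fun z => (Multiplicative.toAdd z).2) e⟩⟩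
      invFun := fun p => ⟨Multiplicative.ofAdd p.1, by
        obtain ⟨x, hx, a, b⟩ := p.2
        exact ⟨⟨x, hx⟩, congrArg Multiplicative.ofAdd (Prod.ext a b)⟩⟩
      left_inv := fun _ => rfl
      right_inv := fun _ => rfl }
  have hk : f.ker.map A.subtype = A ⊓ C.Z := by
    ext x
    constructor
    · rintro ⟨y, hy, rfl⟩
      have e := Multiplicative.ofAdd.injective (MonoidHom.mem_ker.1 hy)
      exact ⟨y.2, (C.mem_Z_iff (hA y.2)).2 ⟨congrArg Prod.fst e, congrArg Prod.snd e⟩⟩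
    · intro hx
      refine ⟨⟨x, hx.1⟩, MonoidHom.mem_ker.2 ?_, rfl⟩
      show Multiplicative.ofAdd (C.H₁.al x, C.be x) = 1
      obtain ⟨a, b⟩ := (C.mem_Z_iff (hA hx.1)).1 hx.2
      rw [a, b]; rfl
  rw [← h, ← hk, Subgroup.card_map_of_injective A.subtype_injective, hr, mul_comm]

theorem img_mono {A B : Subgroup G} (hB : B ≤ C.J) (h : A ≤ B) : C.img A (h.trans hB) ≤ C.img B hB :=
  fun _ ⟨x, hx, e⟩ => ⟨x, h hx, e⟩

variable {P : Subgroup G}

theorem bound_in_J (hq : Fintype.card F = 4) {H N : Subgroup G} (hHJ : H ≤ C.J) (hNH : N ≤ H)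
    (hsq : ∀ x ∈ H, x * x ∈ N) : Nat.card H ≤ 16 * Nat.card N := by
  classical
  have hNJ := hNH.trans hHJ
  rw [C.card_sub H hHJ]
  set X := C.img H hHJ
  have hZ : Nat.card ↥(H ⊓ C.Z) ≤ 4 := (Subgroup.card_le_of_le inf_le_right).trans (by rw [C.card_Z, hq])
  have hN1 : 1 ≤ Nat.card N := Nat.card_pos
  by_cases h4 : Nat.card X ≤ 4
  · have := Nat.mul_le_mul h4 hZ
    omega
  have hdvd : Nat.card X ∣ 16 := by
    have := AddSubgroup.card_addSubgroup_dvd_card X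
    rwa [Nat.card_prod, Nat.card_eq_fintype_card (α := F), hq] at this
  -- some square is nontrivial
  obtain ⟨x, hx, hx2⟩ : ∃ x ∈ H, x * x ≠ 1 := by
    by_contra hn
    push Not at hn
    apply h4
    rcases C.elem_le hHJ hn with h | h
    · refine le_trans (Nat.card_le_card_of_injective (β := F) (fun p : X => p.1.2) ?_) (by
        rw [Nat.card_eq_fintype_card, hq])
      rintro ⟨p, y, hy, a, b⟩ ⟨p', y', hy', a', b'⟩ e
      refine Subtype.ext (Prod.ext ?_ e)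
      show p.1 = p'.1
      rw [← a, ← a', (C.H₁.al_eq_zero (hHJ hy)).2 (h hy), (C.H₁.al_eq_zero (hHJ hy')).2 (h hy')]
    · refine le_trans (Nat.card_le_card_of_injective (β := F) (fun p : X => p.1.1) ?_) (by
        rw [Nat.card_eq_fintype_card, hq])
      rintro ⟨p, y, hy, a, b⟩ ⟨p', y', hy', a', b'⟩ e
      refine Subtype.ext (Prod.ext e ?_)
      show p.2 = p'.2
      rw [← b, ← b', C.be_V2 (h hy), C.be_V2 (h hy')]
  have hN2 : 2 ≤ Nat.card N := by
    haveI : Nontrivial N := N.nontrivial_iff_exists_ne_one.2 ⟨x * x, hsq x hx, hx2⟩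
    exact Finite.one_lt_card
  by_cases h8 : Nat.card X ≤ 8
  · have := Nat.mul_le_mul h8 hZ
    omega
  have h16 : Nat.card X = 16 := by
    have h := Nat.le_of_dvd (by norm_num) hdvd
    interval_cases hc : Nat.card X <;> first | rfl | (exfalso; revert hdvd; decide)
  have htop : X = ⊤ := AddSubgroup.eq_top_of_card_eq _ (by
    rw [h16, Nat.card_prod, Nat.card_eq_fintype_card (α := F), hq])
  have hZN : C.Z ≤ N := by
    intro z hz
    obtain ⟨u, hu, ua, ub⟩ : ((C.H₁.co z 0, 0) : F × F) ∈ X := htop ▸ AddSubgroup.mem_top _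
    obtain ⟨v, hv, va, vb⟩ : ((0, 1) : F × F) ∈ X := htop ▸ AddSubgroup.mem_top _
    have h := commutator_mem_of_sq hsq hu hv
    rw [C.comm_eq (hHJ hu) (hHJ hv), ua, ub, va, vb] at h
    simp only [mul_one, mul_zero, add_zero] at h
    rwa [C.eq_axis hz]
  have h4N : 4 ≤ Nat.card N := by
    have := Subgroup.card_le_of_le hZN
    rwa [C.card_Z, hq] at this
  rw [h16]
  omega

theorem bound_fix (hq : Fintype.card F = 4) (hP : IsPGroup 2 P) (hPN : P ≤ C.NJ) (h1 : P ≤ C.N1)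
    {H N : Subgroup G} (hHP : H ≤ P) (hNH : N ≤ H) (hsq : ∀ x ∈ H, x * x ∈ N) :
    Nat.card H ≤ 16 * Nat.card N := by
  classical
  by_cases hHJ : H ≤ C.J
  · exact C.bound_in_J hq hHJ hNH hsq
  obtain ⟨h, hh, hhJ⟩ := SetLike.not_le_iff_exists.1 hHJ
  have he : C.e = 2 := by
    have := C.hF
    rw [hq] at this
    exact Nat.pow_right_injective le_rfl (show 2 ^ C.e = 2 ^ 2 by omega)
  haveI : Finite (F ≃+* F) := Nat.finite_of_card_ne_zero
    (by rw [card_aut (le_trans one_le_two C.he) C.hF]; omega)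
  have hu : ∀ s : F ≃+* F, s * s = 1 := fun s => by
    have h := pow_card_eq_one' (x := s)
    rwa [card_aut (le_trans one_le_two C.he) C.hF, he, pow_two] at h
  have hσh := C.σ_ne_one hP hPN (hHP hh) (h1 (hHP hh)) hhJ
  have hH : Nat.card H ≤ 2 * Nat.card ↥(H ⊓ C.J) := card_le_two_mul fun a ha haJ b hb hbJ =>
    C.div_mem_J hP hPN (hHP ha) (hHP hb)
      (aut_invol_unique (le_trans one_le_two C.he) C.hF (hu _) (hu _)
        (C.σ_ne_one hP hPN (hHP ha) (h1 (hHP ha)) haJ) (C.σ_ne_one hP hPN (hHP hb) (h1 (hHP hb)) hbJ))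
      (iff_of_true (h1 (hHP ha)) (h1 (hHP hb)))
  set H0 := H ⊓ C.J
  set N0 := N ⊓ C.J
  have hH0 : H0 ≤ C.J := inf_le_right
  have hN0 : N0 ≤ C.J := inf_le_right
  have hN0N : Nat.card N0 ≤ Nat.card N := Subgroup.card_le_of_le inf_le_left
  obtain ⟨k₂, -, hact⟩ := C.actB (hPN (hHP hh)) (h1 (hHP hh))
  set s := C.σZ h
  let t : F × F →+ F × F := AddMonoidHom.mk'
    (fun p => (C.kZ h / k₂ * s p.1 + p.1, k₂ * s p.2 + p.2))
    fun a b => Prod.ext (by show _ = _ + _; simp only [Prod.fst_add, map_add]; ring)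
      (by show _ = _ + _; simp only [Prod.snd_add, map_add]; ring)
  set X := C.img H0 hH0
  have hcomm : ∀ x ∈ H0, h * x * h⁻¹ * x⁻¹ ∈ N0 := fun x hx =>
    ⟨commutator_mem_of_sq hsq hh hx.1, C.J.mul_mem (nconj (hPN (hHP hh)) hx.2) (C.J.inv_mem hx.2)⟩
  have hrange : Nat.card (t.comp X.subtype).range ≤ Nat.card (C.img N0 hN0) := by
    refine AddSubgroup.card_le_of_le ?_
    rintro _ ⟨⟨p, x, hx, a, b⟩, rfl⟩
    obtain ⟨c1, c2⟩ := hact x hx.2
    refine ⟨_, hcomm x hx, ?_, ?_⟩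
    · show _ = C.kZ h / k₂ * s p.1 + p.1
      rw [C.H₁.al_mul (nconj (hPN (hHP hh)) hx.2) (C.J.inv_mem hx.2), C.al_inv hx.2, c1, a]
    · show _ = k₂ * s p.2 + p.2
      rw [C.be_mul (nconj (hPN (hHP hh)) hx.2) (C.J.inv_mem hx.2), C.be_inv hx.2, c2, b]
  have hker : Nat.card (t.comp X.subtype).ker ≤ 4 := by
    refine le_trans (Nat.card_le_card_of_injective
      (β := {a : F // C.kZ h / k₂ * s a = a} × {b : F // k₂ * s b = b})
      (fun p => (⟨p.1.1.1, CharTwo.add_eq_zero.1 (congrArg Prod.fst p.2)⟩,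
        ⟨p.1.1.2, CharTwo.add_eq_zero.1 (congrArg Prod.snd p.2)⟩)) ?_) ?_
    · intro p r e
      exact Subtype.ext (Subtype.ext (Prod.ext (congrArg (fun z => z.1.1) e) (congrArg (fun z => z.2.1) e)))
    · rw [Nat.card_prod]
      exact (Nat.mul_le_mul (card_semifix_le _ _) (card_semifix_le _ _)).trans (hq ▸ fixCard_sq_le hσh)
  have hX : Nat.card X ≤ 4 * Nat.card (C.img N0 hN0) := by
    have h := (t.comp X.subtype).ker.card_mul_index
    rw [AddSubgroup.index_ker] at h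
    rw [← h]
    exact Nat.mul_le_mul hker hrange
  have hZ : Nat.card ↥(H0 ⊓ C.Z) ≤ 2 * Nat.card ↥(N0 ⊓ C.Z) := by
    have hd : Nat.card ↥(H0 ⊓ C.Z) ∣ 4 := by
      have := Subgroup.card_dvd_of_le (inf_le_right : H0 ⊓ C.Z ≤ C.Z)
      rwa [C.card_Z, hq] at this
    have hpos : 0 < Nat.card ↥(N0 ⊓ C.Z) := Nat.card_pos
    have hle := Nat.le_of_dvd (by norm_num) hd
    by_cases h4 : Nat.card ↥(H0 ⊓ C.Z) = 4
    · have hZH : C.Z ≤ H0 := (Subgroup.eq_of_le_of_card_ge (inf_le_right : H0 ⊓ C.Z ≤ C.Z)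
        (by rw [h4, C.card_Z, hq])).ge.trans inf_le_left
      obtain ⟨c, hc⟩ : ∃ c, h * C.H₁.ax c * h⁻¹ * (C.H₁.ax c)⁻¹ ≠ 1 := by
        by_contra hn
        push Not at hn
        exact hσh (C.uniqueZ (hPN (hHP hh)) (k := 1) fun c => by simpa using mul_inv_eq_one.1 (hn c)).1
      haveI : Nontrivial ↥(N0 ⊓ C.Z) := Subgroup.nontrivial_iff_exists_ne_one _ |>.2
        ⟨_, ⟨hcomm _ (hZH (C.ax_mem_Z c)),
          C.Z.mul_mem (nconj (C.N_le_NZ (hPN (hHP hh))) (C.ax_mem_Z c)) (C.Z.inv_mem (C.ax_mem_Z c))⟩, hc⟩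
      have := Finite.one_lt_card (α := ↥(N0 ⊓ C.Z))
      omega
    · have : Nat.card ↥(H0 ⊓ C.Z) ≠ 3 := fun e => by rw [e] at hd; exact absurd hd (by decide)
      omega
  rw [C.card_sub H0 hH0] at hH
  rw [C.card_sub N0 hN0] at hN0N
  have := Nat.mul_le_mul hX hZ
  nlinarith

include C in
/-- The sectional 2-rank is at most four when `q = 4`. -/
theorem sectional (hq : Fintype.card F = 4) : Cfsg.SectionalPRankLE 2 4 G := by
  classical
  obtain ⟨S, hJS, hSN⟩ := C.exists_sylow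
  refine Sectional.sectional_of_sylow S ?_
  by_cases h1 : (S : Subgroup G) ≤ C.N1
  · refine Sectional.sectionalPRankLE_of fun H N hNH hsq => ?_
    have h := C.bound_fix hq S.isPGroup' hSN h1 (H := H.map (S : Subgroup G).subtype)
      (N := N.map (S : Subgroup G).subtype) (Subgroup.map_subtype_le H) (Subgroup.map_mono hNH)
      (by rintro _ ⟨x, hx, rfl⟩; exact ⟨x ^ 2, hsq x hx, by rw [pow_two, map_mul]⟩)
    rwa [Subgroup.card_map_of_injective (Subgroup.subtype_injective _),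
      Subgroup.card_map_of_injective (Subgroup.subtype_injective _)] at h
  · obtain ⟨s, hs, hs1⟩ := SetLike.not_le_iff_exists.1 h1
    refine Sectional.sectionalPRankLE_of_no_normal_eight S.isPGroup' fun A hA hAc hA2 => ?_
    set A' := A.map (S : Subgroup G).subtype
    have hA2' : ∀ x ∈ A', x * x = 1 := by
      rintro _ ⟨x, hx, rfl⟩
      rw [← map_mul, ← pow_two, hA2 x hx, map_one]
    have hAn : ∀ u ∈ (S : Subgroup G), ∀ x ∈ A', u * x * u⁻¹ ∈ A' := by
      rintro u hu _ ⟨x, hx, rfl⟩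
      exact ⟨⟨u, hu⟩ * x * ⟨u, hu⟩⁻¹, hA.conj_mem x hx _, rfl⟩
    have hAS : A' ≤ (S : Subgroup G) := Subgroup.map_subtype_le _
    obtain ⟨h12, h21⟩ := (C.side (hSN hs)).resolve_left fun h => hs1 h.1
    have hJZ : A' ⊓ C.J ≤ C.Z := by
      have hel := C.elem_le (inf_le_right : A' ⊓ C.J ≤ C.J) fun x hx => hA2' x hx.1
      intro x hx
      have hc : s * x * s⁻¹ ∈ A' ⊓ C.J := ⟨hAn s hs x hx.1, nconj (hSN hs) hx.2⟩
      rcases hel with h | h
      · have hz : s * x * s⁻¹ ∈ C.Z := ⟨h hc, h12 ▸ ⟨x, h hx, rfl⟩⟩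
        exact (Subgroup.mem_normalizer_iff.1 (C.N_le_NZ (hSN hs)) x).2 hz
      · have hz : s * x * s⁻¹ ∈ C.Z := ⟨h21 ▸ ⟨x, h hx, rfl⟩, h hc⟩
        exact (Subgroup.mem_normalizer_iff.1 (C.N_le_NZ (hSN hs)) x).2 hz
    have hAJ : A' ≤ C.J := by
      intro a ha
      have hconj : ∀ j ∈ C.J, C.H₁.al (a * j * a⁻¹) = C.H₁.al j ∧ C.be (a * j * a⁻¹) = C.be j := by
        intro j hj
        have hw : a * j * a⁻¹ * j⁻¹ ∈ A' ⊓ C.J := ⟨by
          rw [show a * j * a⁻¹ * j⁻¹ = a * (j * a⁻¹ * j⁻¹) by group]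
          exact A'.mul_mem ha (hAn j (hJS hj) _ (A'.inv_mem ha)),
          C.J.mul_mem (nconj (hSN (hAS ha)) hj) (C.J.inv_mem hj)⟩
        obtain ⟨z1, z2⟩ := (C.mem_Z_iff hw.2).1 (hJZ hw)
        rw [show a * j * a⁻¹ = a * j * a⁻¹ * j⁻¹ * j by group, C.H₁.al_mul hw.2 hj, C.be_mul hw.2 hj,
          z1, z2, zero_add, zero_add]
        exact ⟨rfl, rfl⟩
      have ha1 : a ∈ C.N1 := by
        by_contra h1
        obtain ⟨p, r, -, -, -, hact⟩ := C.actS (hSN (hAS ha)) h1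
        obtain ⟨v, hv, hvb⟩ := C.exists_be 1
        have h := (hact v (C.V1_le hv)).2
        rw [(hconj v (C.V1_le hv)).2, hvb, (C.H₁.al_eq_zero (C.V1_le hv)).2 hv, map_zero, mul_zero] at h
        exact one_ne_zero h
      obtain ⟨k₂, -, hact⟩ := C.actB (hSN (hAS ha)) ha1
      have hb : ∀ b : F, k₂ * C.σZ a b = b := fun b => by
        obtain ⟨v, hv, hvb⟩ := C.exists_be b
        rw [← hvb, ← (hact v (C.V1_le hv)).2, (hconj v (C.V1_le hv)).2]
      have hk : k₂ = 1 := by simpa using hb 1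
      obtain ⟨n, hn⟩ := S.isPGroup' ⟨a, hAS ha⟩
      exact C.mem_J_of (hSN (hAS ha)) ha1 ⟨n, congrArg Subtype.val hn⟩
        (RingEquiv.ext fun b => by simpa [hk] using hb b)
    have h := Subgroup.card_le_of_le fun a ha => hJZ ⟨ha, hAJ ha⟩
    rwa [C.card_Z, hq, Subgroup.card_map_of_injective (Subgroup.subtype_injective _)] at h

end Cfsg.Agent.ParabolicPair.Conf
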