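import Cfsg.Agent.Lib.ParabolicPair.Semi
import Mathlib.GroupTheory.Nilpotent
import Mathlib.GroupTheory.Sylow

/-!
# `J` is weakly closed in a Sylow 2-subgroup (S3091)

* `card_le_two_mul`
* `Conf.card_fix_Z`, `Conf.card_fix_V` : fixed points of an element that is not linear
* `Conf.elem_bound`, `Conf.elem_bound_swap` : elementary subgroups outside `J`
* `Conf.le_N_of_two`, `Conf.norm_of_map_le` : `J` is weakly closed
-/

set_option autoImplicit false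

namespace Cfsg.Agent.ParabolicPair

theorem card_le_two_mul {G : Type*} [Group G] [Finite G] {H K : Subgroup G}
    (h : ∀ a ∈ H, a ∉ K → ∀ b ∈ H, b ∉ K → a * b⁻¹ ∈ K) : Nat.card H ≤ 2 * Nat.card ↥(H ⊓ K) := by
  classical
  by_cases he : ∃ a ∈ H, a ∉ K
  swap
  · push Not at he
    rw [inf_eq_left.2 he]
    exact Nat.le_mul_of_pos_left _ (by norm_num)
  obtain ⟨a₀, ha₀, hk₀⟩ := he
  let f : H → Bool × ↥(H ⊓ K) := fun a => if hk : (a : G) ∈ K then (false, ⟨a, Subgroup.mem_inf.2 ⟨a.2, hk⟩⟩)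
    else (true, ⟨a * a₀⁻¹, Subgroup.mem_inf.2 ⟨mul_mem a.2 (inv_mem ha₀), h a a.2 hk a₀ ha₀ hk₀⟩⟩)
  have hf : Function.Injective f := by
    intro a b e
    by_cases ha : (a : G) ∈ K <;> by_cases hb : (b : G) ∈ K <;>
      simp only [f, ha, hb, dif_pos, dif_neg, not_false_eq_true, Prod.mk.injEq, reduceCtorEq, false_and, true_and,
        Subtype.mk.injEq, mul_left_inj, SetLike.coe_eq_coe] at e
    all_goals first | exact e | exact Subtype.ext e | exact Subtype.ext (congrArg Subtype.val e)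
  refine (Nat.card_le_card_of_injective f hf).trans ?_
  simp [Nat.card_prod]

namespace Conf

variable {G : Type*} [Group G] {F : Type*} [Field F] [Fintype F] (C : Conf G F)

/-- The side-fixing elements. -/
abbrev N1 : Subgroup G := Subgroup.normalizer (C.V₁ : Set G)

/-- The normaliser of `J`. -/
abbrev NJ : Subgroup G := Subgroup.normalizer (C.J : Set G)

variable [CharP F 2] [Finite G]

theorem card_fix_Z {g : G} (hg : g ∈ C.NJ) {A : Subgroup G} (hA : A ≤ C.Z)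
    (hc : ∀ x ∈ A, g * x * g⁻¹ = x) : Nat.card A ≤ fixCard (C.σZ g) := by
  refine le_trans (Nat.card_le_card_of_injective (β := {c : F // C.kZ g * C.σZ g c = c})
    (fun x => ⟨C.H₁.co x 0, C.H₁.ax_inj ?_⟩) ?_) (card_semifix_le _ _)
  · rw [← (C.specZ hg).2, ← C.eq_axis (hA x.2), hc x x.2]
  · intro a b e
    refine Subtype.ext ?_
    rw [C.eq_axis (hA a.2), C.eq_axis (hA b.2)]
    exact congrArg C.H₁.ax (congrArg Subtype.val e)

theorem card_fix_aux {g : G} (hg : g ∈ C.NJ) {A : Subgroup G} (hA : A ≤ C.J)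
    (hc : ∀ x ∈ A, g * x * g⁻¹ = x) (χ : G → F) (k : F)
    (hadd : ∀ x ∈ A, ∀ y ∈ A, χ (x * y) = χ x + χ y) (hfix : ∀ x ∈ A, k * C.σZ g (χ x) = χ x)
    (hker : ∀ x ∈ A, χ x = 0 → x ∈ C.Z) : Nat.card A ≤ fixCard (C.σZ g) * fixCard (C.σZ g) := by
  classical
  have h0 : χ 1 = 0 := by
    have h := hadd 1 A.one_mem 1 A.one_mem
    rw [mul_one] at h
    simpa using h
  let f : A →* Multiplicative F :=
    { toFun := fun x => Multiplicative.ofAdd (χ x)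
      map_one' := by show Multiplicative.ofAdd (χ 1) = 1; rw [h0]; rfl
      map_mul' := fun a b => by show Multiplicative.ofAdd (χ ((a : G) * b)) = _; rw [hadd a a.2 b b.2]; rfl }
  have hr : Nat.card f.range ≤ fixCard (C.σZ g) := by
    refine le_trans (Nat.card_le_card_of_injective (β := {c : F // k * C.σZ g c = c})
      (fun y => ⟨Multiplicative.toAdd y.1, ?_⟩) ?_) (card_semifix_le _ _)
    · obtain ⟨_, ⟨x, rfl⟩⟩ := y
      exact hfix x x.2
    · intro a b e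
      exact Subtype.ext (congrArg Subtype.val e : _)
  have hk : Nat.card f.ker ≤ fixCard (C.σZ g) := by
    rw [← Subgroup.card_map_of_injective (H := G) (f := A.subtype) A.subtype_injective]
    refine C.card_fix_Z hg ?_ ?_
    · rintro _ ⟨x, hx, rfl⟩
      exact hker x x.2 (Multiplicative.ofAdd.injective (MonoidHom.mem_ker.1 hx))
    · rintro _ ⟨x, -, rfl⟩
      exact hc x x.2
  rw [← f.ker.card_mul_index, Subgroup.index_ker]
  exact Nat.mul_le_mul hk hr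

theorem card_fix_V {g : G} (hg : g ∈ C.NJ) (h1 : g ∈ C.N1) {A : Subgroup G} (hA : A ≤ C.V₁ ∨ A ≤ C.V₂)
    (hc : ∀ x ∈ A, g * x * g⁻¹ = x) : Nat.card A ≤ fixCard (C.σZ g) * fixCard (C.σZ g) := by
  obtain ⟨k₂, -, hact⟩ := C.actB hg h1
  rcases hA with hA | hA
  · exact C.card_fix_aux hg (hA.trans C.V1_le) hc C.be k₂
      (fun x hx y hy => C.be_mul (C.V1_le (hA hx)) (C.V1_le (hA hy)))
      (fun x hx => by rw [← (hact x (C.V1_le (hA hx))).2, hc x hx])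
      (fun x hx h => ⟨hA hx, (C.mem_V2_iff (C.V1_le (hA hx))).2 h⟩)
  · exact C.card_fix_aux hg (hA.trans C.V2_le) hc C.H₁.al (C.kZ g / k₂)
      (fun x hx y hy => C.H₁.al_mul (C.V2_le (hA hx)) (C.V2_le (hA hy)))
      (fun x hx => by rw [← (hact x (C.V2_le (hA hx))).1, hc x hx])
      (fun x hx h => ⟨(C.H₁.al_eq_zero (C.V2_le (hA hx))).1 h, hA hx⟩)

theorem fix_swap {g : G} (hg : g ∈ C.NJ) (h1 : g ∉ C.N1) {x : G} (hx : x ∈ C.V₁ ∨ x ∈ C.V₂)
    (hc : g * x * g⁻¹ = x) : x ∈ C.Z := by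
  obtain ⟨h12, h21⟩ := (C.side hg).resolve_left fun h => h1 h.1
  rcases hx with hx | hx
  · exact ⟨hx, h12 ▸ ⟨x, hx, hc⟩⟩
  · exact ⟨h21 ▸ ⟨x, hx, hc⟩, hx⟩

variable {P : Subgroup G}

theorem σ_ne_one (hP : IsPGroup 2 P) (hPN : P ≤ C.NJ) {a : G} (ha : a ∈ P) (h1 : a ∈ C.N1) (hJ : a ∉ C.J) :
    C.σZ a ≠ 1 := fun hσ => hJ (C.mem_J_of (hPN ha) h1 (by
      obtain ⟨n, hn⟩ := hP ⟨a, ha⟩
      exact ⟨n, congrArg Subtype.val hn⟩) hσ)

omit [CharP F 2] [Finite G] in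
theorem conj_of_elem {A : Subgroup G} (h2 : ∀ x ∈ A, x * x = 1) {a x : G} (ha : a ∈ A) (hx : x ∈ A) :
    a * x * a⁻¹ = x := by
  have hc : a * x = x * a := by
    have h := self_inv_of_sq (h2 _ (A.mul_mem ha hx))
    rw [mul_inv_rev, self_inv_of_sq (h2 a ha), self_inv_of_sq (h2 x hx)] at h
    exact h.symm
  rw [hc, mul_inv_cancel_right]

theorem σ_invol {a : G} (ha : a ∈ C.NJ) (h : a * a = 1) : C.σZ a * C.σZ a = 1 := by
  rw [← (C.mulZ ha ha).1, h, C.σZ_one]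

/-- Elementary subgroups outside `J` are small. -/
theorem elem_bound (hP : IsPGroup 2 P) (hPN : P ≤ C.NJ) {A : Subgroup G} (hAP : A ≤ P)
    (h2 : ∀ x ∈ A, x * x = 1) (hJ : ¬ A ≤ C.J) : Nat.card A ≤ 2 * Fintype.card F := by
  classical
  have hAB : Nat.card ↥(A ⊓ C.N1) ≤ 2 * Nat.card ↥(A ⊓ C.J) := by
    refine (card_le_two_mul (K := C.J) fun a ha haJ b hb hbJ => ?_).trans
      (Nat.mul_le_mul_left 2 (Subgroup.card_le_of_le (inf_le_inf_right _ inf_le_left)))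
    exact C.div_mem_J hP hPN (hAP ha.1) (hAP hb.1)
      (aut_invol_unique (le_trans one_le_two C.he) C.hF (C.σ_invol (hPN (hAP ha.1)) (h2 a ha.1))
        (C.σ_invol (hPN (hAP hb.1)) (h2 b hb.1)) (C.σ_ne_one hP hPN (hAP ha.1) ha.2 haJ)
        (C.σ_ne_one hP hPN (hAP hb.1) hb.2 hbJ)) (iff_of_true ha.2 hb.2)
  have hA : Nat.card A ≤ 2 * Nat.card ↥(A ⊓ C.N1) := card_le_two_mul fun a ha h1 b hb h1' => by
    rw [C.mem_N1_iff_mul (hPN (hAP ha)) (inv_mem (hPN (hAP hb))), inv_mem_iff]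
    exact iff_of_false h1 h1'
  have hA0 := C.elem_le (inf_le_right : A ⊓ C.J ≤ C.J) fun x hx => h2 x hx.1
  have hfix : ∀ a ∈ A, ∀ x ∈ A ⊓ C.J, a * x * a⁻¹ = x := fun a ha x hx => conj_of_elem h2 ha hx.1
  by_cases hs : ∃ s ∈ A, s ∉ C.N1
  · obtain ⟨s, hs, hs1⟩ := hs
    have hZ : A ⊓ C.J ≤ C.Z := fun x hx => C.fix_swap (hPN (hAP hs)) hs1
      (hA0.imp (fun h => h hx) fun h => h hx) (hfix s hs x hx)
    by_cases hB : A ⊓ C.N1 ≤ C.J
    · calc Nat.card A ≤ 2 * Nat.card ↥(A ⊓ C.N1) := hA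
        _ ≤ 2 * Nat.card C.Z := Nat.mul_le_mul_left 2
          (Subgroup.card_le_of_le fun x hx => hZ ⟨hx.1, hB hx⟩)
        _ = _ := by rw [C.card_Z]
    · obtain ⟨a, ha, haJ⟩ := SetLike.not_le_iff_exists.1 hB
      have h3 := C.card_fix_Z (hPN (hAP ha.1)) hZ (hfix a ha.1)
      have h4 := two_mul_fixCard_le (C.σ_ne_one hP hPN (hAP ha.1) ha.2 haJ)
      omega
  · push Not at hs
    obtain ⟨a, ha, haJ⟩ := SetLike.not_le_iff_exists.1 hJ
    have h3 := C.card_fix_V (hPN (hAP ha)) (hs a ha) hA0 (hfix a ha)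
    have h4 := fixCard_sq_le (C.σ_ne_one hP hPN (hAP ha) (hs a ha) haJ)
    rw [inf_eq_left.2 hs] at hAB
    omega

theorem elem_bound_swap (hq : 4 < Fintype.card F) (hPN : P ≤ C.NJ) {A : Subgroup G}
    (hAP : A ≤ P) (h2 : ∀ x ∈ A, x * x = 1) (hB : A ⊓ C.N1 ≤ C.J)
    (hσ : ∀ a ∈ A, a ∉ C.J → C.σZ a ≠ 1) (hJ : ¬ A ≤ C.J) : Nat.card A < Fintype.card F := by
  obtain ⟨s, hs, hsJ⟩ := SetLike.not_le_iff_exists.1 hJ
  have hout : ∀ a ∈ A, a ∉ C.J → a ∉ C.N1 := fun a ha haJ h => haJ (hB ⟨ha, h⟩)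
  have h1 : Nat.card A ≤ 2 * Nat.card ↥(A ⊓ C.J) := card_le_two_mul fun a ha haJ b hb hbJ =>
    hB (Subgroup.mem_inf.2 ⟨A.mul_mem ha (A.inv_mem hb), by
      rw [C.mem_N1_iff_mul (hPN (hAP ha)) (inv_mem (hPN (hAP hb))), inv_mem_iff]
      exact iff_of_false (hout a ha haJ) (hout b hb hbJ)⟩)
  have hZ : A ⊓ C.J ≤ C.Z := fun x hx => C.fix_swap (hPN (hAP hs)) (hout s hs hsJ)
    ((C.elem_le (inf_le_right : A ⊓ C.J ≤ C.J) fun y hy => h2 y hy.1).imp (fun h => h hx) fun h => h hx)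
    (conj_of_elem h2 hs hx.1)
  have h3 := C.card_fix_Z (hPN (hAP hs)) hZ fun x hx => conj_of_elem h2 hs hx.1
  have h4 := two_mul_fixCard_lt (hσ s hs hsJ) hq
  omega

theorem big_elem (hP : IsPGroup 2 P) (hPN : P ≤ C.NJ) {A : Subgroup G} (hAP : A ≤ P)
    (h2 : ∀ x ∈ A, x * x = 1) (hc : Fintype.card F * Fintype.card F ≤ Nat.card A) : A = C.V₁ ∨ A = C.V₂ := by
  refine C.eq_or (by_contra fun h => ?_) h2 hc
  have := C.elem_bound hP hPN hAP h2 h
  have := C.four_le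
  nlinarith

/-- A conjugate of `J` in such a 2-group is `J`. -/
theorem norm_of_map_le (hP : IsPGroup 2 P) (hPN : P ≤ C.NJ) {g : G}
    (hg : C.J.map (MulAut.conj g).toMonoidHom ≤ P) : g ∈ C.NJ := by
  have img : ∀ V : Subgroup G, V ≤ C.J → (∀ x ∈ V, x * x = 1) → Fintype.card F * Fintype.card F ≤ Nat.card V →
      V.map (MulAut.conj g).toMonoidHom ≤ C.J := by
    intro V hV h2 hc
    rcases C.big_elem hP hPN ((Subgroup.map_mono hV).trans hg)
      (by rintro _ ⟨x, hx, rfl⟩; rw [← map_mul, h2 x hx, map_one])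
      (hc.trans (Subgroup.card_map_of_injective (MulAut.conj g).injective).ge) with h | h
    · exact h ▸ C.V1_le
    · exact h ▸ C.V2_le
  refine Subgroup.mem_normalizer_iff_map_conj_eq.2 (Subgroup.eq_of_le_of_card_ge ?_
    (Subgroup.card_map_of_injective (MulAut.conj g).injective).ge)
  show C.J.map (MulAut.conj g).toMonoidHom ≤ C.J
  conv_lhs => rw [← C.sup, Subgroup.map_sup]
  exact sup_le (img _ C.V1_le (fun x => C.sq1) C.card_V.1.ge) (img _ C.V2_le (fun x => C.sq2) C.card_V.2.ge)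

theorem J_two : IsPGroup 2 C.J := fun x => ⟨2, Subtype.ext (by
  have h : (x : G) * x ∈ C.V₁ := by rw [C.sq_eq x.2]; exact C.H₁.ax_mem _
  have e := C.sq1 h
  show (x : G) ^ 2 ^ 2 = 1
  rw [show (2 : ℕ) ^ 2 = 2 + 2 from rfl, pow_add, pow_two]
  exact e)⟩

/-- A 2-subgroup containing `J` normalises it. -/
theorem le_N_of_two (hP : IsPGroup 2 P) (hJ : C.J ≤ P) : P ≤ C.NJ := by
  haveI : Fact (Nat.Prime 2) := ⟨Nat.prime_two⟩
  haveI := hP.isNilpotent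
  by_contra h
  set R := P ⊓ C.NJ
  have hlt : (R.subgroupOf P) < ⊤ := lt_top_iff_ne_top.2 fun e => h fun x hx =>
    ((e.symm ▸ Subgroup.mem_top (⟨x, hx⟩ : P) : (⟨x, hx⟩ : P) ∈ R.subgroupOf P) : x ∈ R).2
  obtain ⟨⟨x, hxP⟩, hxn, hxR⟩ := SetLike.exists_of_lt (Group.normalizerCondition_of_isNilpotent _ hlt)
  refine hxR ⟨hxP, C.norm_of_map_le (hP.to_le inf_le_left : IsPGroup 2 R) inf_le_right ?_⟩
  rintro _ ⟨y, hy, rfl⟩
  exact (Subgroup.mem_normalizer_iff.1 hxn ⟨y, hJ hy⟩).1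
    (show (⟨y, hJ hy⟩ : P) ∈ R.subgroupOf P from ⟨hJ hy, Subgroup.le_normalizer hy⟩)

/-- A Sylow 2-subgroup of `G` between `J` and `N(J)`. -/
theorem exists_sylow : ∃ S : Sylow 2 G, C.J ≤ (S : Subgroup G) ∧ (S : Subgroup G) ≤ C.NJ := by
  obtain ⟨S, hS⟩ := C.J_two.exists_le_sylow
  exact ⟨S, hS, C.le_N_of_two S.isPGroup' hS⟩

end Conf

end Cfsg.Agent.ParabolicPair
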